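import Cfsg.Agent.Lib.BC77.AlgAut
import Cfsg.Agent.Lib.BC78.PowChar
import Cfsg.Agent.Lib.Blocks.Contrib
import Cfsg.Agent.Lib.BrauerMap.ClassSum
import Cfsg.Agent.Lib.BrauerMap.Basic
import Cfsg.Agent.Lib.Characters.Diag

/-!
# The number of p-conjugates of an irreducible character
-/

set_option autoImplicit false

namespace Cfsg.Agent.Lib.BC77.PConj

open scoped ComplexConjugate
open Cfsg.Agent.Lib.Blocks Cfsg.Agent.Lib.Blocks.Contrib

universe u

variable {G : Type u} [Group G]

/-- Character values on all powers of an element through one list of eigenvalues. -/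
theorem exists_eig [Finite G] {χ : G → ℂ} (hχ : Cfsg.IsCharacter G χ) (g : G) :
    ∃ (ι : Type) (_ : Fintype ι) (z : ι → ℂ),
      (∀ i, z i ^ Nat.card G = 1) ∧ ∀ e : ℕ, χ (g ^ e) = ∑ i, z i ^ e := by
  obtain ⟨n, ρ, rfl⟩ := hχ
  obtain ⟨ι, hι, b, ζ, hb, -, -⟩ := Characters.Diag.exists_eigenbasis_card ρ g
  refine ⟨ι, hι, ζ, fun i => (hb i).2, fun e => ?_⟩
  have h2 : ∀ i, (ρ (g ^ e)) (b i) = ζ i ^ e • b i := by
    intro i
    rw [map_pow]
    induction e with
    | zero => simp
    | succ k ih => rw [pow_succ, Module.End.mul_apply, (hb i).1, map_smul, ih, smul_smul, pow_succ']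
  exact Characters.Diag.trace_eq_sum_eigenvalues b _ _ h2

variable [Finite G] (p : ℕ)

/-- The units modulo the order which are congruent to one modulo the p-prime part. -/
noncomputable def gal : Subgroup (ZMod (Nat.card G))ˣ :=
  (ZMod.unitsMap (Nat.ordCompl_dvd (Nat.card G) p)).ker

instance : NeZero (Nat.card G) := ⟨Nat.card_pos.ne'⟩

theorem pow_congr {g : G} {e f : ℕ} (h : e ≡ f [MOD Nat.card G]) : g ^ e = g ^ f :=
  pow_eq_pow_iff_modEq.2 (h.of_dvd (orderOf_dvd_natCard g))

/-- The exponent of a unit. -/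
noncomputable def expo (u : (ZMod (Nat.card G))ˣ) : ℕ := (u : ZMod (Nat.card G)).val

omit [Finite G] in
theorem expo_cast [NeZero (Nat.card G)] (u : (ZMod (Nat.card G))ˣ) :
    ((expo (G := G) u : ℕ) : ZMod (Nat.card G)) = (u : ZMod (Nat.card G)) :=
  ZMod.natCast_zmod_val _

theorem expo_coprime (u : (ZMod (Nat.card G))ˣ) : (expo (G := G) u).Coprime (Nat.card G) :=
  ZMod.val_coe_unit_coprime u

theorem pow_expo_mul (u v : (ZMod (Nat.card G))ˣ) (g : G) :
    g ^ expo (G := G) (u * v) = (g ^ expo (G := G) u) ^ expo (G := G) v := by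
  rw [← pow_mul]
  refine pow_congr ((ZMod.natCast_eq_natCast_iff _ _ _).1 ?_)
  push_cast
  rw [expo_cast, expo_cast, expo_cast, Units.val_mul]

theorem pow_expo_one (g : G) : g ^ expo (G := G) (1 : (ZMod (Nat.card G))ˣ) = g := by
  conv_rhs => rw [← pow_one g]
  refine pow_congr ((ZMod.natCast_eq_natCast_iff _ _ _).1 ?_)
  rw [expo_cast, Nat.cast_one, Units.val_one]

/-- A conjugate of a character by a power map. -/
noncomputable def conjPow (u : (ZMod (Nat.card G))ˣ) (χ : Cfsg.IrrCharacter G) :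
    Cfsg.IrrCharacter G :=
  letI := Fintype.ofFinite G
  ⟨fun g => (χ : G → ℂ) (g ^ expo (G := G) u),
    BC78.PowChar.isIrrCharacter_pow χ.2 (expo_coprime u)⟩

noncomputable instance : MulAction (ZMod (Nat.card G))ˣ (Cfsg.IrrCharacter G) where
  smul := conjPow
  one_smul χ := Subtype.ext (funext fun g => congrArg (χ : G → ℂ) (pow_expo_one g))
  mul_smul u v χ := Subtype.ext (funext fun g => by
    show (χ : G → ℂ) (g ^ expo (G := G) (u * v)) =
      (χ : G → ℂ) ((g ^ expo (G := G) u) ^ expo (G := G) v)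
    rw [pow_expo_mul])

theorem smul_apply (u : (ZMod (Nat.card G))ˣ) (χ : Cfsg.IrrCharacter G) (g : G) :
    (u • χ : Cfsg.IrrCharacter G).1 g = (χ : G → ℂ) (g ^ expo (G := G) u) := rfl

theorem mem_gal_iff (u : (ZMod (Nat.card G))ˣ) :
    u ∈ gal (G := G) p ↔
      expo (G := G) u ≡ 1 [MOD Nat.card G / p ^ (Nat.card G).factorization p] := by
  rw [gal, MonoidHom.mem_ker, Units.ext_iff, ZMod.unitsMap_val, Units.val_one,
    ← ZMod.natCast_eq_natCast_iff, Nat.cast_one, expo, ZMod.natCast_val]

/-- The orbit is the set of p-conjugates. -/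
theorem mem_orbit_iff (χ ψ : Cfsg.IrrCharacter G) :
    (∃ σ : ℂ ≃+* ℂ, σ (Complex.exp (2 * Real.pi * Complex.I /
        ((Nat.card G / p ^ (Nat.card G).factorization p) : ℕ))) =
      Complex.exp (2 * Real.pi * Complex.I /
        ((Nat.card G / p ^ (Nat.card G).factorization p) : ℕ)) ∧
      (ψ : G → ℂ) = fun g => σ ((χ : G → ℂ) g)) ↔
    ψ ∈ MulAction.orbit (gal (G := G) p) χ := by
  set N := Nat.card G with hN
  set m := N / p ^ N.factorization p with hm
  have hN0 : N ≠ 0 := Nat.card_pos.ne'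
  have hm0 : m ≠ 0 := (Nat.ordCompl_pos p hN0).ne'
  have hmN : m ∣ N := Nat.ordCompl_dvd N p
  set η := Complex.exp (2 * Real.pi * Complex.I / (m : ℕ)) with hη
  have hprim : IsPrimitiveRoot η m := Complex.isPrimitiveRoot_exp m hm0
  have hηN : η ^ N = 1 := (hprim.pow_eq_one_iff_dvd N).2 hmN
  have hval : ∀ (σ : ℂ ≃+* ℂ) (k : ℕ), (∀ z : ℂ, z ^ N = 1 → σ z = z ^ k) → ∀ g : G,
      σ ((χ : G → ℂ) g) = (χ : G → ℂ) (g ^ k) := by
    intro σ k hσ g
    obtain ⟨ι, _, z, hz, hsum⟩ := exists_eig (Characters.Basic.isCharacter_irr χ) g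
    rw [hsum k, show (χ : G → ℂ) g = ∑ i, z i ^ 1 by rw [← hsum 1, pow_one], map_sum]
    exact Finset.sum_congr rfl fun i _ => by rw [pow_one, hσ _ (hz i)]
  constructor
  · rintro ⟨σ, hσ, hψ⟩
    have hζ := Complex.isPrimitiveRoot_exp N hN0
    set ζ := Complex.exp (2 * Real.pi * Complex.I / (N : ℕ))
    obtain ⟨k, -, hk⟩ := hζ.eq_pow_of_pow_eq_one (ξ := σ ζ) (by rw [← map_pow, hζ.pow_eq_one, map_one])
    have hk' : k.Coprime N := by
      rw [← hζ.pow_iff_coprime (Nat.pos_of_ne_zero hN0), hk]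
      exact hζ.map_of_injective σ.injective
    have hroot : ∀ z : ℂ, z ^ N = 1 → σ z = z ^ k := by
      intro z hz
      obtain ⟨i, -, rfl⟩ := hζ.eq_pow_of_pow_eq_one hz
      rw [map_pow, ← hk, ← pow_mul, ← pow_mul, mul_comm]
    refine ⟨⟨ZMod.unitOfCoprime k hk', ?_⟩, ?_⟩
    · rw [mem_gal_iff]
      have h1 : η ^ k = η ^ 1 := by rw [pow_one, ← hroot η hηN, hσ]
      have h2 : k ≡ 1 [MOD m] :=
        hprim.pow_inj (Nat.mod_lt _ (Nat.pos_of_ne_zero hm0)) (Nat.mod_lt _ (Nat.pos_of_ne_zero hm0))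
          (by rw [hprim.eq_orderOf, pow_mod_orderOf, pow_mod_orderOf, h1])
      refine Nat.ModEq.trans ?_ h2
      show ((ZMod.unitOfCoprime k hk' : (ZMod N)ˣ) : ZMod N).val ≡ k [MOD m]
      rw [ZMod.coe_unitOfCoprime, ZMod.val_natCast]
      exact (Nat.mod_modEq k N).of_dvd hmN
    · refine Subtype.ext (funext fun g => ?_)
      rw [hψ]
      show (χ : G → ℂ) (g ^ expo (G := G) (ZMod.unitOfCoprime k hk')) = σ ((χ : G → ℂ) g)
      rw [hval σ k hroot g]
      refine congrArg (χ : G → ℂ) (pow_congr ?_)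
      show ((ZMod.unitOfCoprime k hk' : (ZMod N)ˣ) : ZMod N).val ≡ k [MOD N]
      rw [ZMod.coe_unitOfCoprime, ZMod.val_natCast]
      exact Nat.mod_modEq k N
  · rintro ⟨⟨u, hu⟩, rfl⟩
    obtain ⟨σ, hσ⟩ := AlgAut.exists_ringEquiv_pow (Nat.pos_of_ne_zero hN0) (expo_coprime (G := G) u)
    refine ⟨σ, ?_, funext fun g => (hval σ _ hσ g).symm⟩
    rw [mem_gal_iff] at hu
    have hu' : expo (G := G) u % orderOf η = 1 % orderOf η := by
      rw [← hprim.eq_orderOf]; exact hu
    rw [hσ η hηN, ← pow_mod_orderOf η (expo (G := G) u), hu', pow_mod_orderOf, pow_one]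

/-- The p-prime part of an exponent in `gal` acts trivially on p-regular elements. -/
theorem pow_expo_regular [hp : Fact p.Prime] {u : (ZMod (Nat.card G))ˣ} (hu : u ∈ gal (G := G) p)
    {g : G} (hg : ¬ p ∣ orderOf g) : g ^ expo (G := G) u = g := by
  conv_rhs => rw [← pow_one g]
  refine pow_eq_pow_iff_modEq.2 (((mem_gal_iff p u).1 hu).of_dvd ?_)
  exact Nat.dvd_ordCompl_of_dvd_not_dvd (orderOf_dvd_natCard g) hg

theorem card_gal_factorization [hp : Fact p.Prime] :
    (Nat.card (gal (G := G) p)).factorization p ≤ (Nat.card G).factorization p - 1 := by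
  set N := Nat.card G with hN
  set a := N.factorization p
  set m := N / p ^ a with hm
  have hN0 : N ≠ 0 := Nat.card_pos.ne'
  haveI : NeZero m := ⟨(Nat.ordCompl_pos p hN0).ne'⟩
  have h1 := (gal (G := G) p).card_mul_index
  have h2 : (gal (G := G) p).index = m.totient := by
    rw [gal, Subgroup.index_ker, MonoidHom.range_eq_top.2 (ZMod.unitsMap_surjective _),
      Subgroup.card_top, Nat.card_eq_fintype_card, ZMod.card_units_eq_totient]
  rw [h2, Nat.card_eq_fintype_card (α := (ZMod N)ˣ), ZMod.card_units_eq_totient] at h1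
  have h3 : N.totient = (p ^ a).totient * m.totient := by
    rw [← Nat.totient_mul ((Nat.coprime_ordCompl hp.out hN0).pow_left a),
      Nat.ordProj_mul_ordCompl_eq_self]
  rw [h3] at h1
  rw [Nat.eq_of_mul_eq_mul_right (Nat.totient_pos.2 (NeZero.pos m)) h1]
  rcases Nat.eq_zero_or_pos a with ha | ha
  · simp [ha]
  · have hp1 : ¬ p ∣ p - 1 := fun h => by
      have h1 := hp.out.two_le
      have := Nat.le_of_dvd (by omega) h
      omega
    rw [Nat.totient_prime_pow hp.out ha, Nat.factorization_mul (pow_ne_zero _ hp.out.ne_zero)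
      (by have := hp.out.two_le; omega), Finsupp.add_apply, Nat.factorization_pow,
      Finsupp.smul_apply, hp.out.factorization_self, Nat.factorization_eq_zero_of_not_dvd hp1,
      add_zero, smul_eq_mul, mul_one]

/-- The step between consecutive exponents in the p-part. -/
noncomputable def step (G : Type u) [Group G] : ℕ := p * (Nat.card G / p ^ (Nat.card G).factorization p)

/-- The length of that part. -/
noncomputable def len (G : Type u) [Group G] : ℕ := p ^ ((Nat.card G).factorization p - 1)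

theorem step_mul_len [hp : Fact p.Prime] (ha : 0 < (Nat.card G).factorization p) :
    step p G * len p G = Nat.card G := by
  conv_rhs => rw [← Nat.ordProj_mul_ordCompl_eq_self (Nat.card G) p]
  rw [step, len]
  have h : p * p ^ ((Nat.card G).factorization p - 1) = p ^ (Nat.card G).factorization p := by
    rw [← pow_succ', Nat.sub_add_cancel ha]
  rw [mul_right_comm, h]

theorem coprime_step [hp : Fact p.Prime] (ha : 0 < (Nat.card G).factorization p) (i : ℕ) :
    (1 + i * step p G).Coprime (Nat.card G) := by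
  rw [← Nat.ordProj_mul_ordCompl_eq_self (Nat.card G) p]
  refine Nat.Coprime.mul_right ((Nat.Coprime.pow_right _ ?_)) ?_
  · rw [step, ← mul_assoc, mul_comm i p, mul_assoc]
    exact (Nat.coprime_add_mul_left_left 1 p _).2 (Nat.coprime_one_left p)
  · rw [step, ← mul_assoc, mul_comm (i * p)]
    exact (Nat.coprime_add_mul_left_left 1 _ _).2 (Nat.coprime_one_left _)

/-- The units congruent to one modulo the step. -/
noncomputable def stepUnit [hp : Fact p.Prime] (ha : 0 < (Nat.card G).factorization p) (i : ℕ) :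
    (ZMod (Nat.card G))ˣ :=
  ZMod.unitOfCoprime _ (coprime_step p ha i)

/-- The p-part of the Galois group. -/
noncomputable def galP [hp : Fact p.Prime] (ha : 0 < (Nat.card G).factorization p) :
    Subgroup (ZMod (Nat.card G))ˣ :=
  let M : Submonoid (ZMod (Nat.card G))ˣ :=
    { carrier := Set.range (stepUnit p ha)
      one_mem' := ⟨0, Units.ext (by simp [stepUnit])⟩
      mul_mem' := by
        rintro _ _ ⟨i, rfl⟩ ⟨j, rfl⟩
        refine ⟨i + j + i * j * step p G, Units.ext ?_⟩
        simp only [stepUnit, ZMod.coe_unitOfCoprime, Units.val_mul]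
        push_cast
        ring }
  { M with
    inv_mem' := fun {x} hx =>
      show x⁻¹ ∈ M by
        rw [inv_eq_of_mul_eq_one_right (b := x ^ (orderOf x - 1))
          (by rw [← pow_succ', Nat.sub_add_cancel (orderOf_pos x), pow_orderOf_eq_one])]
        exact pow_mem hx _ }

theorem mem_galP [hp : Fact p.Prime] (ha : 0 < (Nat.card G).factorization p)
    {u : (ZMod (Nat.card G))ˣ} :
    u ∈ galP p ha ↔ ∃ i, stepUnit p ha i = u := Iff.rfl

/-- The parametrisation of the p-part. -/
noncomputable def galPEquiv [hp : Fact p.Prime] (ha : 0 < (Nat.card G).factorization p) :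
    Fin (len p G) ≃ galP p ha :=
  Equiv.ofBijective (fun i => ⟨stepUnit p ha i, i, rfl⟩) (by
    have hN := step_mul_len p ha
    have hlen : 0 < len p G := pow_pos hp.out.pos _
    have hkey : ∀ i j : ℕ, stepUnit p ha i = stepUnit p ha j ↔ i ≡ j [MOD len p G] := by
      intro i j
      rw [Units.ext_iff, stepUnit, stepUnit, ZMod.coe_unitOfCoprime, ZMod.coe_unitOfCoprime,
        ZMod.natCast_eq_natCast_iff]
      have hs : step p G ≠ 0 := fun h => by
        rw [h, zero_mul] at hN
        exact Nat.card_pos.ne' hN.symm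
      constructor
      · intro h
        have h' := Nat.ModEq.add_left_cancel' 1 h
        rw [← hN, mul_comm i, mul_comm j] at h'
        exact (Nat.ModEq.mul_left_cancel_iff' hs).1 h'
      · intro h
        refine Nat.ModEq.add_left 1 ?_
        rw [← hN, mul_comm i, mul_comm j]
        exact h.mul_left' _
    refine ⟨fun i j h => ?_, fun u => ?_⟩
    · exact Fin.ext (((hkey i j).1 (congrArg Subtype.val h)).eq_of_lt_of_lt i.2 j.2)
    · obtain ⟨i, hi⟩ := u.2
      refine ⟨⟨i % len p G, Nat.mod_lt _ hlen⟩, Subtype.ext ?_⟩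
      rw [← hi]
      exact (hkey _ _).2 (Nat.mod_modEq _ _))

theorem isPGroup_galP [hp : Fact p.Prime] (ha : 0 < (Nat.card G).factorization p) :
    IsPGroup p (galP p ha) :=
  IsPGroup.of_card (n := (Nat.card G).factorization p - 1)
    (by rw [← Nat.card_congr (galPEquiv p ha), Nat.card_fin]; rfl)

theorem galP_le [hp : Fact p.Prime] (ha : 0 < (Nat.card G).factorization p) :
    galP p ha ≤ gal (G := G) p := by
  rintro _ ⟨i, rfl⟩
  rw [mem_gal_iff]
  set m := Nat.card G / p ^ (Nat.card G).factorization p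
  show ((stepUnit p ha i : (ZMod (Nat.card G))ˣ) : ZMod (Nat.card G)).val ≡ 1 [MOD m]
  rw [stepUnit, ZMod.coe_unitOfCoprime, ZMod.val_natCast]
  refine ((Nat.mod_modEq _ _).of_dvd (Nat.ordCompl_dvd _ p)).trans ?_
  conv_rhs => rw [← add_zero 1]
  exact Nat.ModEq.add_left 1 (Nat.modEq_zero_iff_dvd.2 ((dvd_mul_left _ p).mul_left i))

variable [Fintype G] [hp : Fact p.Prime]

/-- The average of the conjugates of a character value over the p-part. -/
noncomputable def avg (ha : 0 < (Nat.card G).factorization p) (χ : Cfsg.IrrCharacter G) (g : G) :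
    ℂ :=
  ((len p G : ℕ) : ℂ)⁻¹ * ∑ᶠ u : galP p ha, (χ : G → ℂ) (g ^ expo (G := G) (u : (ZMod (Nat.card G))ˣ))

theorem len_ne_zero : ((len p G : ℕ) : ℂ) ≠ 0 :=
  Nat.cast_ne_zero.2 (pow_pos hp.out.pos _).ne'

/-- The average is an algebraic integer. -/
theorem isIntegral_avg (ha : 0 < (Nat.card G).factorization p) (χ : Cfsg.IrrCharacter G) (g : G) :
    IsIntegral ℤ (avg p ha χ g) := by
  classical
  obtain ⟨ι, _, z, hz, hsum⟩ := exists_eig (Characters.Basic.isCharacter_irr χ) g
  have hpow : ∀ i : ℕ, g ^ expo (G := G) (stepUnit p ha i) = g ^ (1 + i * step p G) := by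
    intro i
    refine pow_congr ?_
    show ((stepUnit p ha i : (ZMod (Nat.card G))ˣ) : ZMod (Nat.card G)).val ≡ _ [MOD _]
    rw [stepUnit, ZMod.coe_unitOfCoprime, ZMod.val_natCast]
    exact Nat.mod_modEq _ _
  have h : avg p ha χ g = ∑ j, if z j ^ step p G = 1 then z j else 0 := by
    rw [avg, finsum_eq_sum_of_fintype, ← (galPEquiv p ha).sum_comp]
    rw [Finset.sum_congr rfl fun i _ => show (χ : G → ℂ) (g ^ expo (G := G)
        ((galPEquiv p ha i : galP p ha) : (ZMod (Nat.card G))ˣ)) =
        ∑ j, z j * (z j ^ step p G) ^ (i : ℕ) by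
      show (χ : G → ℂ) (g ^ expo (G := G) (stepUnit p ha (i : ℕ))) = _
      rw [hpow, hsum]
      exact Finset.sum_congr rfl fun j _ => by
        rw [pow_add, pow_one, ← pow_mul, mul_comm (i : ℕ)]]
    rw [Finset.sum_comm, Finset.mul_sum]
    refine Finset.sum_congr rfl fun j _ => ?_
    rw [← Finset.mul_sum, Fin.sum_univ_eq_sum_range (fun i => (z j ^ step p G) ^ i)]
    split_ifs with hw
    · rw [hw]
      simp only [one_pow, Finset.sum_const, Finset.card_range, nsmul_one]
      field_simp [len_ne_zero p]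
    · have hg : (∑ i ∈ Finset.range (len p G), (z j ^ step p G) ^ i) * (z j ^ step p G - 1) = 0 := by
        rw [geom_sum_mul, ← pow_mul, step_mul_len p ha, hz j, sub_self]
      rw [(mul_eq_zero.1 hg).resolve_right (sub_ne_zero.2 hw), mul_zero, mul_zero]
  rw [h]
  refine IsIntegral.sum _ fun j _ => ?_
  split_ifs
  · exact IsIntegral.of_pow Nat.card_pos (by rw [hz j]; exact isIntegral_one)
  · exact isIntegral_zero

theorem avg_invariant (ha : 0 < (Nat.card G).factorization p) (χ : Cfsg.IrrCharacter G) (g : G)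
    (v : galP p ha) :
    avg p ha χ (g ^ expo (G := G) (v : (ZMod (Nat.card G))ˣ)) = avg p ha χ g := by
  classical
  rw [avg, avg, finsum_eq_sum_of_fintype, finsum_eq_sum_of_fintype]
  congr 1
  exact Fintype.sum_equiv (Equiv.mulLeft v) _ _ fun u => by
    rw [Equiv.coe_mulLeft, Subgroup.coe_mul, pow_expo_mul]

theorem avg_classFun (ha : 0 < (Nat.card G).factorization p) (χ : Cfsg.IrrCharacter G) :
    Cfsg.IsClassFunction G (avg p ha χ) := fun g h => by
  classical
  rw [avg, avg]
  congr 1
  refine finsum_congr fun u => ?_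
  rw [conj_pow]
  exact Characters.Basic.isClassFunction_irr χ _ h

/-- Inner product of the average with the character. -/
theorem sum_avg_mul_conj (ha : 0 < (Nat.card G).factorization p) (χ : Cfsg.IrrCharacter G) :
    ∑ g : G, avg p ha χ g * conj ((χ : G → ℂ) g) =
      (Nat.card (MulAction.stabilizer (galP p ha) χ) : ℂ) * Nat.card G / (len p G : ℕ) := by
  classical
  have h : ∀ u : galP p ha, ∑ g : G, (χ : G → ℂ) (g ^ expo (G := G) (u : (ZMod (Nat.card G))ˣ)) *
      conj ((χ : G → ℂ) g) = if u • χ = χ then (Nat.card G : ℂ) else 0 := by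
    intro u
    have h1 := Characters.Basic.classInner_irr (u • χ) χ
    rw [Cfsg.classInner] at h1
    rw [show ∑ g : G, (χ : G → ℂ) (g ^ expo (G := G) (u : (ZMod (Nat.card G))ˣ)) *
      conj ((χ : G → ℂ) g) = (Nat.card G : ℂ) * ((Nat.card G : ℂ)⁻¹ *
        ∑ g : G, (u • χ : Cfsg.IrrCharacter G).1 g * conj ((χ : G → ℂ) g)) by
      rw [← mul_assoc, mul_inv_cancel₀ (Nat.cast_ne_zero.2 Nat.card_pos.ne'), one_mul]
      rfl, h1, mul_ite, mul_one, mul_zero]
  simp only [avg, finsum_eq_sum_of_fintype, mul_assoc, Finset.sum_mul, ← Finset.mul_sum]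
  rw [Finset.sum_comm, Finset.sum_congr rfl fun u _ => h u, ← Finset.sum_filter, Finset.sum_const,
    nsmul_eq_mul, inv_mul_eq_div, Nat.card_eq_fintype_card
      (α := MulAction.stabilizer (galP p ha) χ), Fintype.card_subtype]
  rfl

variable {M : Ideal Cfsg.AlgInt}

/-- Conjugates under the Galois group lie in the same block. -/
theorem sameBlock_smul [M.IsMaximal] (hM : Cfsg.IsPModular p M) {u : (ZMod (Nat.card G))ˣ}
    (hu : u ∈ gal (G := G) p) (χ : Cfsg.IrrCharacter G) :
    Cfsg.SameBlock M ((u • χ : Cfsg.IrrCharacter G) : G → ℂ) (χ : G → ℂ) := by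
  classical
  have hB := isPBlock_blockOf (M := M) χ
  by_contra hno
  have hnm : u • χ ∉ Cfsg.blockOf M (χ : G → ℂ) := fun h => hno (sameBlock_iff_omegaBar.2 (mem_blockOf_iff.1 h).symm)
  have h0 := contribN_eq_zero (p := p) hM hB (mem_blockOf_self χ) hnm
  have hpos := contribN_self_pos hM hB (mem_blockOf_self (M := M) χ)
  have heq : regSum p (χ : G → ℂ) ((u • χ : Cfsg.IrrCharacter G) : G → ℂ) =
      regSum p (χ : G → ℂ) (χ : G → ℂ) := by
    rw [regSum_eq_sum, regSum_eq_sum]
    refine Finset.sum_congr rfl fun g _ => ?_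
    split_ifs with h
    · rfl
    · rw [smul_apply, pow_expo_regular p hu (by rwa [orderOf_inv])]
  rw [regSum_eq_contribN, regSum_eq_contribN, h0, Int.cast_zero, mul_zero, zero_eq_mul] at heq
  rcases heq with h | h
  · exact (primeToCard_pos (G := G) p).ne' (Nat.cast_eq_zero.1 h)
  · exact hpos.ne' (Int.cast_eq_zero.1 h)

theorem main_congr [M.IsMaximal] (hM : Cfsg.IsPModular p M)
    (ha : 0 < (Nat.card G).factorization p) (χ : Cfsg.IrrCharacter G) :
    (∑ g : G, avg p ha χ g * conj ((χ : G → ℂ) g)) / (χ : G → ℂ) 1 ∈ localRing M ∧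
      IsIntegral ℤ ((∑ g : G, avg p ha χ g * conj ((χ : G → ℂ) g)) / (χ : G → ℂ) 1) ∧
      Cfsg.MemLocalIdeal M
        ((∑ g : G, avg p ha χ g * conj ((χ : G → ℂ) g)) / (χ : G → ℂ) 1 -
          (Nat.card G : ℂ) / (χ : G → ℂ) 1) := by
  classical
  haveI := Fintype.ofFinite (ConjClasses G)
  set A := avg p ha χ with hA
  have hA_conj : ∀ a b : G, IsConj a b → A a = A b := fun a b e => by
    exact (Characters.Basic.classFunction_apply_of_isConj (avg_classFun p ha χ) e)
  have hsum : ∀ F : G → ℂ, (∀ a b : G, IsConj a b → F a = F b) →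
      (∑ g : G, F g * conj ((χ : G → ℂ) g)) / (χ : G → ℂ) 1 =
        ∑ c : ConjClasses G, F c.out * Cfsg.centralChar (χ : G → ℂ) c.out⁻¹ := by
    intro F hF
    have h := BrauerMap.ClassSum.sum_invariant (G := G) Set.univ (fun _ _ _ _ => trivial)
      (fun g => F g * conj ((χ : G → ℂ) g)) (fun a b e => by
        rw [hF a b e, Characters.Basic.classFunction_apply_of_isConj
          (Characters.Basic.isClassFunction_irr χ) e])
    simp only [Set.mem_univ, Finset.filter_true] at h
    rw [h, Finset.sum_div]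
    refine Finset.sum_congr rfl fun c _ => ?_
    have hinv : Subgroup.centralizer ({c.out⁻¹} : Set G) =
        Subgroup.centralizer ({c.out} : Set G) := by
      ext y
      rw [Subgroup.mem_centralizer_singleton_iff, Subgroup.mem_centralizer_singleton_iff]
      exact Commute.inv_right_iff (a := y) (b := c.out)
    rw [Cfsg.centralChar, hinv, BrauerMap.ClassSum.card_isConj,
      Characters.Basic.apply_inv (Characters.Basic.isCharacter_irr χ), nsmul_eq_mul]
    ring
  have hint : IsIntegral ℤ ((∑ g : G, A g * conj ((χ : G → ℂ) g)) / (χ : G → ℂ) 1) := by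
    rw [hsum A hA_conj]
    exact IsIntegral.sum _ fun c _ =>
      (isIntegral_avg p ha χ c.out).mul (isIntegral_centralChar χ c.out⁻¹)
  refine ⟨mem_localRing_of_isIntegral hint, hint, ?_⟩
  -- reduce to the classes
  have hNN : (Nat.card G : ℂ) = ∑ g : G, (χ : G → ℂ) g * conj ((χ : G → ℂ) g) := by
    have h1 := Characters.Basic.classInner_self_irr χ
    rw [Cfsg.classInner, inv_mul_eq_one₀ (Nat.cast_ne_zero.2 Nat.card_pos.ne')] at h1
    exact h1
  rw [hNN, hsum A hA_conj, hsum _ (fun a b e => Characters.Basic.classFunction_apply_of_isConj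
    (Characters.Basic.isClassFunction_irr χ) e)]
  let RA : ConjClasses G → localRing M := fun c =>
    ⟨A c.out, mem_localRing_of_isIntegral (isIntegral_avg p ha χ c.out)⟩
  let RC : ConjClasses G → localRing M := fun c =>
    ⟨(χ : G → ℂ) c.out, mem_localRing_of_isIntegral
      (Characters.Basic.isIntegral_apply (Characters.Basic.isCharacter_irr χ) _)⟩
  let W : ConjClasses G → localRing M := fun c => ccR M χ c.out⁻¹
  rw [show (∑ c : ConjClasses G, A c.out * Cfsg.centralChar (χ : G → ℂ) c.out⁻¹) =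
      ((∑ c, RA c * W c : localRing M) : ℂ) by push_cast; rfl,
    show (∑ c : ConjClasses G, (χ : G → ℂ) c.out * Cfsg.centralChar (χ : G → ℂ) c.out⁻¹) =
      ((∑ c, RC c * W c : localRing M) : ℂ) by push_cast; rfl,
    memLocalIdeal_sub_iff, ← sub_eq_zero, map_sum, map_sum, ← Finset.sum_sub_distrib]
  -- the action on classes
  letI : MulAction (galP p ha) (ConjClasses G) :=
    { smul := fun u c => Quotient.liftOn c
        (fun g => ConjClasses.mk (g ^ expo (G := G) (u : (ZMod (Nat.card G))ˣ)⁻¹))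
        (fun a b (e : IsConj a b) => ConjClasses.mk_eq_mk_iff_isConj.2 (by
          obtain ⟨x, hx⟩ := isConj_iff.1 e
          exact isConj_iff.2 ⟨x, by rw [← conj_pow, hx]⟩))
      one_smul := fun c => Quotient.inductionOn c fun g => by
        show ConjClasses.mk (g ^ expo (G := G) ((1 : galP p ha) : (ZMod (Nat.card G))ˣ)⁻¹) = _
        rw [OneMemClass.coe_one, inv_one, pow_expo_one]
        rfl
      mul_smul := fun u v c => Quotient.inductionOn c fun g => by
        show ConjClasses.mk _ = ConjClasses.mk ((g ^ _) ^ _)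
        rw [← pow_expo_mul, Subgroup.coe_mul, mul_inv_rev] }
  haveI : CharP (Cfsg.AlgInt ⧸ M) p := charP_residue hM
  have hout : ∀ (u : galP p ha) (c : ConjClasses G),
      IsConj (u • c).out (c.out ^ expo (G := G) (u : (ZMod (Nat.card G))ˣ)⁻¹) := by
    intro u c
    rw [← ConjClasses.mk_eq_mk_iff_isConj]
    refine (Quotient.out_eq (u • c)).trans ?_
    conv_lhs => rw [← Quotient.out_eq c]
    rfl
  have hχmod : ∀ (v : galP p ha) (g : G) (h1 : (χ : G → ℂ) g ∈ localRing M)
      (h2 : (χ : G → ℂ) (g ^ expo (G := G) (v : (ZMod (Nat.card G))ˣ)) ∈ localRing M),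
      residue M ⟨_, h2⟩ = residue M ⟨_, h1⟩ := by
    intro v g h1 h2
    obtain ⟨i, hi⟩ := v.2
    obtain ⟨ι, _, z, hz, hsz⟩ := exists_eig (Characters.Basic.isCharacter_irr χ) g
    have hzR : ∀ j, z j ∈ localRing M := fun j => mem_localRing_of_isIntegral
      (IsIntegral.of_pow Nat.card_pos (by rw [hz j]; exact isIntegral_one))
    have e1 : (⟨_, h1⟩ : localRing M) = ∑ j, (⟨z j, hzR j⟩ : localRing M) := by
      apply Subtype.ext
      push_cast
      simpa using hsz 1
    have e2 : (⟨_, h2⟩ : localRing M) =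
        ∑ j, (⟨z j, hzR j⟩ : localRing M) * (⟨z j, hzR j⟩ ^ step p G) ^ i := by
      apply Subtype.ext
      push_cast
      rw [pow_congr (e := expo (G := G) (v : (ZMod (Nat.card G))ˣ)) (f := 1 + i * step p G) (by
        show ((v : (ZMod (Nat.card G))ˣ) : ZMod (Nat.card G)).val ≡ _ [MOD _]
        rw [← hi, stepUnit, ZMod.coe_unitOfCoprime, ZMod.val_natCast]
        exact Nat.mod_modEq _ _), hsz]
      exact Finset.sum_congr rfl fun j _ => by rw [pow_add, pow_one, ← pow_mul, mul_comm i]
    rw [e1, e2, map_sum, map_sum]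
    refine Finset.sum_congr rfl fun j _ => ?_
    rw [map_mul, map_pow]
    have hone : residue M (⟨z j, hzR j⟩ ^ step p G) = 1 := by
      have h3 : residue M (⟨z j, hzR j⟩ ^ step p G) ^ len p G = 1 := by
        rw [← map_pow, ← map_one (residue M), ← pow_mul, step_mul_len p ha]
        congr 1
        exact Subtype.ext (by simpa using hz j)
      have h4 : (residue M (⟨z j, hzR j⟩ ^ step p G) - 1) ^ len p G = 0 := by
        rw [len, sub_pow_char_pow, one_pow]
        exact sub_eq_zero.2 h3
      exact sub_eq_zero.1 (eq_zero_of_pow_eq_zero h4)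
    rw [hone, one_pow, mul_one]
  rw [BrauerMap.Basic.sum_eq_sum_fixed (isPGroup_galP p ha)
    (fun c => residue M (RA c * W c) - residue M (RC c * W c)) (fun u c => by
      obtain ⟨v, hv⟩ : ∃ v : galP p ha, (v : (ZMod (Nat.card G))ˣ) =
        (u : (ZMod (Nat.card G))ˣ)⁻¹ := ⟨u⁻¹, rfl⟩
      have e := hout u c
      rw [← hv] at e
      have hA' : residue M (RA (u • c)) = residue M (RA c) :=
        congrArg (residue M) (Subtype.ext ((hA_conj _ _ e).trans (avg_invariant p ha χ c.out v)))
      have hC' : residue M (RC (u • c)) = residue M (RC c) := by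
        refine Eq.trans ?_ (hχmod v c.out (RC c).2 (mem_localRing_of_isIntegral
          (Characters.Basic.isIntegral_apply (Characters.Basic.isCharacter_irr χ) _)))
        exact congrArg (residue M) (Subtype.ext (Characters.Basic.classFunction_apply_of_isConj
          (Characters.Basic.isClassFunction_irr χ) e))
      have hW' : residue M (W (u • c)) = residue M (W c) := by
        have hS := sameBlock_iff_residue.1 (sameBlock_smul p hM (galP_le p ha v.2) χ) c.out⁻¹
        refine Eq.trans ?_ hS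
        refine congrArg (residue M) (Subtype.ext ?_)
        show Cfsg.centralChar (χ : G → ℂ) _ = Cfsg.centralChar _ _
        have e' : IsConj (u • c).out⁻¹ (c.out⁻¹ ^ expo (G := G) (v : (ZMod (Nat.card G))ˣ)) := by
          obtain ⟨x, hx⟩ := isConj_iff.1 e
          exact isConj_iff.2 ⟨x, by rw [inv_pow, ← hx]; group⟩
        rw [centralChar_eq_of_isConj χ e', Cfsg.centralChar, Cfsg.centralChar, smul_apply,
          smul_apply, one_pow]
        congr 2
        set k := expo (G := G) (v : (ZMod (Nat.card G))ˣ)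
        obtain ⟨l, hl⟩ := exists_pow_eq_self_of_coprime (x := c.out⁻¹)
          (Nat.Coprime.coprime_dvd_right (orderOf_dvd_natCard _) (expo_coprime _))
        have : Subgroup.centralizer ({c.out⁻¹ ^ k} : Set G) =
            Subgroup.centralizer ({c.out⁻¹} : Set G) := by
          ext y
          rw [Subgroup.mem_centralizer_singleton_iff, Subgroup.mem_centralizer_singleton_iff]
          exact ⟨fun hy => hl ▸ Commute.pow_right hy l, fun hy => Commute.pow_right hy k⟩
        rw [this]
      simp only [map_mul, hA', hC', hW'])]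
  refine Finset.sum_eq_zero fun c hc => ?_
  rw [Finset.mem_filter] at hc
  have hfix := MulAction.mem_fixedPoints.1 hc.2
  have hAC : RA c = RC c := by
    apply Subtype.ext
    show avg p ha χ c.out = (χ : G → ℂ) c.out
    rw [avg, finsum_eq_sum_of_fintype, Finset.sum_congr rfl (g := fun _ => (χ : G → ℂ) c.out)
      fun v _ => ?_, Finset.sum_const, Finset.card_univ, ← Fintype.card_congr (galPEquiv p ha),
      Fintype.card_fin, nsmul_eq_mul, ← mul_assoc, inv_mul_cancel₀ (len_ne_zero p), one_mul]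
    have e := hout v⁻¹ c
    rw [hfix v⁻¹, Subgroup.coe_inv, inv_inv] at e
    exact (Characters.Basic.classFunction_apply_of_isConj
      (Characters.Basic.isClassFunction_irr χ) e).symm
  rw [hAC, sub_self]

end Cfsg.Agent.Lib.BC77.PConj
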