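import Cfsg.Agent.Lib.BC77.QuatCyclic.Main
import Cfsg.Agent.Lib.DicksonId.MaxPSLMain
import Cfsg.Agent.Lib.DicksonId.PGLBasic
import Cfsg.Agent.Lib.Components.GenFitting
import Cfsg.Agent.Lib.Linear.SmallIso.PSL5
import Cfsg.Agent.Lib.Linear.SmallIso.PSL7

/-!
# Overgroups of involution centralisers in `PSL₂(q)`, and the statement S3287

The statement S3287, with the Gorenstein–Walter theorem for perfect groups as a hypothesis.
-/

set_option autoImplicit false

universe u

namespace Cfsg.Agent.Lib.BC77.DihedralOvergroup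

open Subgroup

section Groups

variable {X : Type*} [Group X] [Finite X]

theorem two_mul_orderOf_dvd {C : Subgroup X} {y w : X} (hy : y ∈ C) (hw : w ∈ C)
    (hinv : w * y * w⁻¹ = y⁻¹) (hne : y⁻¹ ≠ y) : 2 * orderOf y ∣ Nat.card C := by
  set H : Subgroup X := C ⊓ normalizer (zpowers y : Set X)
  have hyN : y ∈ normalizer (zpowers y : Set X) := le_normalizer (mem_zpowers y)
  have hyH : zpowers y ≤ H := zpowers_le.2 ⟨hy, hyN⟩
  have hwN : w ∈ normalizer (zpowers y : Set X) :=
    DicksonId.mem_normalizer_zpowers (by rw [hinv]; exact inv_mem (mem_zpowers y))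
  haveI : ((zpowers y).subgroupOf H).Normal :=
    (normal_subgroupOf_iff_le_normalizer hyH).2 inf_le_right
  set π := QuotientGroup.mk' ((zpowers y).subgroupOf H)
  have heven : 2 ∣ orderOf (π ⟨w, hw, hwN⟩) := by
    by_contra hodd
    obtain ⟨i, hi⟩ : ∃ i, orderOf (π ⟨w, hw, hwN⟩) = 2 * i + 1 :=
      ⟨orderOf (π ⟨w, hw, hwN⟩) / 2, by omega⟩
    have h1 : w ^ (2 * i + 1) ∈ zpowers y := by
      have h := pow_orderOf_eq_one (π ⟨w, hw, hwN⟩)
      rw [hi, ← map_pow, ← MonoidHom.mem_ker, QuotientGroup.ker_mk', mem_subgroupOf] at h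
      simpa using h
    have h2 : ∀ j : ℕ, w ^ (2 * j + 1) * y * (w ^ (2 * j + 1))⁻¹ = y⁻¹ := by
      intro j
      induction j with
      | zero => simpa using hinv
      | succ j ih =>
        have hww : w * y⁻¹ * w⁻¹ = y := by
          have := congrArg (·⁻¹) hinv
          simpa [mul_assoc] using this
        calc w ^ (2 * (j + 1) + 1) * y * (w ^ (2 * (j + 1) + 1))⁻¹
            = w * (w * (w ^ (2 * j + 1) * y * (w ^ (2 * j + 1))⁻¹) * w⁻¹) * w⁻¹ := by group
          _ = y⁻¹ := by rw [ih, hww, hinv]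
    have h3 := h2 i
    obtain ⟨l, hl⟩ := h1
    simp only at hl
    rw [← hl, (((Commute.refl y).zpow_right l).eq).symm, mul_inv_cancel_right] at h3
    exact hne h3.symm
  have h4 : 2 ∣ ((zpowers y).subgroupOf H).index :=
    heven.trans (orderOf_dvd_natCard _)
  have h5 : 2 * orderOf y ∣ Nat.card H := by
    rw [← card_mul_index ((zpowers y).subgroupOf H),
      Nat.card_congr (subgroupOfEquivOfLe hyH).toEquiv, Nat.card_zpowers, mul_comm 2]
    exact Nat.mul_dvd_mul_left _ h4
  exact h5.trans (card_dvd_of_le inf_le_left)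

theorem inv_ne_self {y : X} {m : ℕ} (hy : orderOf y = m) (hm : 3 ≤ m) : y⁻¹ ≠ y := fun h => by
  have := Nat.le_of_dvd two_pos (orderOf_dvd_of_pow_eq_one
    (show y ^ 2 = 1 by rw [pow_two]; nth_rewrite 1 [← h]; exact inv_mul_cancel y))
  omega

end Groups

theorem orderOf_alt_five (a : alternatingGroup (Fin 5)) : orderOf a ≤ 5 := by
  have h : ∀ g : alternatingGroup (Fin 5), g ^ 1 = 1 ∨ g ^ 2 = 1 ∨ g ^ 3 = 1 ∨ g ^ 5 = 1 := by
    decide +kernel
  rcases h a with e | e | e | e <;>
    exact (Nat.le_of_dvd (by norm_num) (orderOf_dvd_of_pow_eq_one e)).trans (by norm_num)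

theorem orderOf_perm_four (a : Equiv.Perm (Fin 4)) : orderOf a ≤ 5 := by
  have h : ∀ g : Equiv.Perm (Fin 4), g ^ 1 = 1 ∨ g ^ 2 = 1 ∨ g ^ 3 = 1 ∨ g ^ 4 = 1 := by
    decide +kernel
  rcases h a with e | e | e | e <;>
    exact (Nat.le_of_dvd (by norm_num) (orderOf_dvd_of_pow_eq_one e)).trans (by norm_num)

section PSL

variable {F : Type} [Field F] [Fintype F] {p : ℕ} [hp : Fact p.Prime] [CharP F p]

local notation "PSL2" => Matrix.ProjectiveSpecialLinearGroup (Fin 2) F

open DicksonId in
/-- An involution centraliser of `PSL₂(q)`, `q ≥ 11` odd, is maximal. -/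
theorem eq_top_of_centralizer_lt (hp2 : p ≠ 2) (h11 : 11 ≤ Fintype.card F) {t : PSL2}
    (ht : orderOf t = 2) {K : Subgroup PSL2} (hlt : centralizer ({t} : Set PSL2) < K) : K = ⊤ := by
  set q := Fintype.card F with hqdef
  obtain ⟨f, hf, hq⟩ := Linear.exists_card_eq_pow (F := F) p
  have hodd : q % 2 = 1 := (show q = p ^ f from hq) ▸ Nat.odd_iff.mp (hp.out.odd_of_ne_two hp2).pow
  have hgcd : Nat.gcd 2 (q - 1) = 2 := by rw [gcd_two_eq (p := p), if_neg hp2]
  obtain ⟨m, N, hN, hmN, hm2⟩ : ∃ m N, (N = q - 1 ∨ N = q + 1) ∧ 2 * m = N ∧ 2 ∣ m := by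
    rcases (show q % 4 = 1 ∨ q % 4 = 3 by omega) with h | h
    · exact ⟨(q - 1) / 2, q - 1, Or.inl rfl, by omega, by omega⟩
    · exact ⟨(q + 1) / 2, q + 1, Or.inr rfl, by omega, by omega⟩
  have hm6 : 6 ≤ m := by omega
  have htp : t ^ p ≠ 1 := fun h => by
    have := orderOf_dvd_of_pow_eq_one h
    rw [ht] at this
    exact hp2 ((Nat.prime_dvd_prime_iff_eq Nat.prime_two hp.out).1 this).symm
  obtain ⟨y, hy, hty⟩ := exists_torus (p := p) htp (N := N) hN (m := m) (by rw [hgcd, hmN])
    (orderOf_dvd_iff_pow_eq_one.1 (by rw [ht]; exact hm2))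
  have hpm : ¬ p ∣ m := by
    intro hd
    have h1 : p ∣ q := (show q = p ^ f from hq) ▸ dvd_pow_self p hf.ne'
    have h2 : p ∣ N := hmN ▸ hd.mul_left 2
    rcases hN with rfl | rfl
    · have := Nat.dvd_sub h1 h2
      rw [Nat.sub_sub_self (by omega)] at this
      exact hp.out.not_dvd_one this
    · exact hp.out.not_dvd_one ((Nat.dvd_add_right h1).mp h2)
  have hyp : y ^ p ≠ 1 := fun h => by
    rcases (Nat.dvd_prime hp.out).mp (hy ▸ orderOf_dvd_of_pow_eq_one h) with e | e
    · omega
    · exact hpm e.symm.dvd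
  obtain ⟨w, hw⟩ := exists_inverting_psl (p := p) hyp
  have hyne := inv_ne_self hy (by omega)
  set C := centralizer ({t} : Set PSL2)
  have hyC : y ∈ C := mem_centralizer_singleton_iff.2 (commute_of_mem_zpowers hty).eq
  have hwC : w ∈ C := by
    obtain ⟨i, hi⟩ := hty
    have h1 : w * t * w⁻¹ = t := by
      have e : (y ^ i : PSL2) = t := hi
      calc w * t * w⁻¹ = (w * y * w⁻¹) ^ i := by rw [conj_zpow, e]
        _ = t⁻¹ := by rw [hw, inv_zpow, e]
        _ = t := inv_eq_self_of_orderOf_eq_two ht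
    exact mem_centralizer_singleton_iff.2 (by
      calc w * t = w * t * w⁻¹ * w := by group
        _ = t * w := by rw [h1])
  have hC2 : 2 * m ∣ Nat.card C := hy ▸ two_mul_orderOf_dvd hyC hwC hw hyne
  have hCK : 2 * m ∣ Nat.card K := hC2.trans (card_dvd_of_le hlt.le)
  have hyK := hlt.le hyC
  rcases classify (p := p) K with ⟨hc, -⟩ | ⟨k, hk, ⟨x, -, hx⟩, ⟨e⟩⟩ | ⟨P, hP⟩ | ⟨-, ⟨e⟩⟩ |
    ⟨-, ⟨e⟩⟩ | ⟨-, ⟨e⟩⟩ | ⟨k, hS⟩
  · have h : (⟨w, hlt.le hwC⟩ : K) * ⟨y, hyK⟩ = ⟨y, hyK⟩ * ⟨w, hlt.le hwC⟩ := by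
      letI := hc.commGroup
      exact mul_comm _ _
    have h' : w * y = y * w := congrArg Subtype.val h
    rw [h', mul_inv_cancel_right] at hw
    exact absurd hw.symm hyne
  · have hKc : Nat.card K = 2 * k := by rw [Nat.card_congr e.toEquiv, DihedralGroup.nat_card]
    have hmk : m ∣ k := Nat.dvd_of_mul_dvd_mul_left two_pos (hKc ▸ hCK)
    have hkm : k = m := by
      refine Nat.dvd_antisymm ?_ hmk
      have hd : ∀ n, k ∣ n → n = (q - 1) / 2 ∨ n = (q + 1) / 2 → k ∣ m := by
        intro n hn hn'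
        by_cases he : n = m
        · exact he ▸ hn
        · exfalso
          have hmn : m ∣ n := hmk.trans hn
          have : m ∣ 1 := by
            rcases (show n = m + 1 ∨ m = n + 1 by omega) with e | e
            · exact (Nat.dvd_add_right dvd_rfl).mp (e ▸ hmn)
            · have := Nat.le_of_dvd (by omega) hmn
              omega
          have := Nat.le_of_dvd one_pos this
          omega
      have hxd := orderOf_dvd_of_not_dvd (p := p) (x := x) (hx ▸ hk)
      rw [hx, ← hqdef, hgcd] at hxd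
      rcases hxd with h | h
      · exact hd _ h (Or.inr rfl)
      · exact hd _ h (Or.inl rfl)
    have : Nat.card K ≤ Nat.card C := by
      rw [hKc, hkm]
      exact Nat.le_of_dvd Nat.card_pos hC2
    exact absurd (eq_of_le_of_card_ge hlt.le this) hlt.ne
  · exfalso
    have h1 := card_normalizer_sylow P
    rw [← hqdef, hgcd] at h1
    have h2 : 2 * (2 * m) ∣ q * (q - 1) :=
      h1 ▸ Nat.mul_dvd_mul_left 2 (hCK.trans (card_dvd_of_le hP))
    rw [hmN] at h2
    rcases hN with rfl | rfl
    · have h3 : 2 ∣ q := Nat.dvd_of_mul_dvd_mul_right (show 0 < q - 1 by omega) h2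
      omega
    · have h3 : q + 1 ∣ q * (q - 1) := (Dvd.intro_left 2 rfl).trans h2
      have h4 : q * (q - 1) + q * 2 = q * (q + 1) := by
        rw [← Nat.mul_add]; congr 1; omega
      have h5 : q + 1 ∣ q * 2 :=
        (Nat.dvd_add_right h3).mp (h4 ▸ Dvd.intro_left q rfl)
      have h6 : q + 1 ∣ 2 := by
        refine Nat.Coprime.dvd_of_dvd_mul_left ?_ h5
        simp
      have := Nat.le_of_dvd two_pos h6
      omega
  · have h12 : Nat.card K = 12 := card_of_equiv_alt_four ⟨e⟩
    have h := orderOf_perm_four (e ⟨y, hyK⟩ : Equiv.Perm (Fin 4))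
    rw [Subgroup.orderOf_coe, e.orderOf_eq, Subgroup.orderOf_mk, hy] at h
    omega
  · have h := orderOf_perm_four (e ⟨y, hyK⟩)
    rw [e.orderOf_eq, Subgroup.orderOf_mk, hy] at h
    omega
  · have h := orderOf_alt_five (e ⟨y, hyK⟩)
    rw [e.orderOf_eq, Subgroup.orderOf_mk, hy] at h
    omega
  · obtain ⟨r, hr, hiso⟩ := hS.nonempty_equiv
    obtain ⟨hk, hk3, -⟩ := hS
    letI : Fintype (GaloisField p k) := Fintype.ofFinite _
    set q0 := p ^ k with hq0
    rw [GaloisField.card p k hk.ne', ← hq0, ← hqdef] at hr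
    have hcard0 : Fintype.card (GaloisField p k) = q0 := by
      rw [← Nat.card_eq_fintype_card, GaloisField.card p k hk.ne']
    have hodd0 : q0 % 2 = 1 := Nat.odd_iff.mp (hp.out.odd_of_ne_two hp2).pow
    have hr1 : r = 1 := by
      by_contra hr1
      have hr2 : 2 ≤ r := by
        rcases Nat.eq_zero_or_pos r with rfl | h
        · rw [pow_zero] at hr; omega
        · omega
      -- the square of `y` comes from `PSL₂(q₀)`
      obtain ⟨a, ha⟩ : ∃ a : Matrix.ProjectiveSpecialLinearGroup (Fin 2) (GaloisField p k),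
          orderOf a = orderOf (y ^ 2) := by
        rcases hiso with he | he <;> obtain ⟨e⟩ := he
        · exact ⟨e (⟨y, hyK⟩ ^ 2), by rw [e.orderOf_eq, ← Subgroup.orderOf_coe]; rfl⟩
        · obtain ⟨a, ha⟩ : e (⟨y, hyK⟩ ^ 2) ∈
              (Matrix.ProjectiveSpecialLinearGroup.toPGL (n := Fin 2) (R := GaloisField p k)).range := by
            rw [← imSL_eq, map_pow]
            exact Subgroup.sq_mem_of_index_two (index_imSL (p := p) hp2) _
          refine ⟨a, ?_⟩
          rw [← orderOf_injective _ Matrix.ProjectiveSpecialLinearGroup.toPGL_injective a, ha,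
            e.orderOf_eq, ← Subgroup.orderOf_coe]
          rfl
      obtain ⟨u, hu⟩ := hm2
      have hy2 : orderOf (y ^ 2) = u := by
        rw [orderOf_pow' _ two_ne_zero, hy, hu, Nat.gcd_eq_right (Dvd.intro _ rfl)]
        omega
      have hpa : ¬ p ∣ orderOf a := by
        rw [ha, hy2]
        exact fun h => hpm (hu ▸ h.mul_left 2)
      have hub : 2 * u ≤ q0 + 1 := by
        have hgcd0 : Nat.gcd 2 (q0 - 1) = 2 := Nat.gcd_eq_left (by omega)
        have hd := orderOf_dvd_of_not_dvd (p := p) (x := a) hpa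
        rw [ha, hy2, hcard0, hgcd0] at hd
        rcases hd with h | h <;> have := Nat.le_of_dvd (by omega) h <;> omega
      have hqq : q0 * q0 ≤ q := by
        rw [← hr, ← pow_two]
        exact Nat.pow_le_pow_right (by omega) hr2
      rcases Nat.lt_or_ge q0 4 with h | h
      · omega
      · have : 4 * q0 ≤ q0 * q0 := Nat.mul_le_mul_right _ h
        omega
    rw [hr1, pow_one] at hr
    rcases hiso with he | he <;> obtain ⟨e⟩ := he
    · apply eq_top_of_card_eq
      have h1 := two_mul_card_PSL (F := GaloisField p k) hp2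
      have h2 := two_mul_card_PSL (F := F) hp2
      rw [hcard0, hr, ← Nat.card_congr e.toEquiv] at h1
      rw [← hqdef] at h2
      omega
    · exfalso
      have h0 := Nat.card_congr e.toEquiv
      rw [card_pgl_eq (p := p) hp2] at h0
      have h1 := two_mul_card_PSL (F := GaloisField p k) hp2
      have h2 := two_mul_card_PSL (F := F) hp2
      rw [hcard0, hr] at h1
      rw [← hqdef] at h2
      have := Subgroup.card_le_card_group K
      have := Nat.card_pos (α := PSL2)
      omega

end PSL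

/-- A simple group with an involution outside the centre. -/
theorem not_comm {G : Type u} [Group G] {t : G}
    (hne : centralizer ({t} : Set G) ≠ ⊤) : ¬ ∀ a b : G, a * b = b * a := fun h =>
  hne (eq_top_iff.2 fun a _ => mem_centralizer_singleton_iff.2 (h a t))

theorem fittingSubgroup_eq_bot {G : Type u} [Group G] [Finite G] [IsSimpleGroup G]
    (hnc : ¬ ∀ a b : G, a * b = b * a) : Cfsg.fittingSubgroup G = ⊥ := by
  rw [eq_bot_iff]
  refine sSup_le ?_
  rintro N ⟨hN, hnil⟩
  rcases hN.eq_bot_or_eq_top with rfl | rfl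
  · exact le_rfl
  · exfalso
    haveI := hnil
    haveI : Group.IsNilpotent G := Group.nilpotent_of_mulEquiv Subgroup.topEquiv
    rcases (inferInstance : (center G).Normal).eq_bot_or_eq_top with h | h
    · exact (Group.IsNilpotent.center_ne_bot (G := G)) h
    · exact hnc fun a b => mem_center_iff.1 (h ▸ mem_top b) a

/-- The statement S3287, given Gorenstein–Walter for perfect groups. -/
theorem main (hGW : QuatCyclic.GWPerfect.{u}) {G : Type u} [Group G] [Finite G] [IsSimpleGroup G]
    (S : Sylow 2 G) (m : ℕ) (eS : ↥(S : Subgroup G) ≃* DihedralGroup m)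
    (t : G) (ht : orderOf t = 2) (K : Subgroup G) (hlt : centralizer ({t} : Set G) < K)
    (hK : Cfsg.generalizedFittingSubgroup ↥K = Cfsg.fittingSubgroup ↥K) :
    Nonempty (G ≃* ↥(alternatingGroup (Fin 5))) ∨ Nonempty (G ≃* ↥(alternatingGroup (Fin 7))) ∨
      (∃ (F : Type) (_ : Field F) (_ : Fintype F), Fintype.card F = 2 ∧
        Nonempty (G ≃* Matrix.ProjectiveSpecialLinearGroup (Fin 3) F)) ∨
      (∃ (F : Type) (_ : Field F) (_ : Fintype F), Fintype.card F = 9 ∧
        Nonempty (G ≃* Matrix.ProjectiveSpecialLinearGroup (Fin 2) F)) := by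
  classical
  haveI : Fact (Nat.Prime 2) := ⟨Nat.prime_two⟩
  have hnc := not_comm (hlt.trans_le le_top).ne
  haveI : Group.IsPerfect G := ⟨by
    rcases (inferInstance : (_root_.commutator G).Normal).eq_bot_or_eq_top with h | h
    · exact (hnc fun a b => by
        have := Subgroup.commutator_mem_commutator (mem_top a) (mem_top b)
        rw [← commutator_def, h, mem_bot] at this
        exact commutatorElement_eq_one_iff_mul_comm.1 this).elim
    · exact h⟩
  have heven : 2 ∣ Nat.card G := ht ▸ orderOf_dvd_natCard t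
  have hm : 2 ≤ m := by
    by_contra hlt2
    have hc : Nat.card (S : Subgroup G) = 2 * m := by
      rw [Nat.card_congr eS.toEquiv, DihedralGroup.nat_card]
    have hpos : 0 < Nat.card (S : Subgroup G) := Nat.card_pos
    have hm1 : m = 1 := by omega
    haveI : IsCyclic (S : Subgroup G) := isCyclic_of_prime_card (p := 2) (by rw [hc, hm1])
    have hmin : (Nat.card G).minFac = 2 := (Nat.minFac_eq_two_iff _).2 heven
    have hle := IsCyclic.normalizer_le_centralizer (P := S) hmin inferInstance
    have hcomp := MonoidHom.ker_transferSylow_isComplement' S hle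
    rcases (inferInstance : (MonoidHom.transferSylow S hle).ker.Normal).eq_bot_or_eq_top with h | h
    · rw [h] at hcomp
      have htop : (S : Subgroup G) = ⊤ := isComplement'_bot_left.1 hcomp
      letI := IsCyclic.commGroup (α := (S : Subgroup G))
      exact hnc fun a b =>
        congrArg Subtype.val (mul_comm (⟨a, htop ▸ mem_top a⟩ : (S : Subgroup G)) ⟨b, htop ▸ mem_top b⟩)
    · rw [h] at hcomp
      have hbot : (S : Subgroup G) = ⊥ := isComplement'_top_left.1 hcomp
      rw [hbot, card_bot] at hc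
      omega
  have hodd : Cfsg.oddCore G = ⊥ := by
    rcases (inferInstance : (Cfsg.oddCore G).Normal).eq_bot_or_eq_top with h | h
    · exact h
    · have := Cores.oddCore_odd (G := G)
      rw [h, card_top] at this
      exact absurd heven (by rw [Nat.odd_iff] at this; omega)
  have eq0 : G ≃* G ⧸ Cfsg.oddCore G :=
    ((QuotientGroup.quotientMulEquivOfEq hodd).trans QuotientGroup.quotientBot).symm
  rcases hGW S m hm ⟨eS⟩ with ⟨F, _, _, hFodd, hF3, ⟨e⟩⟩ | he7
  swap
  · obtain ⟨e⟩ := he7
    exact Or.inr (Or.inl ⟨eq0.trans e⟩)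
  set e' := eq0.trans e
  rcases Nat.lt_or_ge (Fintype.card F) 11 with hsmall | h11
  · have hF := Nat.odd_iff.1 hFodd
    rcases (show Fintype.card F = 5 ∨ Fintype.card F = 7 ∨ Fintype.card F = 9 by omega) with h | h | h
    · obtain ⟨i⟩ := Linear.SmallIso.nonempty_psl_two_five h
      exact Or.inl ⟨e'.trans i⟩
    · obtain ⟨i⟩ := Linear.SmallIso.nonempty_psl_two_seven (K := ZMod 2) h (ZMod.card 2)
      exact Or.inr (Or.inr (Or.inl ⟨ZMod 2, inferInstance, inferInstance, ZMod.card 2, ⟨e'.trans i⟩⟩))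
    · exact Or.inr (Or.inr (Or.inr ⟨F, _, _, h, ⟨e'⟩⟩))
  exfalso
  obtain ⟨p, hchar⟩ := CharP.exists F
  haveI : Fact p.Prime := ⟨CharP.char_is_prime F p⟩
  have hp2 : p ≠ 2 := by
    rintro rfl
    obtain ⟨f, hf, hq⟩ := Linear.exists_card_eq_pow (F := F) 2
    rw [hq] at hFodd
    exact (Nat.not_even_iff_odd.2 hFodd) ((even_two).pow_of_ne_zero hf.ne')
  have hlt' : centralizer ({e' t} : Set (Matrix.ProjectiveSpecialLinearGroup (Fin 2) F)) <
      K.map e'.toMonoidHom := by
    have h : centralizer ({e' t} : Set (Matrix.ProjectiveSpecialLinearGroup (Fin 2) F)) =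
        (centralizer ({t} : Set G)).map e'.toMonoidHom := by
      ext x
      obtain ⟨a, rfl⟩ := e'.surjective x
      rw [mem_map]
      constructor
      · intro ha
        refine ⟨a, mem_centralizer_singleton_iff.2 (e'.injective ?_), rfl⟩
        rw [map_mul, map_mul]
        exact mem_centralizer_singleton_iff.1 ha
      · rintro ⟨b, hb, hbe⟩
        obtain rfl : b = a := e'.injective hbe
        exact mem_centralizer_singleton_iff.2
          (by rw [← map_mul, ← map_mul, mem_centralizer_singleton_iff.1 hb])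
    rw [h]
    exact (map_lt_map_iff_of_injective e'.injective).2 hlt
  have htop := eq_top_of_centralizer_lt hp2 h11
    (by rw [e'.orderOf_eq, ht]) hlt'
  have hKtop : K = ⊤ := by
    apply map_injective (f := e'.toMonoidHom) e'.injective
    rw [htop, map_top_of_surjective _ e'.surjective]
  subst hKtop
  have h1 := congrArg (Subgroup.map (Subgroup.topEquiv (G := G)).toMonoidHom) hK
  rw [Components.GenFitting.map_generalizedFitting, Cores.map_fittingSubgroup_equiv,
    fittingSubgroup_eq_bot hnc] at h1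
  exact Components.GenFitting.ne_bot h1

end Cfsg.Agent.Lib.BC77.DihedralOvergroup
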