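import Cfsg.Agent.Lib.Chars82.FieldOfValues
import Mathlib.FieldTheory.IsAlgClosed.Classification

/-!
# Extending automorphisms of the algebraic numbers to the complex numbers
-/

set_option autoImplicit false

namespace Cfsg.Agent.Lib.BC77.AlgAut

open Cfsg.Agent.Lib.BC78.Galois

/-- Every automorphism of the algebraic numbers extends to the complex numbers. -/
theorem exists_ringEquiv (σ : Alg ≃ₐ[ℚ] Alg) :
    ∃ ψ : ℂ ≃+* ℂ, ∀ z : Alg, ψ (z : ℂ) = ((σ z : Alg) : ℂ) := by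
  obtain ⟨s, hs⟩ := exists_isTranscendenceBasis Alg ℂ
  let v : s → ℂ := Subtype.val
  let A := Algebra.adjoin Alg (Set.range v)
  haveI : IsAlgClosure A ℂ := IsAlgClosed.isAlgClosure_of_transcendence_basis v hs
  let e : A ≃+* A := hs.1.aevalEquiv.symm.toRingEquiv.trans
    ((MvPolynomial.mapEquiv s σ.toRingEquiv).trans hs.1.aevalEquiv.toRingEquiv)
  refine ⟨IsAlgClosure.equivOfEquiv ℂ ℂ e, fun z => ?_⟩
  have he : e (algebraMap Alg A z) = algebraMap Alg A (σ z) := by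
    show hs.1.aevalEquiv ((MvPolynomial.mapEquiv s σ.toRingEquiv)
      (hs.1.aevalEquiv.symm (algebraMap Alg A z))) = _
    rw [AlgEquiv.commutes, MvPolynomial.mapEquiv_apply, MvPolynomial.algebraMap_eq,
      MvPolynomial.map_C, ← MvPolynomial.algebraMap_eq, AlgEquiv.commutes]
    rfl
  have h := IsAlgClosure.equivOfEquiv_algebraMap ℂ ℂ e (algebraMap Alg A z)
  rw [he, ← IsScalarTower.algebraMap_apply, ← IsScalarTower.algebraMap_apply] at h
  exact h

/-- Automorphisms of the complex numbers realise every coprime power map on roots of unity. -/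
theorem exists_ringEquiv_pow {N k : ℕ} (hN : 0 < N) (hk : k.Coprime N) :
    ∃ ψ : ℂ ≃+* ℂ, ∀ z : ℂ, z ^ N = 1 → ψ z = z ^ k := by
  haveI : NeZero N := ⟨hN.ne'⟩
  have hζ := Complex.isPrimitiveRoot_exp N hN.ne'
  set ζ := Complex.exp (2 * Real.pi * Complex.I / N)
  have hζm : ζ ∈ Alg := mem_alg_of_isIntegral
    (IsIntegral.of_pow hN (by rw [hζ.pow_eq_one]; exact isIntegral_one))
  obtain ⟨σ, hσ⟩ := Chars82.FieldOfValues.exists_aut_pow hN hk hζ hζm
  obtain ⟨ψ, hψ⟩ := exists_ringEquiv σ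
  refine ⟨ψ, fun z hz => ?_⟩
  obtain ⟨i, -, rfl⟩ := hζ.eq_pow_of_pow_eq_one hz
  rw [map_pow, show ψ ζ = ζ ^ k from (hψ ⟨ζ, hζm⟩).trans hσ, ← pow_mul, ← pow_mul, mul_comm]

end Cfsg.Agent.Lib.BC77.AlgAut
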