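import Mathlib.Analysis.SpecialFunctions.Complex.CircleAddChar
import Mathlib.Analysis.SpecialFunctions.Trigonometric.Basic
import Mathlib.Data.ZMod.ValMinAbs

/-!
# A multiplier bringing few residues into a short arc
-/

set_option autoImplicit false

namespace Cfsg.Agent.Lib.BC77.ArcBox

variable {p : ℕ} [Fact p.Prime]

/-- Dirichlet's box principle on the residues. -/
theorem exists_mult (E : Finset (ZMod p)) {j0 : ZMod p} (hj0 : j0 ∈ E)
    (hE : 6 ^ (E.card - 1) < p) :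
    ∃ k : ZMod p, k ≠ 0 ∧ ∀ j ∈ E, ∃ d : ℤ, (d : ZMod p) = k * (j - j0) ∧ 6 * |d| < (p : ℤ) := by
  classical
  have hp : p.Prime := Fact.out
  let box : ZMod p → ({j // j ∈ E.erase j0} → Fin 6) := fun k j =>
    ⟨6 * (k * (j.1 - j0)).val / p, by
      rw [Nat.div_lt_iff_lt_mul hp.pos]
      have := ZMod.val_lt (k * (j.1 - j0))
      omega⟩
  obtain ⟨k1, k2, hne, hbox⟩ := Fintype.exists_ne_map_eq_of_card_lt box (by
    rw [Fintype.card_fun, Fintype.card_fin, Fintype.card_coe, Finset.card_erase_of_mem hj0,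
      ZMod.card]
    exact hE)
  refine ⟨k1 - k2, sub_ne_zero.mpr hne, fun j hj => ?_⟩
  by_cases hjj : j = j0
  · exact ⟨0, by rw [hjj]; simp, by simpa using hp.pos⟩
  have h := congrArg Fin.val (congrFun hbox ⟨j, Finset.mem_erase.mpr ⟨hjj, hj⟩⟩)
  simp only [box] at h
  set u := (k1 * (j - j0)).val with hu
  set v := (k2 * (j - j0)).val with hv
  refine ⟨(u : ℤ) - v, ?_, ?_⟩
  · rw [Int.cast_sub, Int.cast_natCast, Int.cast_natCast, hu, hv, ZMod.natCast_zmod_val,
      ZMod.natCast_zmod_val, sub_mul]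
  · have h1 := Nat.div_add_mod (6 * u) p
    have h2 := Nat.div_add_mod (6 * v) p
    have h3 := Nat.mod_lt (6 * u) hp.pos
    have h4 := Nat.mod_lt (6 * v) hp.pos
    rw [h] at h1
    rcases abs_cases ((u : ℤ) - v) with ⟨ha, -⟩ | ⟨ha, -⟩ <;> rw [ha] <;> omega

/-- A small residue is a root of unity at distance less than one from `1`. -/
theorem norm_sub_one_lt {d : ℤ} (hd : 6 * |d| < (p : ℤ)) :
    ‖(ZMod.stdAddChar (d : ZMod p) : ℂ) - 1‖ < 1 := by
  have hp : (0 : ℝ) < p := by exact_mod_cast (Fact.out : p.Prime).pos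
  rw [ZMod.stdAddChar_coe]
  set θ : ℝ := 2 * Real.pi * d / p with hθ
  have harg : 2 * (Real.pi : ℂ) * Complex.I * d / p = (θ : ℂ) * Complex.I := by
    rw [hθ]; push_cast; ring
  rw [harg]
  have hθ' : |θ| < Real.pi / 3 := by
    rw [hθ, abs_div, abs_mul, abs_of_pos (by positivity : 0 < 2 * Real.pi), abs_of_pos hp,
      div_lt_div_iff₀ hp (by norm_num)]
    have h : (6 : ℝ) * |(d : ℝ)| < p := by exact_mod_cast hd
    nlinarith [Real.pi_pos, abs_nonneg (d : ℝ)]
  have hcos : (1 : ℝ) / 2 < Real.cos θ := by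
    rw [← Real.cos_abs, ← Real.cos_pi_div_three]
    exact Real.cos_lt_cos_of_nonneg_of_le_pi_div_two (abs_nonneg θ)
      (by linarith [Real.pi_pos]) hθ'
  have hsq : ‖Complex.exp ((θ : ℂ) * Complex.I) - 1‖ ^ 2 < 1 := by
    rw [← Complex.normSq_eq_norm_sq, Complex.normSq_apply]
    simp only [Complex.sub_re, Complex.sub_im, Complex.exp_ofReal_mul_I_re,
      Complex.exp_ofReal_mul_I_im, Complex.one_re, Complex.one_im, sub_zero]
    nlinarith [Real.sin_sq_add_cos_sq θ]
  nlinarith [norm_nonneg (Complex.exp ((θ : ℂ) * Complex.I) - 1)]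

end Cfsg.Agent.Lib.BC77.ArcBox
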