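import Cfsg.Agent.Lib.Blocks.ContribRank
import Cfsg.Agent.Lib.Blocks.DefectGroup
import Cfsg.Agent.Lib.BrauerMap.Covering
import Cfsg.Agent.Lib.Clifford.Basic

/-!
# Every character of a covered block lies under the covering block

For a block `B` of `G` and a normal subgroup `N` the set of constituents on `N` of the members of
`B` is a union of blocks of `N`: its idempotent has coefficients in the local ring.
-/

set_option autoImplicit false
set_option linter.style.haveILetI false

namespace Cfsg.Agent.Lib.BC77.Covered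

open Cfsg.Agent.Lib.Characters Cfsg.Agent.Lib.Blocks.Contrib
open Cfsg.Agent.Lib.BrauerMap.Normal (conjHom conjIrr conjIrr_apply classInner_conjIrr)
open scoped ComplexConjugate Pointwise

universe u

variable {G : Type u} [Group G] [Fintype G] (N : Subgroup G) [hN : N.Normal] [Fintype N]
variable {p : ℕ} [Fact p.Prime] {M : Ideal Cfsg.AlgInt} [M.IsMaximal]

/-- The constituents on `N` of the members of `B`. -/
def under (B : Set (Cfsg.IrrCharacter G)) : Set (Cfsg.IrrCharacter N) :=
  {η | ∃ χ ∈ B, Cfsg.classInner (fun n : N => (χ : G → ℂ) n) (η : N → ℂ) ≠ 0}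

/-- The span of a set of irreducible characters. -/
def spanOf (A : Set (Cfsg.IrrCharacter N)) : Submodule ℂ (N → ℂ) :=
  Submodule.span ℂ ((fun η : Cfsg.IrrCharacter N => (η : N → ℂ)) '' A)

theorem conjIrr_mem_under {B : Set (Cfsg.IrrCharacter G)} (g : G) {η : Cfsg.IrrCharacter N}
    (h : η ∈ under N B) : conjIrr N g η ∈ under N B := by
  obtain ⟨χ, hχ, hne⟩ := h
  refine ⟨χ, hχ, ?_⟩
  have := classInner_conjIrr N χ g η
  rw [show BrauerMap.Normal.resFun N (χ : G → ℂ) = fun n : N => (χ : G → ℂ) n from rfl] at this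
  rw [this]
  exact hne

theorem eq_sum_of_mem [Fintype (Cfsg.IrrCharacter N)] {A : Set (Cfsg.IrrCharacter N)}
    [DecidablePred (· ∈ A)] {f : N → ℂ} (hf : f ∈ spanOf N A) :
    f = ∑ η : Cfsg.IrrCharacter N with η ∈ A, Cfsg.classInner f (η : N → ℂ) • (η : N → ℂ) := by
  classical
  induction hf using Submodule.span_induction with
  | mem f hf =>
    obtain ⟨η, hη, rfl⟩ := hf
    rw [Finset.sum_eq_single η]
    · rw [Basic.classInner_self_irr, one_smul]
    · intro ζ _ hne
      rw [Basic.classInner_irr_of_ne (Ne.symm hne), zero_smul]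
    · exact fun h => absurd (Finset.mem_filter.mpr ⟨Finset.mem_univ _, hη⟩) h
  | zero => simp [Basic.classInner_zero_left]
  | add f g _ _ hf hg =>
    conv_lhs => rw [hf, hg]
    rw [← Finset.sum_add_distrib]
    exact Finset.sum_congr rfl fun η _ => by
      rw [Induced.Basic.classInner_add_left, add_smul]
  | smul c f _ hf =>
    conv_lhs => rw [hf]
    rw [Finset.smul_sum]
    exact Finset.sum_congr rfl fun η _ => by
      rw [Induced.Basic.classInner_smul_left, mul_smul]

theorem restrict_mem_span {B : Set (Cfsg.IrrCharacter G)} {χ : Cfsg.IrrCharacter G}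
    (hχ : χ ∈ B) : (fun n : N => (χ : G → ℂ) n) ∈ spanOf N (under N B) := by
  classical
  haveI := Fintype.ofFinite (Cfsg.IrrCharacter N)
  rw [Complete.classFunction_eq_sum (Basic.isClassFunction_of_isCharacter
    (Basic.isCharacter_comp N.subtype (Basic.isCharacter_irr χ))
      : Cfsg.IsClassFunction N (fun n : N => (χ : G → ℂ) n))]
  refine Submodule.sum_mem _ fun η _ => ?_
  by_cases h : Cfsg.classInner (fun n : N => (χ : G → ℂ) n) (η : N → ℂ) = 0
  · rw [h, zero_smul]; exact zero_mem _
  · exact Submodule.smul_mem _ _ (Submodule.subset_span ⟨η, ⟨χ, hχ, h⟩, rfl⟩)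

/-- The orbit sum of a character under `B` is a multiple of a restriction from `B`. -/
theorem exists_orbitSum_eq {B : Set (Cfsg.IrrCharacter G)} {η : Cfsg.IrrCharacter N}
    (hη : η ∈ under N B) : ∃ χ ∈ B, ∃ c : ℂ,
      (∑ g : G, (conjIrr N g η : N → ℂ)) = c • fun n : N => (χ : G → ℂ) n := by
  obtain ⟨χ, hχ, hne⟩ := hη
  refine ⟨χ, hχ, (Cfsg.classInner (fun n : N => (χ : G → ℂ) n) (η : N → ℂ) /
    (Nat.card (Clifford.Basic.inertia N (η : N → ℂ)) : ℂ))⁻¹, ?_⟩
  refine Eq.trans ?_ (congrArg (_ • ·) (Clifford.Basic.clifford N χ.2 η hne).symm)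
  rw [smul_smul,
    inv_mul_cancel₀ (div_ne_zero hne (Induced.Basic.subgroup_card_ne_zero _)), one_smul]
  rfl

/-- The average over `G` preserves the span, and composed with the projection to the `p`-regular
part still does. -/
theorem singular_part_mem (hM : Cfsg.IsPModular p M) {B : Set (Cfsg.IrrCharacter G)}
    (hB : Cfsg.IsPBlock M B) {f : N → ℂ} (hf : f ∈ spanOf N (under N B))
    (hinv : ∀ (g : G) (n : N), f (conjHom N g n) = f n) :
    (fun n : N => if p ∣ orderOf n then f n else 0) ∈ spanOf N (under N B) := by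
  classical
  haveI := Fintype.ofFinite (Cfsg.IrrCharacter G)
  haveI := Fintype.ofFinite (Cfsg.IrrCharacter N)
  let L : (N → ℂ) →ₗ[ℂ] (N → ℂ) :=
    { toFun := fun h n => if p ∣ orderOf n then h n else 0
      map_add' := fun a b => funext fun n => by dsimp only [Pi.add_apply]; split_ifs <;> simp
      map_smul' := fun c a => funext fun n => by
        dsimp only [Pi.smul_apply, RingHom.id_apply]; split_ifs <;> simp }
  have hres : ∀ χ ∈ B, L (fun n : N => (χ : G → ℂ) n) ∈ spanOf N (under N B) := by
    intro χ hχ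
    have hp0 : ((p ^ (Nat.card G).factorization p : ℕ) : ℂ) ≠ 0 :=
      Nat.cast_ne_zero.mpr (pow_ne_zero _ (Fact.out : p.Prime).ne_zero)
    have e : L (fun n : N => (χ : G → ℂ) n) = (fun n : N => (χ : G → ℂ) n) -
        ((p ^ (Nat.card G).factorization p : ℕ) : ℂ)⁻¹ •
          ∑ φ : Cfsg.IrrCharacter G, (contribN p χ φ : ℂ) • (fun n : N => (φ : G → ℂ) n) := by
      funext n
      simp only [L, LinearMap.coe_mk, AddHom.coe_mk, Pi.sub_apply, Pi.smul_apply,
        Finset.sum_apply, smul_eq_mul]
      rw [sum_contribN_apply, Subgroup.orderOf_coe]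
      split_ifs with h
      · simp
      · field_simp
        simp
    rw [e]
    refine Submodule.sub_mem _ (restrict_mem_span N hχ)
      (Submodule.smul_mem _ _ (Submodule.sum_mem _ fun φ _ => ?_))
    by_cases hφ : φ ∈ B
    · exact Submodule.smul_mem _ _ (restrict_mem_span N hφ)
    · rw [contribN_eq_zero hM hB hχ hφ, Int.cast_zero, zero_smul]; exact zero_mem _
  have hG : (Nat.card G : ℂ) ≠ 0 := Nat.cast_ne_zero.mpr Nat.card_pos.ne'
  have hexp := eq_sum_of_mem N hf
  have havg : (Nat.card G : ℂ) • f = ∑ η : Cfsg.IrrCharacter N with η ∈ under N B,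
      Cfsg.classInner f (η : N → ℂ) • ∑ g : G, (conjIrr N g η : N → ℂ) := by
    funext n
    simp only [Finset.sum_apply, Pi.smul_apply, smul_eq_mul, Finset.mul_sum]
    rw [Finset.sum_comm]
    refine Eq.trans ?_ (Finset.sum_congr rfl fun g _ => ?_ :
      ∑ g : G, f (conjHom N g n) = _)
    · simp only [hinv, Finset.sum_const, Finset.card_univ, nsmul_eq_mul, Nat.card_eq_fintype_card]
    · conv_lhs => rw [hexp]
      simp only [Finset.sum_apply, Pi.smul_apply, smul_eq_mul]
      rfl
  have : L f = (Nat.card G : ℂ)⁻¹ • L ((Nat.card G : ℂ) • f) := by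
    rw [map_smul, smul_smul, inv_mul_cancel₀ hG, one_smul]
  show L f ∈ _
  rw [this, havg, map_sum]
  refine Submodule.smul_mem _ _ (Submodule.sum_mem _ fun η hη => ?_)
  obtain ⟨χ, hχ, c, hc⟩ := exists_orbitSum_eq N (Finset.mem_filter.mp hη).2
  rw [map_smul, hc, map_smul]
  exact Submodule.smul_mem _ _ (Submodule.smul_mem _ _ (hres χ hχ))

/-- The kernel function of the span at a point. -/
noncomputable def kern [Fintype (Cfsg.IrrCharacter N)] (A : Set (Cfsg.IrrCharacter N))
    [DecidablePred (· ∈ A)] (x : N) : N → ℂ :=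
  ∑ η : Cfsg.IrrCharacter N with η ∈ A, conj ((η : N → ℂ) x) • (η : N → ℂ)

theorem kern_mem [Fintype (Cfsg.IrrCharacter N)] (A : Set (Cfsg.IrrCharacter N))
    [DecidablePred (· ∈ A)] (x : N) : kern N A x ∈ spanOf N A :=
  Submodule.sum_mem _ fun η hη =>
    Submodule.smul_mem _ _ (Submodule.subset_span ⟨η, (Finset.mem_filter.mp hη).2, rfl⟩)

theorem kern_conj [Fintype (Cfsg.IrrCharacter N)] {A : Set (Cfsg.IrrCharacter N)}
    [DecidablePred (· ∈ A)] (hA : ∀ (g : G) (η : Cfsg.IrrCharacter N), η ∈ A → conjIrr N g η ∈ A)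
    (g : G) (x y : N) : kern N A (conjHom N g x) (conjHom N g y) = kern N A x y := by
  have hback : ∀ (g : G) (η : Cfsg.IrrCharacter N), conjIrr N g⁻¹ (conjIrr N g η) = η := by
    intro g η
    apply Subtype.ext; funext m
    rw [conjIrr_apply, conjIrr_apply]
    exact congrArg (η : N → ℂ) (Subtype.ext (by simp [mul_assoc]))
  simp only [kern, Finset.sum_apply, Pi.smul_apply, smul_eq_mul]
  refine Finset.sum_bij' (fun η _ => conjIrr N g η) (fun η _ => conjIrr N g⁻¹ η) ?_ ?_ ?_ ?_ ?_
  · intro η hη; exact Finset.mem_filter.mpr ⟨Finset.mem_univ _, hA g η (Finset.mem_filter.mp hη).2⟩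
  · intro η hη
    exact Finset.mem_filter.mpr ⟨Finset.mem_univ _, hA g⁻¹ η (Finset.mem_filter.mp hη).2⟩
  · intro η _; exact hback g η
  · intro η _
    have := hback g⁻¹ η
    rwa [inv_inv] at this
  · intro η _; rfl

theorem sum_conjugates_kern_eq_zero [Fintype (Cfsg.IrrCharacter N)] (hM : Cfsg.IsPModular p M)
    {B : Set (Cfsg.IrrCharacter G)} (hB : Cfsg.IsPBlock M B) [DecidablePred (· ∈ under N B)]
    {x : N} (hx : ¬ p ∣ orderOf x) {y : N} (hy : p ∣ orderOf y) :
    ∑ g : G, kern N (under N B) (conjHom N g x) y = 0 := by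
  classical
  set A := under N B
  set W : N → ℂ := ∑ g : G, kern N A (conjHom N g x) with hW
  have hWmem : W ∈ spanOf N A := Submodule.sum_mem _ fun g _ => kern_mem N A _
  have hinv : ∀ (h : G) (n : N), W (conjHom N h n) = W n := by
    intro h n
    simp only [hW, Finset.sum_apply]
    refine Fintype.sum_equiv (Equiv.mulLeft h⁻¹) _ _ fun g => ?_
    rw [Equiv.coe_mulLeft]
    conv_lhs => rw [show conjHom N g x = conjHom N h (conjHom N (h⁻¹ * g) x) from
      Subtype.ext (by simp [conjHom, mul_assoc])]
    exact kern_conj N (fun g η => conjIrr_mem_under N g) h _ n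
  set D : N → ℂ := fun n => if p ∣ orderOf n then W n else 0 with hD
  have hDmem : D ∈ spanOf N A := singular_part_mem N hM hB hWmem hinv
  have hDx : ∀ g : G, D (conjHom N g x) = 0 := fun g => if_neg (by
    rwa [show orderOf (conjHom N g x) = orderOf x from orderOf_injective (conjHom N g) (fun a b e => by
      have := congrArg Subtype.val e
      exact Subtype.ext (by simpa [conjHom] using this)) x])
  have h1 : Cfsg.classInner D D = Cfsg.classInner W D := by
    simp only [Cfsg.classInner, hD]
    congr 1
    refine Finset.sum_congr rfl fun n _ => ?_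
    split_ifs <;> simp
  have h2 : Cfsg.classInner W D = 0 := by
    have e : Cfsg.classInner W D = conj (∑ g : G, D (conjHom N g x)) := by
      conv_rhs => rw [eq_sum_of_mem N hDmem]
      rw [hW, Basic.classInner_sum_left, map_sum]
      refine Finset.sum_congr rfl fun g _ => ?_
      rw [kern, Basic.classInner_sum_left, Finset.sum_apply, map_sum]
      refine Finset.sum_congr rfl fun η _ => ?_
      rw [Induced.Basic.classInner_smul_left, Pi.smul_apply, smul_eq_mul, map_mul,
        Induced.Basic.classInner_conj_symm, mul_comm]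
    rw [e, Finset.sum_eq_zero fun g _ => hDx g, map_zero]
  rw [h2] at h1
  have h3 : ∀ n : N, D n = 0 := by
    have hs : ∑ n : N, D n * conj (D n) = 0 := by
      have := h1
      rw [Cfsg.classInner, mul_eq_zero] at this
      exact this.resolve_left (inv_ne_zero (Induced.Basic.subgroup_card_ne_zero N))
    simp only [Complex.mul_conj, ← Complex.ofReal_sum] at hs
    rw [Complex.ofReal_eq_zero, Finset.sum_eq_zero_iff_of_nonneg fun n _ => Complex.normSq_nonneg _]
      at hs
    exact fun n => Complex.normSq_eq_zero.mp (hs n (Finset.mem_univ n))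
  have := h3 y
  rw [hD] at this
  simp only [if_pos hy, hW, Finset.sum_apply] at this
  convert this

/-- The idempotent of the constituents of `B` on `N` is locally integral. -/
theorem memLocalRing_blockCoeff_under (hM : Cfsg.IsPModular p M)
    {B : Set (Cfsg.IrrCharacter G)} (hB : Cfsg.IsPBlock M B) (x : N) :
    Cfsg.MemLocalRing M (Cfsg.blockCoeff (under N B) x) := by
  classical
  haveI := Fintype.ofFinite (Cfsg.IrrCharacter N)
  set A := under N B
  have hG : (Nat.card G : ℂ) ≠ 0 := Nat.cast_ne_zero.mpr Nat.card_pos.ne'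
  have hval : Cfsg.blockCoeff A x = (Nat.card N : ℂ)⁻¹ * kern N A x 1 := by
    rw [Blocks.blockCoeff_eq_sum, kern, Finset.sum_apply]
    congr 1
    exact Finset.sum_congr rfl fun η _ => by rw [Pi.smul_apply, smul_eq_mul, mul_comm]
  rw [← Blocks.mem_localRing_iff, hval]
  by_cases hx : p ∣ orderOf x
  · have h := sum_conjugates_kern_eq_zero N hM hB (x := 1)
      (by rw [orderOf_one]; exact (Fact.out : p.Prime).not_dvd_one) hx
    have e : ∀ g : G, conjHom N g 1 = 1 := fun g => map_one _
    simp only [e, Finset.sum_const, Finset.card_univ, nsmul_eq_mul, mul_eq_zero] at h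
    have h0 : kern N A 1 x = 0 := h.resolve_left (Nat.cast_ne_zero.mpr Fintype.card_ne_zero)
    have hsym : kern N A x 1 = conj (kern N A 1 x) := by
      simp only [kern, Finset.sum_apply, map_sum, Pi.smul_apply, smul_eq_mul, map_mul,
        Complex.conj_conj]
      exact Finset.sum_congr rfl fun η _ => by ring
    rw [hsym, h0, map_zero, mul_zero]
    exact zero_mem _
  · obtain ⟨P⟩ : Nonempty (Sylow p N) := inferInstance
    haveI := Fintype.ofFinite (P : Subgroup N)
    set W := kern N A x with hW
    have hcl : Cfsg.IsClassFunction N W := by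
      intro a c
      simp only [hW, kern, Finset.sum_apply, Pi.smul_apply, smul_eq_mul]
      exact Finset.sum_congr rfl fun η _ => by rw [Basic.isClassFunction_irr η a c]
    have hrot : ∀ g : G, ∑ u : (P : Subgroup N), W (conjHom N g u) =
        ∑ u : (P : Subgroup N), W u := by
      intro g
      obtain ⟨n, hn⟩ := MulAction.exists_smul_eq N P ((MulAut.conjNormal g : MulAut N) • P)
      refine Fintype.sum_bijective (fun u : (P : Subgroup N) =>
        (⟨n⁻¹ * conjHom N g u * n, ?_⟩ : (P : Subgroup N))) ?_ _ _ fun u => ?_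
      · have h1 : conjHom N g u ∈ (MulAut.conjNormal g : MulAut N) • (P : Subgroup N) :=
          Subgroup.smul_mem_pointwise_smul (u : N) _ _ u.2
        have h2 : MulAut.conj n • (P : Subgroup N) =
            (MulAut.conjNormal g : MulAut N) • (P : Subgroup N) :=
          congrArg (fun Q : Sylow p N => (Q : Subgroup N)) hn
        rw [← h2, Subgroup.mem_pointwise_smul_iff_inv_smul_mem] at h1
        simpa [MulAut.smul_def, mul_assoc] using h1
      · refine Finite.injective_iff_bijective.mp fun u v e => ?_
        have e1 := congrArg Subtype.val (congrArg Subtype.val e)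
        simp only [Subgroup.coe_mul, Subgroup.coe_inv] at e1
        exact Subtype.ext (Subtype.ext (by simpa [conjHom] using e1))
      · have := hcl (n⁻¹ * conjHom N g u * n) n
        simpa [mul_assoc] using this
    have hsum : ∑ u : (P : Subgroup N), ∑ g : G, W (conjHom N g u) =
        (Nat.card G : ℂ) * W 1 := by
      rw [Finset.sum_eq_single (1 : (P : Subgroup N))]
      · simp only [OneMemClass.coe_one, map_one, Finset.sum_const, Finset.card_univ, nsmul_eq_mul,
          Nat.card_eq_fintype_card]
      · intro u _ hu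
        have hy : p ∣ orderOf (u : N) := by
          obtain ⟨k, hk⟩ := IsPGroup.iff_orderOf.mp P.2 u
          rw [Subgroup.orderOf_coe]
          rcases k with _ | k
          · exact absurd (orderOf_eq_one_iff.mp (by simpa using hk)) hu
          · exact hk ▸ dvd_pow_self p k.succ_ne_zero
        refine Eq.trans ?_ (sum_conjugates_kern_eq_zero N hM hB hx hy)
        refine Fintype.sum_equiv (Equiv.inv G) _ _ fun g => ?_
        rw [Equiv.inv_apply, hW]
        rw [show (u : N) = conjHom N g⁻¹ (conjHom N g u) from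
          Subtype.ext (by simp [conjHom, mul_assoc]),
          kern_conj N (fun g η => conjIrr_mem_under N g) g⁻¹]
        congr 1
        exact Subtype.ext (by simp [conjHom, mul_assoc])
      · exact fun h => absurd (Finset.mem_univ _) h
    rw [Finset.sum_comm, Finset.sum_congr rfl fun g _ => hrot g, Finset.sum_const,
      Finset.card_univ, nsmul_eq_mul, ← Nat.card_eq_fintype_card] at hsum
    have hW1 := (mul_left_cancel₀ hG hsum).symm
    have hin : ∑ u : (P : Subgroup N), W u = (Nat.card (P : Subgroup N) : ℂ) *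
        ∑ η : Cfsg.IrrCharacter N with η ∈ A, conj ((η : N → ℂ) x) *
          Cfsg.classInner ((η : N → ℂ) ∘ (P : Subgroup N).subtype)
            (1 : ↥(P : Subgroup N) → ℂ) := by
      simp only [hW, kern, Finset.sum_apply, Pi.smul_apply, smul_eq_mul, Cfsg.classInner,
        Pi.one_apply, map_one, mul_one, Function.comp_apply, Finset.mul_sum]
      rw [Finset.sum_comm]
      refine Finset.sum_congr rfl fun η _ => Finset.sum_congr rfl fun u _ => ?_
      have hP0 : (Nat.card (P : Subgroup N) : ℂ) ≠ 0 := Nat.cast_ne_zero.mpr Nat.card_pos.ne'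
      field_simp
      rfl
    rw [hW1, hin, ← Subgroup.card_mul_index (P : Subgroup N), Nat.cast_mul, mul_inv, mul_comm
      ((Nat.card (P : Subgroup N) : ℂ))⁻¹, mul_assoc, ← mul_assoc (Nat.card (P : Subgroup N) : ℂ)⁻¹,
      inv_mul_cancel₀ (Induced.Basic.subgroup_card_ne_zero _), one_mul]
    refine mul_mem (Blocks.natCast_inv_mem_localRing hM P.not_dvd_index) (sum_mem fun η _ => ?_)
    refine mul_mem ?_ ?_
    · rw [← Basic.apply_inv (Basic.isCharacter_irr η)]
      exact Blocks.char_mem_localRing η _
    · obtain ⟨k, hk⟩ := Basic.exists_classInner_nat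
        (Basic.isCharacter_comp (P : Subgroup N).subtype (Basic.isCharacter_irr η))
        (Basic.isCharacter_one (G := (P : Subgroup N)))
      rw [hk]
      exact natCast_mem _ k

end Cfsg.Agent.Lib.BC77.Covered
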