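import Cfsg.Agent.Lib.Characters.Linear
import Cfsg.Agent.Lib.Clifford.Basic

/-!
# Linear characters of an abelian quotient stabilising an irreducible character
-/

set_option autoImplicit false

namespace Cfsg.Agent.Lib.BC77.DualStab

open scoped ComplexConjugate
open Cfsg.Agent.Lib.Induced.Basic Cfsg.Agent.Lib.Characters.Basic

universe u

variable {M : Type u} [Group M] {V : Type u} [CommGroup V] (π : M →* V) (θ : M → ℂ)

/-- The linear characters `λ` of `V` with `θ · (λ ∘ π) = θ`. -/
def stab : Subgroup (V →* ℂˣ) where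
  carrier := {l | ∀ m, (l (π m) : ℂ) * θ m = θ m}
  one_mem' := fun m => by simp
  mul_mem' := fun {a b} ha hb m => by
    rw [MonoidHom.mul_apply, Units.val_mul, mul_assoc, hb m, ha m]
  inv_mem' := fun {a} ha m => by
    conv_lhs => rw [← ha m]
    rw [← mul_assoc, MonoidHom.inv_apply, ← Units.val_mul, inv_mul_cancel, Units.val_one, one_mul]

theorem mem_stab {l : V →* ℂˣ} : l ∈ stab π θ ↔ ∀ m, (l (π m) : ℂ) * θ m = θ m := Iff.rfl

/-- The order of the stabiliser is the norm of the restriction to the kernel. -/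
theorem card_stab [Fintype M] [Finite V] (hπ : Function.Surjective π)
    (hθ : Cfsg.IsIrrCharacter M θ) (E : Subgroup M) [Fintype E] (hE : ∀ m, m ∈ E ↔ π m = 1) :
    (Nat.card (stab π θ) : ℂ) =
      Cfsg.classInner (fun x : E => θ x) (fun x : E => θ x) := by
  classical
  have hfin : Finite (V →* ℂˣ) := Finite.of_equiv _ (Characters.Linear.linEquiv V).symm
  have := Fintype.ofFinite (V →* ℂˣ)
  have := Fintype.ofFinite V
  -- orthogonality on `V`
  have hcard : Fintype.card (V →* ℂˣ) = Nat.card V := by
    rw [← Nat.card_eq_fintype_card]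
    exact CommGroup.card_monoidHom_of_hasEnoughRootsOfUnity V ℂ
  have horth : ∀ v : V, ∑ l : V →* ℂˣ, (l v : ℂ) = if v = 1 then (Nat.card V : ℂ) else 0 := by
    intro v
    split_ifs with h
    · subst h
      simp [hcard]
    · obtain ⟨φ, hφ⟩ := CommGroup.exists_apply_ne_one_of_hasEnoughRootsOfUnity V ℂ h
      have h1 : ∑ l : V →* ℂˣ, (l v : ℂ) = (φ v : ℂ) * ∑ l : V →* ℂˣ, (l v : ℂ) := by
        rw [Finset.mul_sum]
        exact (Fintype.sum_equiv (Equiv.mulLeft φ) _ _ fun l => by simp).symm
      by_contra hne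
      exact hφ (Units.ext (mul_right_cancel₀ hne (by rw [← h1, Units.val_one, one_mul])))
  -- the twists
  have hterm : ∀ l : V →* ℂˣ, Cfsg.classInner (fun m => (l (π m) : ℂ) * θ m) θ =
      if l ∈ stab π θ then 1 else 0 := by
    intro l
    have hl : Cfsg.IsIrrCharacter M (fun m => (l (π m) : ℂ) * θ m) :=
      Characters.Linear.isIrrCharacter_linear_mul
        (isCharacter_irr (Characters.Linear.linChar (l.comp π)))
        (by simp [Characters.Linear.linChar_apply]) hθ
    have h := classInner_irr (⟨_, hl⟩ : Cfsg.IrrCharacter M) ⟨θ, hθ⟩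
    rw [h]
    refine if_congr ?_ rfl rfl
    rw [Subtype.ext_iff, funext_iff]
    exact Iff.rfl
  have hidx : Nat.card V * Nat.card E = Nat.card M := by
    have he : E = π.ker := SetLike.ext fun m => hE m
    have h := π.ker.card_mul_index
    rw [Subgroup.index_ker, MonoidHom.range_eq_top.mpr hπ, Subgroup.card_top, ← he] at h
    rw [mul_comm, h]
  have hM : (Nat.card M : ℂ) ≠ 0 := Nat.cast_ne_zero.mpr Nat.card_pos.ne'
  calc (Nat.card (stab π θ) : ℂ)
      = ∑ l : V →* ℂˣ, Cfsg.classInner (fun m => (l (π m) : ℂ) * θ m) θ := by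
        simp only [hterm, Finset.sum_boole]
        rw [Nat.card_eq_fintype_card, Fintype.card_subtype]
    _ = (Nat.card M : ℂ)⁻¹ * ∑ m : M,
          (if m ∈ E then (Nat.card V : ℂ) * (θ m * conj (θ m)) else 0) := by
        simp only [Cfsg.classInner, ← Finset.mul_sum]
        rw [Finset.sum_comm]
        congr 1
        refine Finset.sum_congr rfl fun m _ => ?_
        simp only [mul_assoc, ← Finset.sum_mul, horth, hE m, ite_mul, zero_mul]
    _ = _ := by
        rw [Finset.sum_ite, Finset.sum_const_zero, add_zero, ← Finset.mul_sum, Cfsg.classInner,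
          ← hidx, Nat.cast_mul, mul_inv, mul_assoc,
          mul_left_comm (Nat.card E : ℂ)⁻¹ (Nat.card V : ℂ),
          inv_mul_cancel_left₀ (Nat.cast_ne_zero.mpr Nat.card_pos.ne')]
        congr 1
        exact (Finset.sum_subtype _ (fun m => by simp) fun m => θ m * conj (θ m))

end Cfsg.Agent.Lib.BC77.DualStab
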