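import Cfsg.Agent.Lib.BC77.AlgAut
import Cfsg.Agent.Lib.BC77.PConj
import Cfsg.Agent.Lib.BC78.PowChar
import Cfsg.Agent.Lib.Induced.Monomial
import Cfsg.Agent.Lib.Clifford.Monomial
import Cfsg.Agent.Lib.BlocksChars5.Basic
import Cfsg.Agent.Lib.PGroups.Frattini
import Mathlib.FieldTheory.IntermediateField.Adjoin.Basic
import Mathlib.FieldTheory.PrimitiveElement

/-!
# The order of a p-group with a faithful irreducible character of given degree and field

The field of values is measured by the number of distinct functions `g ↦ χ (g ^ u)`, `u` prime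
to `p`; induction along an inducing normal subgroup of index `p`.
-/

set_option autoImplicit false

namespace Cfsg.Agent.Lib.BC77.FieldBound

open scoped ComplexConjugate
open Cfsg.Agent.Lib.Characters.Basic Cfsg.Agent.Lib.Induced.Basic

universe u

variable {G : Type u} [Group G] (p : ℕ)

/-- The functions obtained by composing with the power maps prime to `p`. -/
def powSet (χ : G → ℂ) : Set (G → ℂ) :=
  Set.range fun u : {u : ℕ // u.Coprime p} => fun g => χ (g ^ u.1)

theorem powSet_finite [Finite G] (χ : G → ℂ) : (powSet p χ).Finite := by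
  refine Set.Finite.subset
    ((Set.finite_lt_nat (Nat.card G)).image fun u : ℕ => fun g : G => χ (g ^ u)) ?_
  rintro f ⟨u, rfl⟩
  refine ⟨u.1 % Nat.card G, Nat.mod_lt _ Nat.card_pos, ?_⟩
  funext g
  show χ (g ^ (u.1 % Nat.card G)) = χ (g ^ u.1)
  rw [pow_mod_natCard]

/-- The number of these functions. -/
noncomputable def orbCard (χ : G → ℂ) : ℕ := (powSet p χ).ncard

/-- A field of values of degree `D` bounds the number of power conjugates by `D`. -/
theorem orbCard_le_finrank [Finite G] [Fact p.Prime] (hG : IsPGroup p G) {χ : G → ℂ}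
    (hχ : Cfsg.IsCharacter G χ) {D : ℕ} (hD : 0 < D)
    (hfield : Module.finrank ℚ (IntermediateField.adjoin ℚ (Set.range χ)) = D) :
    orbCard p χ ≤ D := by
  classical
  set K := IntermediateField.adjoin ℚ (Set.range χ) with hK
  have : FiniteDimensional ℚ K := FiniteDimensional.of_finrank_pos (hfield ▸ hD)
  have hcop : ∀ u : ℕ, u.Coprime p → u.Coprime (Nat.card G) := fun u hu => by
    obtain ⟨n, hn⟩ := IsPGroup.iff_card.mp hG
    rw [hn]
    exact hu.pow_right n
  have hsig : ∀ u : {u : ℕ // u.Coprime p}, ∃ σ : K →ₐ[ℚ] ℂ, ∀ g : G,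
      σ ⟨χ g, IntermediateField.subset_adjoin _ _ ⟨g, rfl⟩⟩ = χ (g ^ u.1) := by
    intro u
    obtain ⟨σ, hσ⟩ := AlgAut.exists_ringEquiv_pow (Nat.card_pos (α := G)) (hcop _ u.2)
    refine ⟨(σ.toRingHom.toRatAlgHom).comp K.val, fun g => ?_⟩
    obtain ⟨ι, _, z, hz, hsum⟩ := PConj.exists_eig hχ g
    show σ (χ g) = _
    rw [hsum u.1, show χ g = ∑ i, z i ^ 1 by rw [← hsum 1, pow_one], map_sum]
    exact Finset.sum_congr rfl fun i _ => by rw [pow_one, hσ _ (hz i)]
  choose σ hσ using hsig
  have hsub : powSet p χ ⊆ Set.range (fun s : K →ₐ[ℚ] ℂ =>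
      fun g : G => s ⟨χ g, IntermediateField.subset_adjoin _ _ ⟨g, rfl⟩⟩) := by
    rintro f ⟨u, rfl⟩
    exact ⟨σ u, funext (hσ u)⟩
  calc orbCard p χ ≤ (Set.range (fun s : K →ₐ[ℚ] ℂ =>
        fun g : G => s ⟨χ g, IntermediateField.subset_adjoin _ _ ⟨g, rfl⟩⟩)).ncard :=
        Set.ncard_le_ncard hsub (Set.finite_range _)
    _ ≤ Nat.card (K →ₐ[ℚ] ℂ) := by
        rw [← Nat.card_coe_set_eq]
        exact Finite.card_range_le _
    _ = D := by
        rw [Nat.card_eq_fintype_card, AlgHom.card ℚ K ℂ, hfield]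

theorem linear_case [Finite G] [Fact p.Prime] {a t : ℕ} (hcard : Nat.card G = p ^ a)
    {χ : G → ℂ} (hχ : Cfsg.IsCharacter G χ) (h1 : χ 1 = 1)
    (hf : ∀ g : G, χ g = χ 1 → g = 1) (horb : orbCard p χ ≤ (p - 1) * p ^ t) :
    a ≤ t + 1 := by
  classical
  have hp : p.Prime := Fact.out
  let l := Characters.Linear.degOneHom hχ h1
  have hl : ∀ g, (l g : ℂ) = χ g := fun g => rfl
  have hinj : Function.Injective l := fun x y h => by
    refine (inv_mul_eq_one.mp (hf (x⁻¹ * y) ?_))
    rw [← hl, map_mul, map_inv, h, inv_mul_cancel, Units.val_one, h1]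
  have hcyc : IsCyclic G := isCyclic_of_subgroup_isDomain ((Units.coeHom ℂ).comp l)
    (Units.val_injective.comp hinj)
  obtain ⟨g, hg⟩ := hcyc.exists_generator
  have hog : orderOf g = p ^ a := by rw [orderOf_eq_card_of_forall_mem_zpowers hg, hcard]
  rcases Nat.eq_zero_or_pos a with rfl | ha
  · exact Nat.zero_le _
  have hkey : Nat.totient (p ^ a) ≤ orbCard p χ := by
    rw [Nat.totient_eq_card_coprime, orbCard]
    have himg : (((Finset.range (p ^ a)).filter fun u => (p ^ a).Coprime u).image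
        (fun u : ℕ => fun x : G => χ (x ^ u)) : Set (G → ℂ)) ⊆ powSet p χ := by
      intro f hfm
      simp only [Finset.coe_image, Set.mem_image, Finset.coe_filter, Set.mem_ofPred_eq] at hfm
      obtain ⟨u, ⟨-, hu⟩, rfl⟩ := hfm
      exact ⟨⟨u, ((Nat.coprime_pow_left_iff ha p u).mp hu).symm⟩, rfl⟩
    refine le_trans (le_of_eq ?_) (Set.ncard_le_ncard himg (powSet_finite p χ))
    rw [Set.ncard_coe_finset, Finset.card_image_of_injOn]
    intro u hu v hv he
    simp only [Finset.coe_filter, Set.mem_ofPred_eq, Finset.mem_range] at hu hv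
    have he1 : χ (g ^ u) = χ (g ^ v) := congrFun he g
    have he2 : g ^ u = g ^ v := hinj (Units.ext (by rw [hl, hl, he1]))
    rw [pow_eq_pow_iff_modEq, hog] at he2
    exact he2.eq_of_lt_of_lt hu.1 hv.1
  rw [Nat.totient_prime_pow hp ha] at hkey
  have h := hkey.trans horb
  rw [mul_comm (p ^ (a - 1))] at h
  have h' := (Nat.pow_le_pow_iff_right hp.one_lt).mp
    (Nat.le_of_mul_le_mul_left h (Nat.sub_pos_of_lt hp.one_lt))
  omega

/-- The bound, by induction on the order. -/
theorem main [Finite G] [Fact p.Prime] {a t f : ℕ} (hcard : Nat.card G = p ^ a)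
    (χ : Cfsg.IrrCharacter G) (hf : ∀ g : G, (χ : G → ℂ) g = (χ : G → ℂ) 1 → g = 1)
    (hdeg : (χ : G → ℂ) 1 = f) (horb : orbCard p (χ : G → ℂ) ≤ (p - 1) * p ^ t) :
    (p - 1) * a ≤ (f - 1) + (p - 1) * (t + 1) * f := by
  classical
  induction hn : Nat.card G using Nat.strong_induction_on generalizing G a t f with
  | _ m ih =>
  have hp : p.Prime := Fact.out
  obtain ⟨q, hq⟩ : ∃ q, p = q + 1 := ⟨p - 1, by have := hp.one_lt; omega⟩
  have hfpos : 1 ≤ f := by
    rcases Nat.eq_zero_or_pos f with rfl | h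
    · exact absurd (by rw [hdeg, Nat.cast_zero]) (apply_one_ne_zero χ)
    · exact h
  have := Fintype.ofFinite G
  have hGp : IsPGroup p G := IsPGroup.of_card hcard
  have := hGp.isNilpotent
  obtain ⟨U, lam, hlam⟩ := Induced.Monomial.exists_linear_of_nilpotent χ.2
  by_cases hU : U = ⊤
  · -- linear character
    have h1 : (χ : G → ℂ) 1 = 1 := by
      rw [hlam, indFun_one, Subgroup.index_eq_one.mpr hU, Nat.cast_one, one_mul, map_one,
        Units.val_one]
    obtain rfl : f = 1 := by rw [h1] at hdeg; exact_mod_cast hdeg.symm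
    have ha := linear_case p hcard (isCharacter_irr χ) h1 hf horb
    rw [Nat.sub_self, zero_add, mul_one]
    exact Nat.mul_le_mul_left _ ha
  -- induction from a normal subgroup of index p
  obtain ⟨N, hN, hUN⟩ := (IsCoatomic.eq_top_or_exists_le_coatom U).resolve_left hU
  have hNn : N.Normal := PGroups.coatom_normal hGp hN
  have hNi : N.index = p := PGroups.coatom_index hGp hN
  obtain ⟨a, rfl⟩ : ∃ b, a = b + 1 := by
    refine ⟨a - 1, ?_⟩
    rcases Nat.eq_zero_or_pos a with rfl | h
    · exfalso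
      have := N.index_dvd_card
      rw [hcard, hNi, pow_zero, Nat.dvd_one] at this
      exact hp.one_lt.ne' this
    · omega
  have hNcard : Nat.card N = p ^ a := by
    have h := N.card_mul_index
    rw [hNi, hcard, pow_succ] at h
    exact Nat.eq_of_mul_eq_mul_right hp.pos h
  have := Fintype.ofFinite N
  set μ : U.subgroupOf N → ℂ :=
    fun x => ((lam ⟨(x : N), Subgroup.mem_subgroupOf.mp x.2⟩ : ℂˣ) : ℂ)
  have hind : Cfsg.indFun N (Cfsg.indFun (U.subgroupOf N) μ) = (χ : G → ℂ) := by
    rw [hlam]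
    exact indFun_trans U N hUN (fun h => ((lam h : ℂˣ) : ℂ))
  have hμ : Cfsg.IsCharacter (U.subgroupOf N) μ := by
    let l' : U.subgroupOf N →* ℂˣ := lam.comp
      { toFun := fun x => ⟨(x : N), Subgroup.mem_subgroupOf.mp x.2⟩
        map_one' := rfl
        map_mul' := fun _ _ => rfl }
    exact ⟨1, Characters.Linear.homRep l', funext fun g => Characters.Linear.char_homRep l' g⟩
  have hθirr : Cfsg.IsIrrCharacter N (Cfsg.indFun (U.subgroupOf N) μ) :=
    Clifford.Monomial.isIrr_of_indFun_irr N (Induced.Character.isCharacter_indFun _ hμ)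
      (hind ▸ χ.2)
  let θ : Cfsg.IrrCharacter N := ⟨_, hθirr⟩
  have hind' : Cfsg.indFun N (θ : N → ℂ) = (χ : G → ℂ) := hind
  clear_value θ
  clear hind hθirr hμ hlam
  obtain ⟨g, hg⟩ := exists_degree (isCharacter_irr θ)
  have hfg : f = p * g := by
    have h := congrFun hind' 1
    rw [indFun_one, hNi, hg, hdeg] at h
    exact_mod_cast h.symm
  have hgpos : 1 ≤ g := by
    rcases Nat.eq_zero_or_pos g with rfl | h
    · exact absurd (by rw [hg, Nat.cast_zero]) (apply_one_ne_zero θ)
    · exact h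
  -- conjugates
  let cnj : G → (N → ℂ) → (N → ℂ) := fun x f n => f (MulAut.conjNormal x⁻¹ n)
  have hcnj : ∀ x (f : N → ℂ) (n : N) (h : x⁻¹ * (n : G) * x ∈ N),
      cnj x f n = f ⟨_, h⟩ := fun x f n h => congrArg f (Subtype.ext (by simp))
  let F : (N → ℂ) → (N → ℂ) := fun f n => (Nat.card N : ℂ)⁻¹ * ∑ x : G, cnj x f n
  have hχN : ∀ n : N, (χ : G → ℂ) n = F θ n := by
    intro n
    rw [← hind', indFun_apply]
    refine congrArg _ (Finset.sum_congr rfl fun x _ => ?_)
    have h : x⁻¹ * (n : G) * x ∈ N := by simpa using hNn.conj_mem _ n.2 x⁻¹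
    rw [dif_pos h, hcnj x _ n h]
  have hpowirr : ∀ u : ℕ, u.Coprime p →
      Cfsg.IsIrrCharacter N (fun n => (θ : N → ℂ) (n ^ u)) := fun u hu =>
    BC78.PowChar.isIrrCharacter_pow θ.2 (by rw [hNcard]; exact hu.pow_right a)
  have hcnjirr : ∀ x {f : N → ℂ}, Cfsg.IsIrrCharacter N f → Cfsg.IsIrrCharacter N (cnj x f) :=
    fun x f h => isIrrCharacter_comp (MulAut.conjNormal x⁻¹).toMonoidHom
      (MulAut.conjNormal x⁻¹).surjective h
  -- two with the same orbit sum are conjugate
  have hkey : ∀ f1 f2 : N → ℂ, Cfsg.IsIrrCharacter N f1 → Cfsg.IsIrrCharacter N f2 →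
      F f1 = F f2 → ∃ x, cnj x f1 = f2 := by
    intro f1 f2 h1 h2 he
    have hcount : ∀ f : N → ℂ, Cfsg.IsIrrCharacter N f → Cfsg.classInner (F f) f2 =
        (Nat.card N : ℂ)⁻¹ * ((Finset.univ.filter fun x : G => cnj x f = f2).card : ℂ) := by
      intro f h
      have hF : F f = (Nat.card N : ℂ)⁻¹ • ∑ x : G, cnj x f := funext fun n => by
        simp [F, Finset.sum_apply]
      rw [hF, classInner_smul_left, classInner_sum_left, ← Finset.sum_boole]
      refine congrArg _ (Finset.sum_congr rfl fun x _ => ?_)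
      have := classInner_irr (⟨_, hcnjirr x h⟩ : Cfsg.IrrCharacter N) ⟨_, h2⟩
      rw [this]
      exact if_congr Subtype.ext_iff rfl rfl
    have h := hcount f1 h1
    rw [he, hcount f2 h2] at h
    have h' := Nat.cast_injective (mul_left_cancel₀ (inv_ne_zero natCard_ne_zero) h)
    have hpos : 0 < (Finset.univ.filter fun x : G => cnj x f2 = f2).card :=
      Finset.card_pos.mpr ⟨1, Finset.mem_filter.mpr ⟨Finset.mem_univ _,
        funext fun n => congrArg f2 (Subtype.ext (by simp))⟩⟩
    rw [h'] at hpos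
    obtain ⟨x, hx⟩ := Finset.card_pos.mp hpos
    exact ⟨x, (Finset.mem_filter.mp hx).2⟩
  set S := (powSet_finite p (θ : N → ℂ)).toFinset with hS
  have hSmem : ∀ f, f ∈ S ↔ ∃ u : {u : ℕ // u.Coprime p},
      (fun n => (θ : N → ℂ) (n ^ u.1)) = f := fun f => by
    rw [hS, Set.Finite.mem_toFinset]; exact Iff.rfl
  have hSirr : ∀ f ∈ S, Cfsg.IsIrrCharacter N f := fun f h => by
    obtain ⟨u, rfl⟩ := (hSmem f).mp h
    exact hpowirr u.1 u.2
  have hScard : orbCard p (θ : N → ℂ) = S.card := Set.ncard_eq_toFinset_card _ _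
  have himage : (S.image F).card ≤ orbCard p (χ : G → ℂ) := by
    set T := (powSet_finite p (χ : G → ℂ)).toFinset with hT
    refine le_trans (Finset.card_le_card (t := T.image fun φ : G → ℂ => fun n : N => φ n) ?_) ?_
    · intro f hfm
      obtain ⟨f', hf', rfl⟩ := Finset.mem_image.mp hfm
      obtain ⟨u, rfl⟩ := (hSmem f').mp hf'
      refine Finset.mem_image.mpr ⟨fun x => (χ : G → ℂ) (x ^ u.1), ?_, funext fun n => ?_⟩
      · rw [hT, Set.Finite.mem_toFinset]
        exact ⟨u, rfl⟩
      · show (χ : G → ℂ) ((n : G) ^ u.1) = _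
        rw [← SubgroupClass.coe_pow, hχN]
        simp only [F, cnj, map_pow]
    · exact Finset.card_image_le.trans_eq (Set.ncard_eq_toFinset_card _ _).symm
  have hsmall : Nat.card N < m := by
    rw [← hn, hNcard, hcard]
    exact Nat.pow_lt_pow_right hp.one_lt (Nat.lt_succ_self a)
  by_cases hcol : ∃ f1 ∈ S, ∃ f2 ∈ S, F f1 = F f2 ∧ f1 ≠ f2
  · -- the conjugates are Galois conjugates: the constituent is faithful
    obtain ⟨f1, hf1, f2, hf2, he, hne⟩ := hcol
    obtain ⟨x, hx⟩ := hkey f1 f2 (hSirr _ hf1) (hSirr _ hf2) he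
    have hxN : x ∉ N := by
      intro hxN
      refine hne (Eq.trans (funext fun n => ?_) hx)
      obtain ⟨n', hn'⟩ := (⟨x, hxN⟩ : N), rfl
      have hc := isClassFunction_of_isCharacter (IsCharacter_of_isIrrCharacter (hSirr _ hf1))
        n (⟨x, hxN⟩ : N)⁻¹
      rw [inv_inv] at hc
      rw [← hc]
      exact congrArg f1 (Subtype.ext (by simp))
    let K := BlocksChars5.Basic.charKer θ
    have hK : ∀ f ∈ S, ∀ n : N, f n = f 1 ↔ n ∈ K := by
      intro f hfm n
      obtain ⟨u, rfl⟩ := (hSmem f).mp hfm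
      show (θ : N → ℂ) (n ^ u.1) = (θ : N → ℂ) (1 ^ u.1) ↔ _
      rw [one_pow]
      exact ⟨fun h => BC78.PowChar.mem_of_pow_mem (H := K)
        (by rw [hNcard]; exact u.2.pow_right a) h, fun h => K.pow_mem h u.1⟩
    let K' : Subgroup G := K.map N.subtype
    have hstab : ∀ y : G, (∀ n : N, n ∈ K ↔ MulAut.conjNormal y n ∈ K) →
        y ∈ Subgroup.normalizer (K' : Set G) := by
      intro y hy
      rw [Subgroup.mem_normalizer_iff]
      intro k
      constructor
      · rintro ⟨n, hn', rfl⟩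
        exact ⟨MulAut.conjNormal y n, (hy n).mp hn', by simp⟩
      · rintro ⟨n, hn', hne'⟩
        have hk : k ∈ N := by
          have h := hNn.conj_mem _ n.2 y⁻¹
          simp only [Subgroup.coe_subtype] at hne'
          rw [hne'] at h
          simpa [mul_assoc] using h
        refine ⟨⟨k, hk⟩, (hy _).mpr ?_, rfl⟩
        have : MulAut.conjNormal y (⟨k, hk⟩ : N) = n :=
          Subtype.ext (by simpa using hne'.symm)
        rwa [this]
    have hKn : K'.Normal := by
      rw [← Subgroup.normalizer_eq_top_iff]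
      refine (hN.le_iff.mp fun y hy => hstab y fun n => ?_).resolve_right fun h => hxN ?_
      · have hc := BlocksChars5.Basic.charKer_normal θ
        have hy' : MulAut.conjNormal y n = (⟨y, hy⟩ : N) * n * (⟨y, hy⟩ : N)⁻¹ :=
          Subtype.ext (by simp)
        rw [hy']
        refine ⟨fun h => hc.conj_mem _ h _, fun h => ?_⟩
        simpa [mul_assoc] using hc.conj_mem _ h (⟨y, hy⟩ : N)⁻¹
      · rw [← h]
        refine Subgroup.inv_mem_iff _ |>.mp (hstab x⁻¹ fun n => ?_)
        rw [← hK f2 hf2 n, ← hK f1 hf1 (MulAut.conjNormal x⁻¹ n), ← hx]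
        show f1 _ = f1 (MulAut.conjNormal x⁻¹ 1) ↔ _
        rw [map_one]
    have hθf : ∀ n : N, (θ : N → ℂ) n = (θ : N → ℂ) 1 → n = 1 := by
      intro n hn1
      refine Subtype.ext (hf n ?_)
      rw [← hind', indFun_apply, indFun_apply]
      refine congrArg _ (Finset.sum_congr rfl fun y _ => ?_)
      have h : y⁻¹ * (n : G) * y ∈ K' := by
        simpa using hKn.conj_mem _ ⟨n, hn1, rfl⟩ y⁻¹
      obtain ⟨k, hk, hke⟩ := h
      have hmem : y⁻¹ * (n : G) * y ∈ N := hke ▸ k.2
      rw [dif_pos hmem, dif_pos (by simp : y⁻¹ * 1 * y ∈ N)]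
      have e1 : (⟨_, hmem⟩ : N) = k := Subtype.ext hke.symm
      rw [e1, show (θ : N → ℂ) k = (θ : N → ℂ) 1 from hk]
      exact congrArg (θ : N → ℂ) (Subtype.ext (by simp))
    have hle : orbCard p (θ : N → ℂ) ≤ (p - 1) * p ^ (t + 1) := by
      rw [hScard, pow_succ, ← mul_assoc, mul_comm]
      refine (Finset.card_le_mul_card_image (f := F) S p fun b hb => ?_).trans
        (Nat.mul_le_mul_left p (himage.trans horb))
      obtain ⟨f0, hf0, rfl⟩ := Finset.mem_image.mp hb
      have hsub : S.filter (fun f => F f = F f0) ⊆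
          (Finset.univ : Finset (G ⧸ N)).image (fun c => cnj c.out f0) := by
        intro f hfm
        rw [Finset.mem_filter] at hfm
        obtain ⟨y, hy⟩ := hkey f0 f (hSirr _ hf0) (hSirr _ hfm.1) hfm.2.symm
        refine Finset.mem_image.mpr ⟨QuotientGroup.mk y, Finset.mem_univ _, ?_⟩
        rw [← hy]
        obtain ⟨k, hk⟩ := QuotientGroup.mk_out_eq_mul N y
        funext n
        have hc := isClassFunction_of_isCharacter (IsCharacter_of_isIrrCharacter (hSirr _ hf0))
          (MulAut.conjNormal y⁻¹ n) k⁻¹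
        rw [inv_inv] at hc
        rw [hk]
        show f0 _ = f0 _
        rw [← hc]
        exact congrArg f0 (Subtype.ext (by simp [mul_assoc]))
      refine (Finset.card_le_card hsub).trans (Finset.card_image_le.trans (le_of_eq ?_))
      rw [Finset.card_univ, ← Nat.card_eq_fintype_card]
      exact hNi
    have hrec := ih _ hsmall hNcard θ hθf hg hle rfl
    obtain ⟨g', rfl⟩ : ∃ g', g = g' + 1 := ⟨g - 1, by omega⟩
    obtain ⟨f', rfl⟩ : ∃ f', f = f' + 1 := ⟨f - 1, by omega⟩
    subst hq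
    simp only [Nat.add_sub_cancel] at hrec ⊢
    have hq1 : 1 ≤ q := by have := hp.one_lt; omega
    have hkey : 1 + (t + 1 + 1) * (g' + 1) ≤ (g' + 1) + (t + 1) * (q + 1) * (g' + 1) := by
      nlinarith [Nat.zero_le (t * (g' + 1)), Nat.mul_le_mul_left ((t + 1) * (g' + 1)) hq1]
    nlinarith [Nat.mul_le_mul_left q hkey]
  · -- the fields coincide: pass to the kernel quotient
    push Not at hcol
    have hle : orbCard p (θ : N → ℂ) ≤ (p - 1) * p ^ t := by
      rw [hScard, ← Finset.card_image_of_injOn (f := F) fun f1 h1 f2 h2 he =>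
        hcol f1 h1 f2 h2 he]
      exact himage.trans horb
    let K := BlocksChars5.Basic.charKer θ
    have : K.Normal := BlocksChars5.Basic.charKer_normal θ
    obtain ⟨φ, hφ⟩ := BlocksChars5.Basic.exists_deflate θ K le_rfl
    have hφv : ∀ n : N, (φ : N ⧸ K → ℂ) n = (θ : N → ℂ) n := fun n => by
      rw [← hφ, BlocksChars5.Basic.inflate_apply]
    have hφf : ∀ c : N ⧸ K, (φ : N ⧸ K → ℂ) c = (φ : N ⧸ K → ℂ) 1 → c = 1 := by
      intro c hc
      obtain ⟨n, rfl⟩ := QuotientGroup.mk_surjective c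
      rw [← QuotientGroup.mk_one, hφv, hφv] at hc
      exact (QuotientGroup.eq_one_iff n).mpr hc
    have hφg : (φ : N ⧸ K → ℂ) 1 = g := by rw [← QuotientGroup.mk_one, hφv, hg]
    obtain ⟨b, hb⟩ := IsPGroup.iff_card.mp ((IsPGroup.of_card hNcard).to_quotient K)
    have hφo : orbCard p (φ : N ⧸ K → ℂ) ≤ orbCard p (θ : N → ℂ) := by
      refine Set.ncard_le_ncard_of_injOn (fun f : N ⧸ K → ℂ => fun n : N => f n) ?_ ?_
        (powSet_finite p _)
      · rintro f ⟨u, rfl⟩
        refine ⟨u, funext fun n => ?_⟩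
        show (θ : N → ℂ) (n ^ u.1) = (φ : N ⧸ K → ℂ) ((n : N ⧸ K) ^ u.1)
        rw [← QuotientGroup.mk_pow, hφv]
      · intro f1 _ f2 _ he
        funext c
        obtain ⟨n, rfl⟩ := QuotientGroup.mk_surjective c
        exact congrFun he n
    have hlt : Nat.card (N ⧸ K) < m :=
      lt_of_le_of_lt (Nat.le_of_dvd Nat.card_pos (Subgroup.card_quotient_dvd_card K)) hsmall
    have hrec := ih _ hlt hb φ hφf hφg (hφo.trans hle) rfl
    -- N embeds into the product of the quotients by the conjugate kernels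
    have hab : a ≤ p * b := by
      let ψ : N → (G ⧸ N → N ⧸ K) := fun n c => ((MulAut.conjNormal c.out⁻¹ n : N) : N ⧸ K)
      have hψ : Function.Injective ψ := by
        intro n1 n2 he
        have hker : ∀ y : G, MulAut.conjNormal y⁻¹ (n1⁻¹ * n2) ∈ K := by
          intro y
          have h := congrFun he (QuotientGroup.mk y)
          rw [QuotientGroup.eq, ← map_inv, ← map_mul] at h
          obtain ⟨k, hk⟩ := QuotientGroup.mk_out_eq_mul N y
          rw [hk] at h
          have h2 := (BlocksChars5.Basic.charKer_normal θ).conj_mem _ h k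
          have : k * MulAut.conjNormal (y * (k : G))⁻¹ (n1⁻¹ * n2) * k⁻¹ =
              MulAut.conjNormal y⁻¹ (n1⁻¹ * n2) :=
            Subtype.ext (by simp [mul_assoc])
          rwa [this] at h2
        have h1 : ((n1⁻¹ * n2 : N) : G) = 1 := by
          refine hf _ ?_
          rw [hχN]
          conv_rhs => rw [← N.coe_one, hχN]
          show (Nat.card N : ℂ)⁻¹ * _ = (Nat.card N : ℂ)⁻¹ * _
          refine congrArg _ (Finset.sum_congr rfl fun y _ => ?_)
          show (θ : N → ℂ) _ = (θ : N → ℂ) _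
          rw [hker y, map_one]
        exact inv_mul_eq_one.mp (Subtype.ext h1)
      have h := Nat.card_le_card_of_injective ψ hψ
      rw [Nat.card_fun, hNcard, hb] at h
      have hNi' : Nat.card (G ⧸ N) = p := hNi
      rw [hNi', ← pow_mul] at h
      have := (Nat.pow_le_pow_iff_right hp.one_lt).mp h
      rwa [mul_comm] at this
    obtain ⟨g', rfl⟩ : ∃ g', g = g' + 1 := ⟨g - 1, by omega⟩
    obtain ⟨f', rfl⟩ : ∃ f', f = f' + 1 := ⟨f - 1, by omega⟩
    subst hq
    simp only [Nat.add_sub_cancel] at hrec ⊢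
    nlinarith [Nat.mul_le_mul_left q hab, Nat.mul_le_mul_left (q + 1) hrec]

end Cfsg.Agent.Lib.BC77.FieldBound
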