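import Cfsg.Agent.Lib.BC77.FongCore
import Cfsg.Agent.Lib.Blocks.DefectGroup
import Cfsg.Agent.Lib.BrauerPairs.Bridge

/-!
# Blocks of the stabilizer of a block of a normal subgroup

The Fong-Reynolds correspondence.
-/

set_option autoImplicit false
set_option linter.style.haveILetI false

namespace Cfsg.Agent.Lib.BC77.Fong

open MonoidAlgebra Cfsg.Agent.Lib.BrauerMap.Basic Cfsg.Agent.Lib.BrauerMap.ClassSum
open Cfsg.Agent.Lib.BrauerMap.Normal Cfsg.Agent.Lib.BrauerMap.Induced
open Cfsg.Agent.Lib.Blocks (lin omega localRing residue omegaBar omegaR ccR mapCenter)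
open Cfsg.Agent.Lib.BrauerPairs.Trunc (ext conjA)
open Cfsg.Agent.Lib.Characters
open scoped ComplexConjugate

universe u

section General

variable {G : Type u} [Group G] [Fintype G]

/-- The induced function as a sum over cosets. -/
theorem indFun_eq_sum_cosets (T : Subgroup G) [Fintype (G ⧸ T)] {φ : T → ℂ}
    (hφ : Cfsg.IsClassFunction T φ) (g : G) :
    Cfsg.indFun T φ g = ∑ q : G ⧸ T, Cfsg.extendByZero T φ (q.out⁻¹ * g * q.out) := by
  classical
  haveI := Fintype.ofFinite T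
  have hbij : Function.Bijective (fun a : (G ⧸ T) × T => a.1.out * (a.2 : G)) := by
    constructor
    · rintro ⟨q, t⟩ ⟨q', t'⟩ e
      simp only at e
      have hq : q = q' := by
        rw [← Quotient.out_eq q, ← Quotient.out_eq q']
        refine QuotientGroup.eq.mpr ?_
        have : q.out⁻¹ * q'.out = (t : G) * (t' : G)⁻¹ := by
          rw [eq_mul_inv_iff_mul_eq, mul_assoc, ← e, inv_mul_cancel_left]
        rw [this]
        exact T.mul_mem t.2 (T.inv_mem t'.2)
      subst hq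
      exact Prod.ext rfl (Subtype.ext (mul_left_cancel e))
    · intro x
      refine ⟨(QuotientGroup.mk x, ⟨(QuotientGroup.mk x : G ⧸ T).out⁻¹ * x,
        QuotientGroup.eq.mp (Quotient.out_eq _)⟩), ?_⟩
      simp
  rw [Cfsg.indFun]
  rw [← Fintype.sum_bijective _ hbij (fun a : (G ⧸ T) × T =>
    Cfsg.extendByZero T φ ((a.1.out * (a.2 : G))⁻¹ * g * (a.1.out * (a.2 : G)))) _ fun a => rfl]
  rw [Fintype.sum_prod_type, Finset.mul_sum]
  refine Finset.sum_congr rfl fun q _ => ?_
  have hc : ∀ t : T, Cfsg.extendByZero T φ ((q.out * (t : G))⁻¹ * g * (q.out * (t : G))) =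
      Cfsg.extendByZero T φ (q.out⁻¹ * g * q.out) := by
    intro t
    rw [← Induced.Basic.extendByZero_conj_of_mem T hφ t.2
      ((q.out * (t : G))⁻¹ * g * (q.out * (t : G)))]
    congr 1
    group
  simp only [hc, Finset.sum_const, Finset.card_univ, nsmul_eq_mul]
  rw [← Nat.card_eq_fintype_card, ← mul_assoc,
    inv_mul_cancel₀ (Induced.Basic.subgroup_card_ne_zero T), one_mul]

open scoped Classical in
/-- An induced irreducible character has the induced central character. -/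
theorem centralChar_indFun (T : Subgroup G) [Fintype T] (ψ : Cfsg.IrrCharacter T) (g : G) :
    Cfsg.centralChar (Cfsg.indFun T (ψ : T → ℂ)) g =
      Cfsg.inducedCentralChar T (ψ : T → ℂ) g := by
  have hK : Cfsg.IsClassFunction G (fun x => if IsConj g x then (1 : ℂ) else 0) := by
    intro x y
    have e : IsConj x (y * x * y⁻¹) := isConj_iff.2 ⟨y, rfl⟩
    exact if_congr ⟨fun a => a.trans e.symm, fun a => a.trans e⟩ rfl rfl
  have hcl := Induced.Basic.isClassFunction_indFun T (ψ : T → ℂ)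
  have h := Induced.Basic.sum_indFun_mul T (ψ : T → ℂ) hK
  simp only [mul_ite, mul_one, mul_zero, ← Finset.sum_filter] at h
  rw [Finset.sum_congr rfl (g := fun _ => Cfsg.indFun T (ψ : T → ℂ) g) (fun x hx =>
    (Basic.classFunction_apply_of_isConj hcl (Finset.mem_filter.mp hx).2).symm),
    Finset.sum_const, nsmul_eq_mul, ← Fintype.card_subtype, ← Nat.card_eq_fintype_card,
    card_isConj] at h
  rw [Cfsg.centralChar, h, Induced.Basic.indFun_one]
  have hi : (T.index : ℂ) ≠ 0 := Nat.cast_ne_zero.2 Subgroup.index_ne_zero_of_finite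
  rw [mul_div_mul_left _ _ hi, Finset.sum_div, Cfsg.inducedCentralChar,
    finsum_mem_eq_sum_of_subset (s := {h : T | IsConj g (h : G)})
      (t := Finset.univ.filter fun h : T => IsConj g (h : G))
      (f := fun h => (ψ : T → ℂ) h / (ψ : T → ℂ) 1)
      (fun a ha => Finset.mem_coe.2 (Finset.mem_filter.2 ⟨Finset.mem_univ _, ha.1⟩))
      (fun a ha => (Finset.mem_filter.1 (Finset.mem_coe.1 ha)).2)]

theorem sInf_image_add {S : Set ℕ} (hS : S.Nonempty) (c : ℕ) :
    sInf ((c + ·) '' S) = c + sInf S :=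
  le_antisymm (Nat.sInf_le ⟨_, Nat.sInf_mem hS, rfl⟩)
    (le_csInf (hS.image _) (by
      rintro _ ⟨s, hs, rfl⟩
      exact Nat.add_le_add_left (Nat.sInf_le hs) c))

/-- A nonzero coefficient of a relative trace comes from a fixed coset of any `p`-subgroup of the
centralizer. -/
theorem exists_fixed_coset {R : Type*} [CommRing R] {p : ℕ} [Fact p.Prime] [CharP R p]
    {D : Subgroup G} {a : MonoidAlgebra R G} (ha : IsFixedBy D a) {h : G}
    (hne : (Blocks.relTr D a).coeff h ≠ 0) {Q : Subgroup G} (hQ : IsPGroup p Q)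
    (hQh : Q ≤ Subgroup.centralizer ({h} : Set G)) :
    ∃ x : G, a.coeff (x⁻¹ * h * x) ≠ 0 ∧ ∀ q ∈ Q, x⁻¹ * q * x ∈ D := by
  classical
  haveI := Fintype.ofFinite (G ⧸ D)
  by_contra hno
  apply hne
  rw [Blocks.coeff_relTr,
    sum_eq_sum_fixed hQ (fun c : G ⧸ D => a.coeff (c.out⁻¹ * h * c.out)) ?_]
  · refine Finset.sum_eq_zero fun c hc => ?_
    have hfix := (Finset.mem_filter.mp hc).2
    by_contra hc0
    refine hno ⟨c.out, hc0, fun q hq => ?_⟩
    have hq' : (⟨q, hq⟩ : Q) • c = QuotientGroup.mk ((q : G) * c.out) := by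
      conv_lhs => rw [← Quotient.out_eq c]
      rfl
    have h1 : (QuotientGroup.mk ((q : G) * c.out) : G ⧸ D) = QuotientGroup.mk c.out := by
      rw [← hq', hfix ⟨q, hq⟩]
      exact (Quotient.out_eq c).symm
    have h3 := D.inv_mem (QuotientGroup.eq.mp h1)
    simpa [mul_assoc] using h3
  · intro q c
    have hqc : q • c = QuotientGroup.mk ((q : G) * c.out) := by
      conv_lhs => rw [← Quotient.out_eq c]
      rfl
    rw [hqc, Blocks.coeff_out_mk ha]
    congr 1
    have hq : (q : G) * h = h * q := Subgroup.mem_centralizer_singleton_iff.mp (hQh q.2)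
    rw [mul_inv_rev, mul_assoc c.out⁻¹ (q : G)⁻¹ h,
      mul_assoc c.out⁻¹ ((q : G)⁻¹ * h) ((q : G) * c.out), ← mul_assoc ((q : G)⁻¹ * h) (q : G),
      mul_assoc (q : G)⁻¹ h, ← hq, inv_mul_cancel_left, mul_assoc]

end General

variable {G : Type u} [Group G] [Fintype G] (N : Subgroup G) [hN : N.Normal] [Fintype N]
  (b : Set (Cfsg.IrrCharacter N)) (T : Subgroup G) [Fintype T]
  {M : Ideal Cfsg.AlgInt} [M.IsMaximal]

theorem isStab_of_block (hb : Cfsg.IsPBlock M b)
    (hT : ∀ g : G, g ∈ T ↔ ∀ θ ∈ b, ∀ θ' : Cfsg.IrrCharacter N,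
      (∀ n : N, (θ' : N → ℂ) n = (θ : N → ℂ) ⟨g * n * g⁻¹, hN.conj_mem n n.2 g⟩) → θ' ∈ b)
    (hNT : N ≤ T) : IsStab N b T where
  le := hNT
  stable g hg η hη := (hT g).mp hg η hη _ fun n => conjIrr_apply N g η n
  disjoint g hg η hη hmem := hg ((hT g).mpr fun θ hθ θ' hθ' => by
    have e : θ' = conjIrr N g θ := Subtype.ext (funext fun n => hθ' n)
    rw [e, Blocks.isPBlock_eq_blockOf hb hmem]
    exact BrauerMap.Covering.sameBlock_conjIrr N g
      (Blocks.sameBlock_iff_omegaBar.mpr (Blocks.omegaBar_eq_of_mem hb hη hθ)))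

theorem coeffE_mem (hb : Cfsg.IsPBlock M b) (g : G) : coeffE N b g ∈ localRing M := by
  by_cases hg : g ∈ N
  · rw [coeffE, Induced.Basic.extendByZero_of_mem N _ hg]
    exact Blocks.mem_localRing_iff.2 (Blocks.memLocalRing_blockCoeff hb _)
  · rw [coeffE_of_notMem N b hg]; exact zero_mem _

/-- The idempotent of `b` in the centre of the group algebra of `T` over the local ring. -/
noncomputable def eTR (hb : Cfsg.IsPBlock M b) (h : IsStab N b T) :
    Subalgebra.center (localRing M) (MonoidAlgebra (localRing M) T) :=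
  Blocks.ofClassFun (fun t : T => (⟨coeffE N b t, coeffE_mem N b hb _⟩ : localRing M))
    fun u t => Subtype.ext (by
      simp only [Subgroup.coe_mul, Subgroup.coe_inv]
      exact coeffE_conj_of_mem N b T h u.2 _)

theorem coe_omegaR_eTR (hb : Cfsg.IsPBlock M b) (h : IsStab N b T) (ψ : Cfsg.IrrCharacter T) :
    (omegaR M ψ (eTR N b T hb h) : ℂ) = omega ψ (eT N b T h) := by
  rw [Blocks.coe_omegaR]
  congr 1
  refine Subtype.ext (MonoidAlgebra.ext (Finsupp.ext fun t => ?_))
  rw [Blocks.coeff_mapCenter, coeff_eT]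
  rfl

theorem omegaR_eTR_of_covers (hb : Cfsg.IsPBlock M b) (h : IsStab N b T)
    {ψ : Cfsg.IrrCharacter T} (hψ : Covers N b T h.le ψ) :
    omegaR M ψ (eTR N b T hb h) = 1 :=
  Subtype.ext ((coe_omegaR_eTR N b T hb h ψ).trans (omega_eT_of_covers N b T h hψ))

theorem omegaR_eTR_of_not_covers (hb : Cfsg.IsPBlock M b) (h : IsStab N b T)
    {ψ : Cfsg.IrrCharacter T} (hψ : ¬ Covers N b T h.le ψ) :
    omegaR M ψ (eTR N b T hb h) = 0 :=
  Subtype.ext ((coe_omegaR_eTR N b T hb h ψ).trans (omega_eT_of_not_covers N b T h hψ))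

theorem residue_omegaR_eq {H : Type u} [Group H] [Finite H] {ψ φ : Cfsg.IrrCharacter H}
    (hs : Cfsg.SameBlock M (ψ : H → ℂ) (φ : H → ℂ))
    (z : Subalgebra.center (localRing M) (MonoidAlgebra (localRing M) H)) :
    residue M (omegaR M ψ z) = residue M (omegaR M φ z) := by
  rw [← Blocks.omegaBar_mapCenter, ← Blocks.omegaBar_mapCenter,
    Blocks.sameBlock_iff_omegaBar.mp hs]

theorem covers_of_sameBlock (hb : Cfsg.IsPBlock M b) (h : IsStab N b T)
    {ψ φ : Cfsg.IrrCharacter T} (hs : Cfsg.SameBlock M (ψ : T → ℂ) (φ : T → ℂ))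
    (hψ : Covers N b T h.le ψ) : Covers N b T h.le φ := by
  by_contra hφ
  have e := residue_omegaR_eq hs (eTR N b T hb h)
  rw [omegaR_eTR_of_covers N b T hb h hψ, omegaR_eTR_of_not_covers N b T hb h hφ, map_one,
    map_zero] at e
  exact one_ne_zero e

theorem covers_of_mem (hb : Cfsg.IsPBlock M b) (h : IsStab N b T)
    {B' : Set (Cfsg.IrrCharacter T)} (hB' : Cfsg.IsPBlock M B')
    (hcov : ∃ ψ ∈ B', Covers N b T h.le ψ) {φ : Cfsg.IrrCharacter T} (hφ : φ ∈ B') :
    Covers N b T h.le φ := by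
  obtain ⟨ψ, hψ, hc⟩ := hcov
  exact covers_of_sameBlock N b T hb h
    (Blocks.sameBlock_iff_omegaBar.mpr (Blocks.omegaBar_eq_of_mem hB' hψ hφ)) hc

/-- The transfer of a central element of the group algebra of `T` to `G`. -/
noncomputable def indR (z : Subalgebra.center (localRing M) (MonoidAlgebra (localRing M) T)) :
    Subalgebra.center (localRing M) (MonoidAlgebra (localRing M) G) :=
  haveI := Fintype.ofFinite (G ⧸ T)
  Blocks.ofClassFun (fun g => (⟨Cfsg.indFun T (fun t => ((z.1.coeff t : localRing M) : ℂ)) g, by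
      rw [indFun_eq_sum_cosets T (fun t u => by
        rw [(mem_center_iff_coeff _).1 z.2 u t]) g]
      refine sum_mem fun q _ => ?_
      by_cases hq : q.out⁻¹ * g * q.out ∈ T
      · rw [Induced.Basic.extendByZero_of_mem T _ hq]; exact (z.1.coeff _).2
      · rw [Induced.Basic.extendByZero_of_not_mem T _ hq]; exact zero_mem _⟩ : localRing M))
    fun u g => Subtype.ext (Induced.Basic.isClassFunction_indFun T _ g u)

theorem coe_coeff_indR (z : Subalgebra.center (localRing M) (MonoidAlgebra (localRing M) T))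
    (g : G) : (((indR T z).1.coeff g : localRing M) : ℂ) =
      Cfsg.indFun T (fun t => ((z.1.coeff t : localRing M) : ℂ)) g := rfl

theorem omegaR_indR (hb : Cfsg.IsPBlock M b) (h : IsStab N b T) (ψ : Cfsg.IrrCharacter T)
    (hψ : Covers N b T h.le ψ)
    (z : Subalgebra.center (localRing M) (MonoidAlgebra (localRing M) T)) :
    omegaR M (up N b T h ψ hψ) (indR T (z * eTR N b T hb h)) = omegaR M ψ z := by
  classical
  haveI := Fintype.ofFinite (Cfsg.IrrCharacter T)
  apply Subtype.ext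
  set w := z * eTR N b T hb h with hw
  set χ := up N b T h ψ hψ with hχ
  have hψw : (omegaR M ψ w : ℂ) = (omegaR M ψ z : ℂ) := by
    rw [hw, map_mul, omegaR_eTR_of_covers N b T hb h hψ, mul_one]
  rw [← hψw, Blocks.coe_omegaR, Blocks.coe_omegaR, Blocks.omega_apply, Blocks.omega_apply,
    Blocks.lin_apply, Blocks.lin_apply]
  simp only [Blocks.coeff_mapCenter, Subring.coe_subtype, coe_coeff_indR]
  rw [Induced.Basic.sum_indFun_mul T _ (Basic.isClassFunction_irr χ)]
  have hexp := Complete.classFunction_eq_sum (Basic.isClassFunction_of_isCharacter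
    (Basic.isCharacter_comp T.subtype (Basic.isCharacter_irr χ)))
  have hsum : ∑ t : T, ((w.1.coeff t : localRing M) : ℂ) * (χ : G → ℂ) t =
      ∑ t : T, ((w.1.coeff t : localRing M) : ℂ) * (ψ : T → ℂ) t := by
    have e : ∀ t : T, (χ : G → ℂ) t = ∑ η : Cfsg.IrrCharacter T,
        Cfsg.classInner ((χ : G → ℂ) ∘ T.subtype) (η : T → ℂ) * (η : T → ℂ) t := fun t => by
      have := congrFun hexp t
      simp only [Finset.sum_apply, Pi.smul_apply, smul_eq_mul] at this
      exact this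
    simp only [e, Finset.mul_sum]
    rw [Finset.sum_comm]
    have term : ∀ η : Cfsg.IrrCharacter T,
        ∑ t : T, ((w.1.coeff t : localRing M) : ℂ) *
          (Cfsg.classInner ((χ : G → ℂ) ∘ T.subtype) (η : T → ℂ) * (η : T → ℂ) t) =
        if η = ψ then ∑ t : T, ((w.1.coeff t : localRing M) : ℂ) * (η : T → ℂ) t else 0 := by
      intro η
      have hl : (omegaR M η w : ℂ) * (η : T → ℂ) 1 =
          ∑ t : T, ((w.1.coeff t : localRing M) : ℂ) * (η : T → ℂ) t := by
        rw [Blocks.coe_omegaR, Blocks.omega_apply,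
          div_mul_cancel₀ _ (Blocks.char_one_ne_zero η), Blocks.lin_apply]
        simp only [Blocks.coeff_mapCenter, Subring.coe_subtype]
      simp only [mul_left_comm _ (Cfsg.classInner _ _)]
      rw [← Finset.mul_sum]
      by_cases hη : Covers N b T h.le η
      · have hc : Cfsg.classInner ((χ : G → ℂ) ∘ T.subtype) (η : T → ℂ) =
            if η = ψ then 1 else 0 := by
          show Cfsg.classInner (fun t : T => (χ : G → ℂ) t) (η : T → ℂ) = _
          rw [← Induced.Basic.frobenius_reciprocity' T _ (Basic.isClassFunction_irr χ), hχ, coe_up,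
            classInner_indFun N b T h hη hψ, Basic.classInner_irr]
          exact if_congr eq_comm rfl rfl
        rw [hc]
        split_ifs <;> simp
      · rw [← hl, hw, map_mul, omegaR_eTR_of_not_covers N b T hb h hη, mul_zero]
        simp
    rw [Finset.sum_congr rfl fun η _ => term η, Finset.sum_ite_eq', if_pos (Finset.mem_univ _)]
  rw [hsum, hχ, coe_up, Induced.Basic.indFun_one,
    mul_div_mul_left _ _ (Nat.cast_ne_zero.2 (Subgroup.index_ne_zero_of_finite (H := T)))]

theorem residue_ccR_up (h : IsStab N b T) (ψ : Cfsg.IrrCharacter T) (hψ : Covers N b T h.le ψ)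
    (g : G) : residue M (ccR M (up N b T h ψ hψ) g) = residue M (icR M T ψ g) :=
  congrArg (residue M) (Subtype.ext (centralChar_indFun T ψ g))

theorem sameBlock_up (h : IsStab N b T) {ψ φ : Cfsg.IrrCharacter T}
    (hψ : Covers N b T h.le ψ) (hφ : Covers N b T h.le φ)
    (hs : Cfsg.SameBlock M (ψ : T → ℂ) (φ : T → ℂ)) :
    Cfsg.SameBlock M (up N b T h ψ hψ : G → ℂ) (up N b T h φ hφ : G → ℂ) :=
  Blocks.sameBlock_iff_residue.mpr fun g => by
    rw [residue_ccR_up, residue_ccR_up]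
    exact inducedCentralChar_congr hs g

theorem sameBlock_of_up (hb : Cfsg.IsPBlock M b) (h : IsStab N b T) {ψ φ : Cfsg.IrrCharacter T}
    (hψ : Covers N b T h.le ψ) (hφ : Covers N b T h.le φ)
    (hs : Cfsg.SameBlock M (up N b T h ψ hψ : G → ℂ) (up N b T h φ hφ : G → ℂ)) :
    Cfsg.SameBlock M (ψ : T → ℂ) (φ : T → ℂ) :=
  Blocks.sameBlock_iff_residue.mpr fun t => by
    have e := residue_omegaR_eq hs (indR T (classSumC (localRing M) t * eTR N b T hb h))
    rwa [omegaR_indR N b T hb h ψ hψ, omegaR_indR N b T hb h φ hφ, Blocks.omegaR_classSumC,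
      Blocks.omegaR_classSumC] at e

theorem up_mem_of_induced (h : IsStab N b T) {B' : Set (Cfsg.IrrCharacter T)}
    {B : Set (Cfsg.IrrCharacter G)} (hind : Cfsg.IsInducedBlock M T B' B)
    {ψ : Cfsg.IrrCharacter T} (hψB : ψ ∈ B') (hψ : Covers N b T h.le ψ) :
    up N b T h ψ hψ ∈ B := by
  obtain ⟨-, hB, hc⟩ := hind
  obtain ⟨χ, hχ⟩ := Blocks.isPBlock_nonempty hB
  rw [Blocks.isPBlock_eq_blockOf hB hχ]
  refine Blocks.sameBlock_iff_residue.mpr fun g => ?_
  rw [residue_ccR_up]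
  exact ((induced_congr_iff ψ χ).mp (hc ψ hψB χ hχ) g).symm

theorem mem_block_up_iff (hb : Cfsg.IsPBlock M b) (h : IsStab N b T)
    {B' : Set (Cfsg.IrrCharacter T)} (hB' : Cfsg.IsPBlock M B') {ψ : Cfsg.IrrCharacter T}
    (hψB : ψ ∈ B') (hψ : Covers N b T h.le ψ) (χ : Cfsg.IrrCharacter G) :
    χ ∈ Cfsg.blockOf M (up N b T h ψ hψ : G → ℂ) ↔
      ∃ φ ∈ B', (χ : G → ℂ) = Cfsg.indFun T (φ : T → ℂ) := by
  constructor
  · intro hχ
    obtain ⟨θ, hθb, hθ⟩ := exists_constituent_up N b T h ψ hψ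
    obtain ⟨η, hη⟩ := BrauerMap.Covering.exists_constituent_restrict N χ
    obtain ⟨g, hg⟩ := BrauerMap.Covering.exists_conj_mem_of_constituents N
      (χ := up N b T h ψ hψ) (χ' := χ) hχ hθ hη
    rw [← Blocks.isPBlock_eq_blockOf hb hθb] at hg
    rw [← classInner_conjIrr N χ g η] at hη
    obtain ⟨φ, hφ, he⟩ := exists_up_eq N b T h χ hg hη
    subst he
    refine ⟨φ, ?_, rfl⟩
    rw [Blocks.isPBlock_eq_blockOf hB' hψB]
    exact sameBlock_of_up N b T hb h hψ hφ hχ
  · rintro ⟨φ, hφB, he⟩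
    have hφ := covers_of_mem N b T hb h hB' ⟨ψ, hψB, hψ⟩ hφB
    rw [show χ = up N b T h φ hφ from Subtype.ext he]
    exact sameBlock_up N b T h hψ hφ
      (Blocks.sameBlock_iff_omegaBar.mpr (Blocks.omegaBar_eq_of_mem hB' hψB hφB))

theorem isInducedBlock_up (hb : Cfsg.IsPBlock M b) (h : IsStab N b T)
    {B' : Set (Cfsg.IrrCharacter T)} (hB' : Cfsg.IsPBlock M B') {ψ : Cfsg.IrrCharacter T}
    (hψB : ψ ∈ B') (hψ : Covers N b T h.le ψ) :
    Cfsg.IsInducedBlock M T B' (Cfsg.blockOf M (up N b T h ψ hψ : G → ℂ)) := by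
  refine ⟨hB', ⟨_, rfl⟩, fun ξ hξ χ hχ => (induced_congr_iff ξ χ).mpr fun g => ?_⟩
  have hξc := covers_of_mem N b T hb h hB' ⟨ψ, hψB, hψ⟩ hξ
  rw [← residue_ccR_up N b T h ξ hξc]
  refine Blocks.residue_ccR_eq_of_mem ⟨_, rfl⟩ ?_ hχ g
  exact (mem_block_up_iff N b T hb h hB' hψB hψ _).mpr ⟨ξ, hξ, rfl⟩

/-! ### Degrees and defect groups -/

variable {p : ℕ}

theorem charDegree_up (h : IsStab N b T) (ψ : Cfsg.IrrCharacter T) (hψ : Covers N b T h.le ψ) :
    Cfsg.charDegree (up N b T h ψ hψ : G → ℂ) = T.index * Cfsg.charDegree (ψ : T → ℂ) := by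
  refine Nat.cast_injective (R := ℂ) ?_
  rw [← Blocks.char_one_eq_degree, Nat.cast_mul, ← Blocks.char_one_eq_degree, coe_up,
    Induced.Basic.indFun_one]

theorem factorization_charDegree_up (h : IsStab N b T) (ψ : Cfsg.IrrCharacter T)
    (hψ : Covers N b T h.le ψ) :
    (Cfsg.charDegree (up N b T h ψ hψ : G → ℂ)).factorization p =
      T.index.factorization p + (Cfsg.charDegree (ψ : T → ℂ)).factorization p := by
  rw [charDegree_up, Nat.factorization_mul Subgroup.index_ne_zero_of_finite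
    (Blocks.charDegree_pos ψ).ne', Finsupp.add_apply]

theorem sInf_degrees (hb : Cfsg.IsPBlock M b) (h : IsStab N b T)
    {B' : Set (Cfsg.IrrCharacter T)} (hB' : Cfsg.IsPBlock M B')
    (hcov : ∃ ψ ∈ B', Covers N b T h.le ψ) {B : Set (Cfsg.IrrCharacter G)}
    (hind : Cfsg.IsInducedBlock M T B' B) :
    sInf ((fun χ : Cfsg.IrrCharacter G => (Cfsg.charDegree (χ : G → ℂ)).factorization p) '' B) =
      T.index.factorization p +
        sInf ((fun ψ : Cfsg.IrrCharacter T =>
          (Cfsg.charDegree (ψ : T → ℂ)).factorization p) '' B') := by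
  obtain ⟨ψ, hψB, hψ⟩ := hcov
  have hB : B = Cfsg.blockOf M (up N b T h ψ hψ : G → ℂ) :=
    Blocks.isPBlock_eq_blockOf hind.2.1 (up_mem_of_induced N b T h hind hψB hψ)
  have hset : (fun χ : Cfsg.IrrCharacter G =>
        (Cfsg.charDegree (χ : G → ℂ)).factorization p) '' B =
      (T.index.factorization p + ·) '' ((fun ψ : Cfsg.IrrCharacter T =>
          (Cfsg.charDegree (ψ : T → ℂ)).factorization p) '' B') := by
    rw [hB, Set.image_image]
    ext n
    simp only [Set.mem_image, mem_block_up_iff N b T hb h hB' hψB hψ]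
    constructor
    · rintro ⟨χ, ⟨φ, hφB, he⟩, rfl⟩
      have hφ := covers_of_mem N b T hb h hB' ⟨ψ, hψB, hψ⟩ hφB
      refine ⟨φ, hφB, ?_⟩
      rw [show χ = up N b T h φ hφ from Subtype.ext he, factorization_charDegree_up]
    · rintro ⟨φ, hφB, rfl⟩
      have hφ := covers_of_mem N b T hb h hB' ⟨ψ, hψB, hψ⟩ hφB
      exact ⟨up N b T h φ hφ, ⟨φ, hφB, rfl⟩, factorization_charDegree_up N b T h φ hφ⟩
  rw [hset]
  exact sInf_image_add ((Blocks.isPBlock_nonempty hB').image _) _

theorem blockDefect_eq (hb : Cfsg.IsPBlock M b) (h : IsStab N b T)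
    {B' : Set (Cfsg.IrrCharacter T)} (hB' : Cfsg.IsPBlock M B')
    (hcov : ∃ ψ ∈ B', Covers N b T h.le ψ) {B : Set (Cfsg.IrrCharacter G)}
    (hind : Cfsg.IsInducedBlock M T B' B) :
    Cfsg.blockDefect p B = Cfsg.blockDefect p B' := by
  rw [Cfsg.blockDefect, Cfsg.blockDefect, sInf_degrees N b T hb h hB' hcov hind,
    ← Subgroup.card_mul_index T,
    Nat.factorization_mul Nat.card_pos.ne' Subgroup.index_ne_zero_of_finite, Finsupp.add_apply]
  omega

theorem blockHeight_up (hb : Cfsg.IsPBlock M b) (h : IsStab N b T)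
    {B' : Set (Cfsg.IrrCharacter T)} (hB' : Cfsg.IsPBlock M B')
    (hcov : ∃ ψ ∈ B', Covers N b T h.le ψ) {B : Set (Cfsg.IrrCharacter G)}
    (hind : Cfsg.IsInducedBlock M T B' B) (ψ : Cfsg.IrrCharacter T)
    (hψ : Covers N b T h.le ψ) :
    Cfsg.blockHeight p B (up N b T h ψ hψ : G → ℂ) = Cfsg.blockHeight p B' (ψ : T → ℂ) := by
  rw [Cfsg.blockHeight, Cfsg.blockHeight, sInf_degrees N b T hb h hB' hcov hind,
    factorization_charDegree_up]
  omega

theorem isDefectGroup_map (hM : Cfsg.IsPModular p M) (hb : Cfsg.IsPBlock M b)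
    (h : IsStab N b T) {B' : Set (Cfsg.IrrCharacter T)} (hB' : Cfsg.IsPBlock M B')
    (hcov : ∃ ψ ∈ B', Covers N b T h.le ψ) {B : Set (Cfsg.IrrCharacter G)}
    (hind : Cfsg.IsInducedBlock M T B' B) {D : Subgroup T}
    (hD : Cfsg.IsDefectGroup p M B' D) : Cfsg.IsDefectGroup p M B (D.map T.subtype) := by
  classical
  haveI := Fact.mk hM.1
  letI := Ideal.Quotient.field M
  haveI := Blocks.charP_residue hM
  haveI : Finite (ConjClasses G) := Quotient.finite _
  haveI := Fintype.ofFinite (ConjClasses G)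
  haveI := Fintype.ofFinite (G ⧸ T)
  obtain ⟨ψ, hψB, hψ⟩ := hcov
  have hB := hind.2.1
  have hχB := up_mem_of_induced N b T h hind hψB hψ
  have hmul : Blocks.blockIdemR hB' * eTR N b T hb h = Blocks.blockIdemR hB' := by
    refine Blocks.eq_of_omegaR_eq fun φ => ?_
    rw [map_mul, Blocks.omegaR_blockIdemR]
    split_ifs with hφ
    · rw [omegaR_eTR_of_covers N b T hb h (covers_of_mem N b T hb h hB' ⟨ψ, hψB, hψ⟩ hφ), one_mul]
    · rw [zero_mul]
  have h1 : omegaBar M (up N b T h ψ hψ) (mapCenter (residue M) (indR T (Blocks.blockIdemR hB'))) =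
      1 := by
    rw [Blocks.omegaBar_mapCenter, ← hmul, omegaR_indR N b T hb h ψ hψ, Blocks.omegaR_blockIdemR,
      if_pos hψB, map_one]
  rw [Blocks.omegaBar_eq_sum] at h1
  obtain ⟨c, -, hc⟩ := Finset.exists_ne_zero_of_sum_ne_zero
    (h1.symm ▸ one_ne_zero : (∑ c : ConjClasses G,
      (mapCenter (residue M) (indR T (Blocks.blockIdemR hB'))).1.coeff c.out *
        residue M (ccR M (up N b T h ψ hψ) c.out)) ≠ 0)
  rw [mul_ne_zero_iff] at hc
  obtain ⟨hc1, hc2⟩ := hc
  set g := c.out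
  set a := ext T (Blocks.blockIdemBar hB').1 with hadef
  have ha : IsFixedBy T a :=
    BrauerPairs.Trunc.isFixedBy_ext_of_center (Blocks.blockIdemBar hB').2
  have hrel : (Blocks.relTr T a).coeff g =
      (mapCenter (residue M) (indR T (Blocks.blockIdemR hB'))).1.coeff g := by
    rw [Blocks.coeff_relTr, Blocks.coeff_mapCenter]
    have hmem : ∀ x : G, Cfsg.extendByZero T
        (fun t => (((Blocks.blockIdemR hB').1.coeff t : localRing M) : ℂ)) x ∈ localRing M := by
      intro x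
      by_cases hx : x ∈ T
      · rw [Induced.Basic.extendByZero_of_mem T _ hx]
        exact ((Blocks.blockIdemR hB').1.coeff _).2
      · rw [Induced.Basic.extendByZero_of_not_mem T _ hx]; exact zero_mem _
    have e : (indR T (Blocks.blockIdemR hB')).1.coeff g =
        ∑ q : G ⧸ T, (⟨_, hmem (q.out⁻¹ * g * q.out)⟩ : localRing M) := by
      apply Subtype.ext
      rw [coe_coeff_indR, AddSubmonoidClass.coe_finsetSum]
      exact indFun_eq_sum_cosets T (fun t u => by
        rw [(mem_center_iff_coeff _).1 (Blocks.blockIdemR hB').2 u t]) g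
    rw [e, map_sum]
    refine Finset.sum_congr rfl fun q _ => ?_
    by_cases hq : q.out⁻¹ * g * q.out ∈ T
    · rw [show q.out⁻¹ * g * q.out = ((⟨_, hq⟩ : T) : G) from rfl, hadef,
        BrauerPairs.Trunc.coeff_ext, Blocks.blockIdemBar, Blocks.coeff_mapCenter]
      exact congrArg (residue M) (Subtype.ext (Induced.Basic.extendByZero_coe T
        (fun t => (((Blocks.blockIdemR hB').1.coeff t : localRing M) : ℂ)) ⟨_, hq⟩).symm)
    · rw [hadef, BrauerPairs.Trunc.coeff_ext_of_notMem T _ hq]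
      symm
      rw [← map_zero (residue M)]
      exact congrArg (residue M) (Subtype.ext (by
        rw [ZeroMemClass.coe_zero]
        exact Induced.Basic.extendByZero_of_not_mem T (fun t => (((Blocks.blockIdemR hB').1.coeff t : localRing M) : ℂ)) hq))
  rw [← hrel] at hc1
  obtain ⟨P⟩ : Nonempty (Sylow p (Subgroup.centralizer ({g} : Set G))) := inferInstance
  set Q := (P : Subgroup (Subgroup.centralizer ({g} : Set G))).map
    (Subgroup.centralizer ({g} : Set G)).subtype with hQdef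
  obtain ⟨x, hx0, hxQ⟩ := exists_fixed_coset (R := Cfsg.AlgInt ⧸ M) ha hc1
    (Q := Q) (P.2.map _) (Subgroup.map_subtype_le _)
  have hxT : x⁻¹ * g * x ∈ T := by
    by_contra hn
    exact hx0 (BrauerPairs.Trunc.coeff_ext_of_notMem T _ hn)
  rw [hadef, show x⁻¹ * g * x = ((⟨_, hxT⟩ : T) : G) from rfl, BrauerPairs.Trunc.coeff_ext] at hx0
  have hh : ¬ Cfsg.MemLocalIdeal M (Cfsg.blockCoeff B' ⟨_, hxT⟩) := fun e => hx0 (by
    rw [Blocks.blockIdemBar, Blocks.coeff_mapCenter]
    exact Blocks.residue_eq_zero_iff.mpr (by rwa [Blocks.coe_coeff_blockIdemR]))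
  set Q' : Subgroup T := (Q.map (MulAut.conj x⁻¹).toMonoidHom).subgroupOf T with hQ'def
  obtain ⟨y, hy⟩ := Blocks.exists_conj_le_isDefectGroup hM hB' hD hh (Q := Q')
    ((P.2.map _).map _ |>.comap_of_injective _ T.subtype_injective) (by
      intro q hq
      rw [hQ'def, Subgroup.mem_subgroupOf] at hq
      obtain ⟨q₀, hq₀, e⟩ := hq
      simp only [MulEquiv.coe_toMonoidHom, MulAut.conj_apply, inv_inv] at e
      have hq₁ : q₀ * g = g * q₀ := Subgroup.mem_centralizer_singleton_iff.mp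
        (Subgroup.map_subtype_le _ hq₀)
      rw [Subgroup.mem_centralizer_singleton_iff]
      apply Subtype.ext
      simp only [Subgroup.coe_mul]
      rw [← e]
      simp [mul_assoc, ← mul_assoc q₀ g, hq₁])
  have hQD : Q.map (MulAut.conj ((y : G) * x⁻¹)).toMonoidHom ≤ D.map T.subtype := by
    rintro _ ⟨q, hq, rfl⟩
    have hq' : x⁻¹ * q * x ∈ T := hxQ q hq
    refine ⟨y * ⟨_, hq'⟩ * y⁻¹, hy ⟨⟨_, hq'⟩, ?_, rfl⟩, ?_⟩
    · show (⟨_, hq'⟩ : T) ∈ Q'
      rw [hQ'def, Subgroup.mem_subgroupOf]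
      exact ⟨q, hq, by simp⟩
    · simp [mul_assoc]
  obtain ⟨E, hE⟩ := Blocks.exists_isDefectGroup (p := p) hB
  obtain ⟨g₀, hg₀, P₀, hP₀⟩ := hE
  obtain ⟨z, hz⟩ := Blocks.exists_conj_le_of_blockCoeff hM hB
    (g := g) ⟨_, hχB, fun e => hc2 ((Blocks.memLocalIdeal_centralChar_iff _ _).mp e)⟩ P
    hg₀.2.1 (Q := E) (hP₀ ▸ P₀.2.map _) (hP₀ ▸ Subgroup.map_subtype_le _)
  have hE' : Cfsg.IsDefectGroup p M B E := ⟨g₀, hg₀, P₀, hP₀⟩
  set w := (y : G) * x⁻¹ * z with hw
  have hle : E.map (MulAut.conj w).toMonoidHom ≤ D.map T.subtype := by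
    rw [hw, ← BrauerPairs.Maximal.map_conj_map_conj]
    exact le_trans (Subgroup.map_mono hz) hQD
  have hcard : Nat.card (D.map T.subtype) ≤ Nat.card (E.map (MulAut.conj w).toMonoidHom) := by
    rw [Subgroup.card_subtype, Blocks.card_map_conj, Blocks.card_isDefectGroup hM hB' hD,
      Blocks.card_isDefectGroup hM hB hE', blockDefect_eq N b T hb h hB' ⟨ψ, hψB, hψ⟩ hind]
  rw [← Subgroup.eq_of_le_of_card_ge hle hcard, BrauerPairs.Bridge.isDefectGroup_iff hB]
  haveI := BrauerPairs.Bridge.charP_res hM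
  exact BrauerPairs.Maximal.IsDef.map_conj
    ((BrauerPairs.Bridge.isDefectGroup_iff hB E).mp hE') w

end Cfsg.Agent.Lib.BC77.Fong
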