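import Cfsg.Agent.Lib.Blocks.Basic
import Cfsg.Agent.Lib.BrauerMap.Covering
import Cfsg.Agent.Lib.BrauerPairs.Trunc
import Cfsg.Agent.Lib.Clifford.Basic
import Cfsg.Agent.Lib.Induced.Character

/-!
# Induction from the stabilizer of a block of a normal subgroup

Orthogonality of block idempotents of conjugate blocks gives that characters of the stabilizer
lying over the block induce isometrically.
-/

set_option autoImplicit false
set_option linter.style.haveILetI false

namespace Cfsg.Agent.Lib.BC77.Fong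

open MonoidAlgebra Cfsg.Agent.Lib.BrauerMap.Basic Cfsg.Agent.Lib.BrauerMap.ClassSum
open Cfsg.Agent.Lib.BrauerMap.Normal
open Cfsg.Agent.Lib.Blocks (lin omega)
open Cfsg.Agent.Lib.BrauerPairs.Trunc (ext conjA)
open Cfsg.Agent.Lib.Characters
open scoped ComplexConjugate

universe u

variable {G : Type u} [Group G] [Fintype G]

/-- The stabilizer hypothesis: `T` contains `N`, fixes the set `b` and every element moving `b`
moves it off itself. -/
structure IsStab (N : Subgroup G) [N.Normal] (b : Set (Cfsg.IrrCharacter N)) (T : Subgroup G) :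
    Prop where
  le : N ≤ T
  stable : ∀ g ∈ T, ∀ η : Cfsg.IrrCharacter N, η ∈ b → conjIrr N g η ∈ b
  disjoint : ∀ g : G, g ∉ T → ∀ η : Cfsg.IrrCharacter N, η ∈ b → conjIrr N g η ∉ b

variable (N : Subgroup G) [hN : N.Normal] [Fintype N] (b : Set (Cfsg.IrrCharacter N))
  (T : Subgroup G) [Fintype T]

/-- The coefficient function of the idempotent of `b`, on all of `G`. -/
noncomputable def coeffE : G → ℂ := Cfsg.extendByZero N (Cfsg.blockCoeff b)

theorem coeffE_coe (n : N) : coeffE N b n = Cfsg.blockCoeff b n :=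
  Induced.Basic.extendByZero_coe N _ n

theorem coeffE_of_notMem {g : G} (hg : g ∉ N) : coeffE N b g = 0 :=
  Induced.Basic.extendByZero_of_not_mem N _ hg

/-- The conjugate set `b^g`. -/
def conjSet (g : G) : Set (Cfsg.IrrCharacter N) := conjIrr N g⁻¹ '' b

theorem conjIrr_conjIrr (g h : G) (η : Cfsg.IrrCharacter N) :
    conjIrr N g (conjIrr N h η) = conjIrr N (h * g) η := by
  apply Subtype.ext; funext m
  rw [conjIrr_apply, conjIrr_apply, conjIrr_apply]
  exact congrArg (η : N → ℂ) (Subtype.ext (by simp [mul_assoc]))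

theorem conjIrr_one (η : Cfsg.IrrCharacter N) : conjIrr N (1 : G) η = η := by
  apply Subtype.ext; funext m
  rw [conjIrr_apply]
  exact congrArg (η : N → ℂ) (Subtype.ext (by simp))

theorem blockCoeff_conjSet (g : G) (n : N) :
    Cfsg.blockCoeff (conjSet N b g) n =
      Cfsg.blockCoeff b ⟨g⁻¹ * n * g, by simpa using hN.conj_mem n n.2 g⁻¹⟩ := by
  rw [Cfsg.blockCoeff, Cfsg.blockCoeff, conjSet, finsum_mem_image]
  · congr 1
    refine finsum_mem_congr rfl fun η _ => ?_
    rw [conjIrr_apply, conjIrr_apply]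
    congr 1
    · exact congrArg (η : N → ℂ) (Subtype.ext (by simp))
    · exact congrArg conj (congrArg (η : N → ℂ) (Subtype.ext (by simp)))
  · intro x _ y _ h
    have := congrArg (conjIrr N g) h
    rwa [conjIrr_conjIrr, conjIrr_conjIrr, inv_mul_cancel, conjIrr_one, conjIrr_one] at this

theorem coeffE_conj_of_mem (h : IsStab N b T) {g : G} (hg : g ∈ T) (x : G) :
    coeffE N b (g * x * g⁻¹) = coeffE N b x := by
  by_cases hx : x ∈ N
  · have hset : conjSet N b g = b := by
      ext η
      refine ⟨?_, fun hη => ⟨conjIrr N g η, h.stable g hg η hη, ?_⟩⟩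
      · rintro ⟨ζ, hζ, rfl⟩
        exact h.stable g⁻¹ (T.inv_mem hg) ζ hζ
      · rw [conjIrr_conjIrr, mul_inv_cancel, conjIrr_one]
    rw [coeffE, Induced.Basic.extendByZero_of_mem N _ (hN.conj_mem x hx g),
      Induced.Basic.extendByZero_of_mem N _ hx]
    have := blockCoeff_conjSet N b g ⟨g * x * g⁻¹, hN.conj_mem x hx g⟩
    rw [hset] at this
    rw [this]
    exact congrArg (Cfsg.blockCoeff b) (Subtype.ext (by simp [mul_assoc]))
  · have hx' : g * x * g⁻¹ ∉ N := fun h' => hx (by
      simpa [mul_assoc] using hN.conj_mem _ h' g⁻¹)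
    rw [coeffE_of_notMem N b hx, coeffE_of_notMem N b hx']

theorem coeff_ext_idem (g : G) :
    (ext N (Blocks.idem b).1).coeff g = coeffE N b g := by
  by_cases hg : g ∈ N
  · rw [show g = ((⟨g, hg⟩ : N) : G) from rfl, BrauerPairs.Trunc.coeff_ext, coeffE_coe]
    rfl
  · rw [BrauerPairs.Trunc.coeff_ext_of_notMem N _ hg, coeffE_of_notMem N b hg]

theorem conjA_ext_idem (g : G) :
    conjA g (ext N (Blocks.idem b).1) = ext N (Blocks.idem (conjSet N b g)).1 := by
  ext x
  rw [BrauerPairs.Trunc.coeff_conjA, coeff_ext_idem, coeff_ext_idem]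
  by_cases hx : x ∈ N
  · rw [coeffE, coeffE, Induced.Basic.extendByZero_of_mem N _ hx,
      Induced.Basic.extendByZero_of_mem N _ (show g⁻¹ * x * g ∈ N by
        simpa using hN.conj_mem x hx g⁻¹), blockCoeff_conjSet]
  · have hx' : g⁻¹ * x * g ∉ N := fun h' => hx (by
      simpa [mul_assoc] using hN.conj_mem _ h' g)
    rw [coeffE_of_notMem N _ hx, coeffE_of_notMem N _ hx']

omit [Fintype G] hN [Fintype N] in
theorem idem_empty {H : Type u} [Group H] [Finite H] :
    Blocks.idem (∅ : Set (Cfsg.IrrCharacter H)) = 0 := by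
  classical
  exact Blocks.eq_of_omega_eq fun χ => by
    rw [Blocks.omega_idem, if_neg (Set.notMem_empty χ), map_zero]

/-- The idempotents of `b` and of a conjugate by an element outside `T` annihilate each other. -/
theorem conjA_mul_eq_zero (h : IsStab N b T) {g : G} (hg : g ∉ T) :
    conjA g (ext N (Blocks.idem b).1) * ext N (Blocks.idem b).1 = 0 := by
  rw [conjA_ext_idem, ← map_mul]
  have : conjSet N b g ∩ b = ∅ := by
    refine Set.eq_empty_iff_forall_notMem.mpr fun η hη => ?_
    obtain ⟨⟨ζ, hζ, rfl⟩, hη⟩ := hη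
    exact h.disjoint g⁻¹ (fun hh => hg (by simpa using T.inv_mem hh)) ζ hζ hη
  rw [← MulMemClass.coe_mul, Blocks.idem_mul_idem, this, idem_empty, ZeroMemClass.coe_zero,
    map_zero]

/-- The idempotent of `b` inside the centre of the group algebra of `T`. -/
noncomputable def eT (h : IsStab N b T) : Subalgebra.center ℂ (MonoidAlgebra ℂ T) :=
  Blocks.ofClassFun (fun t : T => coeffE N b t) fun u t => by
    simp only [Subgroup.coe_mul, Subgroup.coe_inv]
    exact coeffE_conj_of_mem N b T h u.2 _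

theorem coeff_eT (h : IsStab N b T) (t : T) : (eT N b T h).1.coeff t = coeffE N b t :=
  Blocks.coeff_ofClassFun _ _ t

theorem ext_eT (h : IsStab N b T) : ext T (eT N b T h).1 = ext N (Blocks.idem b).1 := by
  ext g
  rw [coeff_ext_idem]
  by_cases hg : g ∈ T
  · rw [show g = ((⟨g, hg⟩ : T) : G) from rfl, BrauerPairs.Trunc.coeff_ext, coeff_eT]
  · rw [BrauerPairs.Trunc.coeff_ext_of_notMem T _ hg,
      coeffE_of_notMem N b fun hn => hg (h.le hn)]

theorem eT_mul_self (h : IsStab N b T) : eT N b T h * eT N b T h = eT N b T h := by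
  refine Subtype.ext (BrauerPairs.Trunc.ext_injective T ?_)
  rw [MulMemClass.coe_mul, map_mul, ext_eT, ← map_mul, ← MulMemClass.coe_mul,
    Blocks.idem_mul_idem, Set.inter_self]

/-- A character of `T` lies over `b`. -/
def Covers (hNT : N ≤ T) (ψ : Cfsg.IrrCharacter T) : Prop :=
  ∃ θ ∈ b, Cfsg.classInner (fun n : N => (ψ : T → ℂ) ⟨(n : G), hNT n.2⟩) (θ : N → ℂ) ≠ 0

theorem omega_eT_ne_zero_iff (h : IsStab N b T) (ψ : Cfsg.IrrCharacter T) :
    omega ψ (eT N b T h) ≠ 0 ↔ Covers N b T h.le ψ := by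
  classical
  haveI := Fintype.ofFinite (Cfsg.IrrCharacter N)
  set r : N → ℂ := fun n => (ψ : T → ℂ) ⟨(n : G), h.le n.2⟩ with hr
  have hchar : Cfsg.IsCharacter N r :=
    Basic.isCharacter_comp (Subgroup.inclusion h.le) (Basic.isCharacter_irr ψ)
  have hval : omega ψ (eT N b T h) * (ψ : T → ℂ) 1 =
      ∑ η : Cfsg.IrrCharacter N with η ∈ b, (η : N → ℂ) 1 * Cfsg.classInner r (η : N → ℂ) := by
    rw [Blocks.omega_apply, div_mul_cancel₀ _ (Blocks.char_one_ne_zero ψ), Blocks.lin_apply]
    simp only [coeff_eT]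
    have e : ∑ t : T, coeffE N b t * (ψ : T → ℂ) t = ∑ n : N, Cfsg.blockCoeff b n * r n := by
      symm
      refine Finset.sum_of_injOn (fun n : N => (⟨(n : G), h.le n.2⟩ : T))
        (fun a _ a' _ e => Subtype.ext (congrArg Subtype.val e :))
        (fun _ _ => Finset.mem_univ _) (fun t _ ht => ?_) (fun n _ => ?_)
      · rw [coeffE_of_notMem N b fun hn => ht ⟨⟨t, hn⟩, Finset.mem_univ _, rfl⟩, zero_mul]
      · rw [coeffE_coe]
    rw [e]
    simp only [Blocks.blockCoeff_eq_sum, Cfsg.classInner, Finset.mul_sum, Finset.sum_mul]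
    rw [Finset.sum_comm]
    exact Finset.sum_congr rfl fun η _ => Finset.sum_congr rfl fun n _ => by ring
  constructor
  · intro hne
    by_contra hcov
    simp only [Covers, not_exists, not_and, not_not] at hcov
    rw [Finset.sum_eq_zero fun η hη => by rw [hcov η (Finset.mem_filter.mp hη).2, mul_zero],
      mul_eq_zero] at hval
    exact hval.elim hne (Blocks.char_one_ne_zero ψ)
  · rintro ⟨θ, hθ, hne⟩ h0
    rw [h0, zero_mul] at hval
    choose m hm using fun η : Cfsg.IrrCharacter N =>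
      Basic.exists_classInner_nat hchar (Basic.isCharacter_irr η)
    simp only [hm, Blocks.char_one_eq_degree, ← Nat.cast_mul, ← Nat.cast_sum] at hval
    have h' := (Nat.cast_eq_zero.mp hval.symm)
    rw [Finset.sum_eq_zero_iff] at h'
    rcases Nat.mul_eq_zero.mp (h' θ (Finset.mem_filter.mpr ⟨Finset.mem_univ _, hθ⟩)) with e | e
    · exact (Blocks.charDegree_pos θ).ne' e
    · exact hne (by rw [hm, e, Nat.cast_zero])

theorem omega_eT_zero_or_one (h : IsStab N b T) (ψ : Cfsg.IrrCharacter T) :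
    omega ψ (eT N b T h) = 0 ∨ omega ψ (eT N b T h) = 1 := by
  have he := congrArg (omega ψ) (eT_mul_self N b T h)
  rw [map_mul] at he
  rcases eq_or_ne (omega ψ (eT N b T h)) 0 with e | e
  · exact Or.inl e
  · exact Or.inr (mul_left_cancel₀ e (he.trans (mul_one _).symm))

theorem omega_eT_of_covers (h : IsStab N b T) {ψ : Cfsg.IrrCharacter T}
    (hψ : Covers N b T h.le ψ) : omega ψ (eT N b T h) = 1 :=
  (omega_eT_zero_or_one N b T h ψ).resolve_left ((omega_eT_ne_zero_iff N b T h ψ).mpr hψ)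

theorem omega_eT_of_not_covers (h : IsStab N b T) {ψ : Cfsg.IrrCharacter T}
    (hψ : ¬ Covers N b T h.le ψ) : omega ψ (eT N b T h) = 0 :=
  not_not.mp fun e => hψ ((omega_eT_ne_zero_iff N b T h ψ).mp e)

/-! ### The two key identities -/

/-- `y ↦ ψ°(y z)` extended linearly. -/
noncomputable def shift (f : G → ℂ) (y : G) (z : MonoidAlgebra ℂ G) : ℂ :=
  lin f (single y 1 * z)

omit [Fintype G] in
theorem shift_mul_eq {f : G → ℂ} {e : MonoidAlgebra ℂ G} (he : ∀ y, shift f y e = f y) (y : G)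
    (z : MonoidAlgebra ℂ G) : shift f y (z * e) = shift f y z := by
  induction z using MonoidAlgebra.induction_linear with
  | zero => simp
  | add a c ha hc => simp only [shift, add_mul, mul_add, map_add] at ha hc ⊢; rw [ha, hc]
  | single n r =>
    have hr : (single n r : MonoidAlgebra ℂ G) = r • single n 1 := by
      rw [smul_single, smul_eq_mul, mul_one]
    simp only [shift]
    rw [hr, smul_mul_assoc, mul_smul_comm, map_smul, ← mul_assoc, single_mul_single, one_mul,
      mul_smul_comm, map_smul, single_mul_single, one_mul, Blocks.lin_single, one_mul]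
    exact congrArg (r • ·) (he (y * n))

theorem shift_eq_self (h : IsStab N b T) {ψ : Cfsg.IrrCharacter T}
    (hψ : Covers N b T h.le ψ) (y : G) :
    shift (Cfsg.extendByZero T (ψ : T → ℂ)) y (ext N (Blocks.idem b).1) =
      Cfsg.extendByZero T (ψ : T → ℂ) y := by
  classical
  rw [← ext_eT N b T h]
  set f := Cfsg.extendByZero T (ψ : T → ℂ) with hf
  by_cases hy : y ∈ T
  · have hlin : ∀ z : MonoidAlgebra ℂ T, lin f (ext T z) = lin (ψ : T → ℂ) z := by
      intro z
      induction z using MonoidAlgebra.induction_linear with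
      | zero => simp
      | add a c ha hc => rw [map_add, map_add, map_add, ha, hc]
      | single n r =>
        rw [BrauerPairs.Trunc.ext_single, Blocks.lin_single, Blocks.lin_single, hf,
          Induced.Basic.extendByZero_coe]
    rw [shift, show (single y (1 : ℂ)) = ext T (single (⟨y, hy⟩ : T) 1) from
        (BrauerPairs.Trunc.ext_single T ⟨y, hy⟩ 1).symm, ← map_mul, hlin,
      Subalgebra.mem_center_iff.mp (eT N b T h).2, Blocks.lin_center_mul ψ (eT N b T h).2,
      ← Blocks.omega_apply, omega_eT_of_covers N b T h hψ, one_mul, Blocks.lin_single, one_mul,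
      hf, Induced.Basic.extendByZero_of_mem T _ hy]
  · rw [shift, hf, Induced.Basic.extendByZero_of_not_mem T _ hy, Blocks.lin_apply]
    refine Finset.sum_eq_zero fun g _ => ?_
    rw [coeff_single_mul_apply]
    by_cases hg : g ∈ T
    · rw [BrauerPairs.Trunc.coeff_ext_of_notMem T _ (fun h' => hy (by
        simpa using T.mul_mem hg (T.inv_mem h'))), mul_zero, zero_mul]
    · rw [Induced.Basic.extendByZero_of_not_mem T _ hg, mul_zero]

theorem shift_conj_eq_zero (h : IsStab N b T) {ψ : Cfsg.IrrCharacter T}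
    (hψ : Covers N b T h.le ψ) {g : G} (hg : g ∉ T) (y : G) :
    shift (Cfsg.extendByZero T (ψ : T → ℂ)) y (conjA g (ext N (Blocks.idem b).1)) = 0 := by
  rw [← shift_mul_eq (shift_eq_self N b T h hψ) y, conjA_mul_eq_zero N b T h hg, shift, mul_zero,
    map_zero]

theorem shift_ext_idem_eq_sum (f : G → ℂ) (y : G) :
    shift f y (ext N (Blocks.idem b).1) = ∑ n : G, coeffE N b n * f (y * n) := by
  rw [shift, Blocks.lin_apply]
  refine Fintype.sum_equiv (Equiv.mulLeft y⁻¹) _ _ fun g => ?_
  rw [coeff_single_mul_apply, coeff_ext_idem, one_mul, Equiv.coe_mulLeft, mul_inv_cancel_left]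

theorem coeffE_inv (n : G) : coeffE N b n⁻¹ = conj (coeffE N b n) := by
  classical
  haveI := Fintype.ofFinite (Cfsg.IrrCharacter N)
  by_cases hn : n ∈ N
  · rw [coeffE, Induced.Basic.extendByZero_of_mem N _ hn,
      Induced.Basic.extendByZero_of_mem N _ (N.inv_mem hn)]
    simp only [Blocks.blockCoeff_eq_sum, map_mul, map_sum, map_inv₀, map_natCast,
      Complex.conj_conj]
    congr 1
    refine Finset.sum_congr rfl fun η _ => ?_
    rw [show (⟨n⁻¹, N.inv_mem hn⟩ : N) = (⟨n, hn⟩ : N)⁻¹ from rfl,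
      Basic.apply_inv (Basic.isCharacter_irr η), Complex.conj_conj,
      Basic.conj_apply_one (Basic.isCharacter_irr η)]
  · rw [coeffE_of_notMem N b hn, coeffE_of_notMem N b (fun h' => hn (by simpa using N.inv_mem h')),
      map_zero]

theorem sum_twisted_eq_zero (h : IsStab N b T) {ψ φ : Cfsg.IrrCharacter T}
    (hψ : Covers N b T h.le ψ) (hφ : Covers N b T h.le φ) {x : G} (hx : x ∉ T) :
    ∑ t : G, Cfsg.extendByZero T (φ : T → ℂ) (x⁻¹ * t * x) *
      conj (Cfsg.extendByZero T (ψ : T → ℂ) t) = 0 := by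
  classical
  set f := Cfsg.extendByZero T (ψ : T → ℂ)
  set f' := Cfsg.extendByZero T (φ : T → ℂ)
  have h1 : ∀ t : G, conj (f t) = ∑ n : G, coeffE N b n⁻¹ * conj (f (t * n)) := by
    intro t
    conv_lhs => rw [show f t = shift f t (ext N (Blocks.idem b).1) from
      (shift_eq_self N b T h hψ t).symm, shift_ext_idem_eq_sum, map_sum]
    simp only [map_mul, coeffE_inv]
  rw [Finset.sum_congr rfl fun t _ => by rw [h1 t]]
  simp only [Finset.mul_sum]
  rw [Finset.sum_comm]
  have h2 : ∀ n : G, ∑ t : G, f' (x⁻¹ * t * x) * (coeffE N b n⁻¹ * conj (f (t * n))) =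
      ∑ s : G, conj (f s) * (coeffE N b n⁻¹ * f' (x⁻¹ * (s * n⁻¹) * x)) := by
    intro n
    refine Fintype.sum_equiv (Equiv.mulRight n) _ _ fun t => ?_
    rw [Equiv.coe_mulRight, mul_inv_cancel_right]
    ring
  simp only [h2]
  rw [Finset.sum_comm]
  refine Finset.sum_eq_zero fun s _ => ?_
  rw [← Finset.mul_sum]
  have h3 : ∑ n : G, coeffE N b n⁻¹ * f' (x⁻¹ * (s * n⁻¹) * x) =
      shift f' (x⁻¹ * s * x) (conjA x⁻¹ (ext N (Blocks.idem b).1)) := by
    rw [shift, Blocks.lin_apply]
    refine Fintype.sum_equiv ((Equiv.inv G).trans ((MulAut.conj x⁻¹).toEquiv.trans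
      (Equiv.mulLeft (x⁻¹ * s * x)))) _ _ fun n => ?_
    simp only [Equiv.trans_apply, Equiv.inv_apply, MulEquiv.toEquiv_eq_coe, EquivLike.coe_coe,
      MulAut.conj_apply, Equiv.coe_mulLeft, inv_inv, coeff_single_mul_apply, inv_mul_cancel_left,
      one_mul, BrauerPairs.Trunc.coeff_conjA, coeff_ext_idem]
    congr 2 <;> simp [mul_assoc]
  rw [h3, shift_conj_eq_zero N b T h hφ (fun h' => hx (by simpa using T.inv_mem h')), mul_zero]

/-- Induction is isometric on the characters over `b`. -/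
theorem classInner_indFun (h : IsStab N b T) {ψ φ : Cfsg.IrrCharacter T}
    (hψ : Covers N b T h.le ψ) (hφ : Covers N b T h.le φ) :
    Cfsg.classInner (Cfsg.indFun T (φ : T → ℂ)) (Cfsg.indFun T (ψ : T → ℂ)) =
      Cfsg.classInner (φ : T → ℂ) (ψ : T → ℂ) := by
  classical
  rw [Induced.Basic.frobenius_reciprocity' T _ (Induced.Basic.isClassFunction_indFun T _)]
  set f := Cfsg.extendByZero T (ψ : T → ℂ) with hf
  set f' := Cfsg.extendByZero T (φ : T → ℂ) with hf'
  have h1 : ∑ t : T, Cfsg.indFun T (φ : T → ℂ) t * conj ((ψ : T → ℂ) t) =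
      ∑ t : T, (φ : T → ℂ) t * conj ((ψ : T → ℂ) t) := by
    simp only [Cfsg.indFun, Finset.sum_mul, Finset.mul_sum, mul_assoc]
    rw [Finset.sum_comm]
    have key : ∀ x : G, ∑ t : T, (Nat.card T : ℂ)⁻¹ * (Cfsg.extendByZero T (φ : T → ℂ)
        (x⁻¹ * t * x) * conj ((ψ : T → ℂ) t)) =
        if x ∈ T then (Nat.card T : ℂ)⁻¹ * ∑ t : T, (φ : T → ℂ) t * conj ((ψ : T → ℂ) t)
        else 0 := by
      intro x
      rw [← Finset.mul_sum]
      split_ifs with hx
      · congr 1
        refine Finset.sum_congr rfl fun t _ => ?_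
        have := Induced.Basic.extendByZero_conj_of_mem T (Basic.isClassFunction_irr φ)
          (T.inv_mem hx) (t : G)
        rw [inv_inv] at this
        rw [this, Induced.Basic.extendByZero_coe]
      · rw [mul_eq_zero]; right
        rw [← sum_twisted_eq_zero N b T h hψ hφ hx]
        refine Finset.sum_of_injOn (fun t : T => (t : G)) Subtype.val_injective.injOn
          (fun _ _ => Finset.mem_univ _) (fun g _ hg => ?_) (fun t _ => ?_)
        · rw [Induced.Basic.extendByZero_of_not_mem T (ψ : T → ℂ)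
            fun h' => hg ⟨⟨g, h'⟩, Finset.mem_univ _, rfl⟩, map_zero, mul_zero]
        · rw [Induced.Basic.extendByZero_coe]
    rw [Finset.sum_congr rfl fun x _ => by simpa only [mul_assoc] using key x]
    rw [← Finset.sum_filter, Finset.sum_const, nsmul_eq_mul, ← Fintype.card_subtype,
      ← Nat.card_eq_fintype_card, ← mul_assoc,
      mul_inv_cancel₀ (Induced.Basic.subgroup_card_ne_zero T), one_mul]
  simp only [Cfsg.classInner]
  rw [h1]

theorem isIrrCharacter_indFun (h : IsStab N b T) {ψ : Cfsg.IrrCharacter T}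
    (hψ : Covers N b T h.le ψ) : Cfsg.IsIrrCharacter G (Cfsg.indFun T (ψ : T → ℂ)) :=
  Basic.isIrrCharacter_of_classInner_self
    (Induced.Character.isCharacter_indFun T (Basic.isCharacter_irr ψ))
    (by rw [classInner_indFun N b T h hψ hψ, Basic.classInner_self_irr])

/-- The induced irreducible character. -/
noncomputable def up (h : IsStab N b T) (ψ : Cfsg.IrrCharacter T) (hψ : Covers N b T h.le ψ) :
    Cfsg.IrrCharacter G :=
  ⟨Cfsg.indFun T (ψ : T → ℂ), isIrrCharacter_indFun N b T h hψ⟩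

theorem coe_up (h : IsStab N b T) (ψ : Cfsg.IrrCharacter T) (hψ : Covers N b T h.le ψ) :
    (up N b T h ψ hψ : G → ℂ) = Cfsg.indFun T (ψ : T → ℂ) := rfl

theorem up_injective (h : IsStab N b T) {ψ φ : Cfsg.IrrCharacter T} (hψ : Covers N b T h.le ψ)
    (hφ : Covers N b T h.le φ) (e : up N b T h φ hφ = up N b T h ψ hψ) : φ = ψ := by
  by_contra hne
  have := classInner_indFun N b T h hψ hφ
  rw [← coe_up N b T h φ hφ, ← coe_up N b T h ψ hψ, e, Basic.classInner_self_irr,
    Basic.classInner_irr_of_ne hne] at this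
  exact one_ne_zero this

/-- The induced character lies over `b`. -/
theorem exists_constituent_up (h : IsStab N b T) (ψ : Cfsg.IrrCharacter T)
    (hψ : Covers N b T h.le ψ) :
    ∃ θ ∈ b, Cfsg.classInner (fun n : N => (up N b T h ψ hψ : G → ℂ) n) (θ : N → ℂ) ≠ 0 := by
  obtain ⟨θ, hθ, hne⟩ := hψ
  refine ⟨θ, hθ, ?_⟩
  exact Clifford.Basic.classInner_comp_ne_zero (Subgroup.inclusion h.le)
    (Basic.isCharacter_comp T.subtype (Basic.isCharacter_irr (up N b T h ψ ⟨θ, hθ, hne⟩)))
    (a := ψ) (by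
      show Cfsg.classInner (fun t : T => Cfsg.indFun T (ψ : T → ℂ) t) (ψ : T → ℂ) ≠ 0
      rw [← Induced.Basic.frobenius_reciprocity' T _ (Induced.Basic.isClassFunction_indFun T _),
        classInner_indFun N b T h ⟨θ, hθ, hne⟩ ⟨θ, hθ, hne⟩, Basic.classInner_self_irr]
      exact one_ne_zero) hne

/-- Every character over `b` is induced. -/
theorem exists_up_eq (h : IsStab N b T) (χ : Cfsg.IrrCharacter G) {θ : Cfsg.IrrCharacter N}
    (hθ : θ ∈ b) (hne : Cfsg.classInner (fun n : N => (χ : G → ℂ) n) (θ : N → ℂ) ≠ 0) :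
    ∃ (ψ : Cfsg.IrrCharacter T) (hψ : Covers N b T h.le ψ), up N b T h ψ hψ = χ := by
  classical
  haveI := Fintype.ofFinite (Cfsg.IrrCharacter T)
  have hres : Cfsg.IsCharacter T (fun t : T => (χ : G → ℂ) t) :=
    Basic.isCharacter_comp T.subtype (Basic.isCharacter_irr χ)
  obtain ⟨ψ, hψ1, hψ2⟩ : ∃ ψ : Cfsg.IrrCharacter T,
      Cfsg.classInner (fun t : T => (χ : G → ℂ) t) ψ ≠ 0 ∧
      Cfsg.classInner (fun n : N => (ψ : T → ℂ) ⟨(n : G), h.le n.2⟩) θ ≠ 0 := by
    by_contra hcon
    push Not at hcon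
    apply hne
    have hexp := Complete.classFunction_eq_sum (Basic.isClassFunction_of_isCharacter hres)
    have e : (fun n : N => (χ : G → ℂ) n) = ∑ ψ : Cfsg.IrrCharacter T,
        Cfsg.classInner (fun t : T => (χ : G → ℂ) t) ψ •
          (fun n : N => (ψ : T → ℂ) ⟨(n : G), h.le n.2⟩) := by
      funext n
      have := congrFun hexp ⟨(n : G), h.le n.2⟩
      simp only [Finset.sum_apply, Pi.smul_apply] at this ⊢
      exact this
    rw [e, Basic.classInner_sum_left, Finset.sum_eq_zero]
    intro ψ _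
    rw [Induced.Basic.classInner_smul_left]
    by_cases h0 : Cfsg.classInner (fun t : T => (χ : G → ℂ) t) ψ = 0
    · rw [h0, zero_mul]
    · rw [hcon ψ h0, mul_zero]
  refine ⟨ψ, ⟨θ, hθ, hψ2⟩, ?_⟩
  by_contra hne'
  refine hψ1 ?_
  rw [← Induced.Basic.frobenius_reciprocity' T _ (Basic.isClassFunction_irr χ)]
  exact Basic.classInner_irr_of_ne (χ := χ) (ψ := up N b T h ψ ⟨θ, hθ, hψ2⟩) fun e => hne' e.symm

end Cfsg.Agent.Lib.BC77.Fong
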