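import Cfsg.Prelude.Def_Blocks
import Cfsg.Agent.Lib.Clifford.Basic
import Cfsg.Agent.Lib.Characters.Kernel
import Cfsg.Agent.Lib.Characters.Complete
import Cfsg.Agent.Lib.Cores.Basic
import Cfsg.Agent.Lib.Cores.MinNormal

/-!
# The theorem of Broline and Garrison on kernels and degrees
-/

set_option autoImplicit false

namespace Cfsg.Agent.Lib.BC77.Garrison

open scoped ComplexConjugate
open Cfsg.Agent.Lib.Induced.Basic Cfsg.Agent.Lib.Characters Cfsg.Agent.Lib.Characters.Basic

universe u

variable {G : Type u} [Group G] [Finite G]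

/-- Frattini's argument for a Sylow subgroup of a normal subgroup lying in a smaller one. -/
theorem normalizer_sup_eq_top {p : ℕ} [Fact p.Prime] {H C : Subgroup G} [C.Normal] (hCH : C ≤ H)
    (Q : Sylow p H) (hQ : (Q : Subgroup H).map H.subtype ≤ C) :
    Subgroup.normalizer (((Q : Subgroup H).map H.subtype : Subgroup G) : Set G) ⊔ C = ⊤ := by
  set X := (Q : Subgroup H).map H.subtype with hX
  have hXH : X ≤ H := Subgroup.map_subtype_le _
  have hXp : IsPGroup p (X.subgroupOf C) :=
    (Q.2.map H.subtype).of_equiv (Subgroup.subgroupOfEquivOfLe hQ).symm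
  have hidx : ¬ p ∣ (X.subgroupOf C).index := by
    intro h
    apply Q.not_dvd_index
    have h2 : X.relIndex C * C.relIndex H = X.relIndex H := Subgroup.relIndex_mul_relIndex _ _ _ hQ hCH
    have h3 : X.relIndex H = (Q : Subgroup H).index := by
      rw [hX, Subgroup.relIndex, Subgroup.subgroupOf, Subgroup.comap_map_eq_self_of_injective
        H.subtype_injective]
    rw [← h3, ← h2]
    exact dvd_mul_of_dvd_left h _
  have h := Sylow.normalizer_sup_eq_top (N := C) (hXp.toSylow hidx)
  rw [IsPGroup.toSylow_coe, Subgroup.map_subgroupOf_eq_of_le hQ] at h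
  exact h

/-- A character which is trivial on a supplement of `M` restricts irreducibly to `M`. -/
theorem isIrr_restrict {M D : Subgroup G} [D.Normal] (hMD : M ⊔ D = ⊤) (χ : Cfsg.IrrCharacter G)
    (hD : ∀ g ∈ D, (χ : G → ℂ) g = (χ : G → ℂ) 1) :
    Cfsg.IsIrrCharacter M (fun m : M => (χ : G → ℂ) m) := by
  obtain ⟨φ, -, hφ, hirr⟩ := Kernel.exists_descend D (isCharacter_irr χ) hD
  have hs : Function.Surjective ((QuotientGroup.mk' D).comp M.subtype) := by
    intro q
    obtain ⟨g, rfl⟩ := QuotientGroup.mk'_surjective D q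
    have hg : g ∈ ((M ⊔ D : Subgroup G) : Set G) := by rw [hMD]; trivial
    rw [Subgroup.mul_normal] at hg
    obtain ⟨m, hm, d, hd, rfl⟩ := Set.mem_mul.1 hg
    refine ⟨⟨m, hm⟩, ?_⟩
    show QuotientGroup.mk' D m = QuotientGroup.mk' D (m * d)
    rw [map_mul, show QuotientGroup.mk' D d = 1 from (QuotientGroup.eq_one_iff d).2 hd, mul_one]
  have h := isIrrCharacter_comp _ hs (hirr χ.2)
  rw [show (fun m : M => (χ : G → ℂ) m) = φ ∘ ((QuotientGroup.mk' D).comp M.subtype) from
    funext fun m => by rw [← hφ]; rfl]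
  exact h

/-- If a sum of two characters takes the value of its degree, so does each summand. -/
theorem apply_eq_degree_of_add {M : Type u} [Group M] [Finite M] {a b : M → ℂ}
    (ha : Cfsg.IsCharacter M a) (hb : Cfsg.IsCharacter M b) {k : ℕ} (hk : k ≠ 0) {x : M}
    (h : (k : ℂ) * a x + b x = (k : ℂ) * a 1 + b 1) : a x = a 1 := by
  obtain ⟨da, hda⟩ := exists_degree ha
  obtain ⟨db, hdb⟩ := exists_degree hb
  have h1 : ‖a x‖ ≤ da := by
    have := norm_apply_le ha x
    rwa [hda, Complex.norm_natCast] at this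
  have h2 : ‖b x‖ ≤ db := by
    have := norm_apply_le hb x
    rwa [hdb, Complex.norm_natCast] at this
  have h3 := congrArg Complex.re h
  rw [hda, hdb] at h3
  simp only [Complex.add_re, Complex.mul_re, Complex.natCast_re, Complex.natCast_im, zero_mul,
    sub_zero] at h3
  have hk' : (0 : ℝ) < k := by exact_mod_cast Nat.pos_of_ne_zero hk
  have h4 := (Complex.re_le_norm (a x)).trans h1
  have h5 := (Complex.re_le_norm (b x)).trans h2
  have h6 : (a x).re = da := by nlinarith
  have h7 : (a x).im = 0 := by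
    have h8 : (a x).re * (a x).re + (a x).im * (a x).im = ‖a x‖ ^ 2 := by
      rw [← Complex.normSq_apply, Complex.sq_norm]
    have h9 : ‖a x‖ ^ 2 ≤ (da : ℝ) ^ 2 := pow_le_pow_left₀ (norm_nonneg _) h1 2
    rw [h6] at h8
    nlinarith [mul_self_nonneg (a x).im]
  rw [hda]
  apply Complex.ext
  · simpa using h6
  · simpa using h7

/-- The degree of a character as a natural number. -/
theorem charDegree_eq {χ : G → ℂ} {d : ℕ} (h : χ 1 = d) : Cfsg.charDegree χ = d := by
  rw [Cfsg.charDegree, h, Complex.natCast_re, Nat.floor_natCast]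

/-- Inducing from a supplement of the kernel: either a larger character with smaller kernel appears,
or the character vanishes on the supplement outside its core. -/
theorem core_or_bigger (χ : Cfsg.IrrCharacter G) (K M : Subgroup G) [K.Normal]
    (hK : ∀ g : G, g ∈ K ↔ (χ : G → ℂ) g = (χ : G → ℂ) 1) (hM : IsCoatom M) (hMK : M ⊔ K = ⊤) :
    (∃ ψ : Cfsg.IrrCharacter G, Cfsg.charDegree (χ : G → ℂ) < Cfsg.charDegree (ψ : G → ℂ) ∧
      ∃ L : Subgroup G, (∀ g : G, g ∈ L ↔ (ψ : G → ℂ) g = (ψ : G → ℂ) 1) ∧ L < K) ∨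
    ∀ a : G, a ∈ M → (χ : G → ℂ) a ≠ 0 → a ∈ M.normalCore := by
  classical
  haveI := Fintype.ofFinite G
  haveI := Fintype.ofFinite M
  haveI := Fintype.ofFinite (Cfsg.IrrCharacter G)
  have hθirr := isIrr_restrict hMK χ (fun g hg => (hK g).1 hg)
  let θ : Cfsg.IrrCharacter M := ⟨_, hθirr⟩
  obtain ⟨dχ, hdχ0, hdχ⟩ := exists_degree_pos χ
  by_cases hbig : ∃ ψ : Cfsg.IrrCharacter G,
      Cfsg.classInner (fun m : M => (ψ : G → ℂ) m) (θ : M → ℂ) ≠ 0 ∧ (ψ : G → ℂ) 1 ≠ (χ : G → ℂ) 1
  · obtain ⟨ψ, hψ, hne⟩ := hbig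
    left
    have hψM : Cfsg.IsCharacter M (fun m : M => (ψ : G → ℂ) m) :=
      isCharacter_comp M.subtype (isCharacter_irr ψ)
    obtain ⟨k, r, hr, hk, -, hdec⟩ := Clifford.Basic.exists_eq_nsmul_add hψM θ
    have hk0 : k ≠ 0 := fun h => hψ (by rw [hk, h, Nat.cast_zero])
    obtain ⟨dψ, -, hdψ⟩ := exists_degree_pos ψ
    obtain ⟨dr, hdr⟩ := exists_degree hr
    have hat : ∀ m : M, (ψ : G → ℂ) m = (k : ℂ) * (χ : G → ℂ) m + r m := by
      intro m
      have h1 := congrFun hdec m
      rw [Pi.add_apply, Pi.smul_apply, nsmul_eq_mul] at h1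
      exact h1
    have hone : dψ = k * dχ + dr := by
      have h1 := hat 1
      rw [OneMemClass.coe_one, hdψ, hdχ, hdr] at h1
      exact_mod_cast h1
    have hlt : dχ < dψ := by
      have h1 : dχ ≤ k * dχ := Nat.le_mul_of_pos_left _ (Nat.pos_of_ne_zero hk0)
      have h2 : dψ ≠ dχ := fun h => hne (by rw [hdψ, hdχ, h])
      omega
    refine ⟨ψ, by rw [charDegree_eq hdχ, charDegree_eq hdψ]; exact hlt,
      Kernel.charKer (isCharacter_irr ψ), fun g => Iff.rfl, ?_⟩
    haveI := Kernel.charKer_normal (isCharacter_irr ψ)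
    have hkM : Kernel.charKer (isCharacter_irr ψ) ≤ M := by
      by_contra hno
      have htop : M ⊔ Kernel.charKer (isCharacter_irr ψ) = ⊤ :=
        hM.2 _ (left_lt_sup.2 hno)
      have hirr := isIrr_restrict htop ψ (fun g hg => hg)
      have heq : (⟨_, hirr⟩ : Cfsg.IrrCharacter M) = θ := by
        by_contra hne'
        exact hψ (classInner_irr_of_ne hne')
      have h1 := congrFun (congrArg Subtype.val heq) 1
      exact hne (by simpa [θ] using h1)
    have hle : Kernel.charKer (isCharacter_irr ψ) ≤ K := by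
      intro g hg
      rw [hK]
      have hgM := hkM hg
      have h := apply_eq_degree_of_add (M := M) (isCharacter_irr θ) hr hk0
        (x := ⟨g, hgM⟩) (by
          show (k : ℂ) * (χ : G → ℂ) g + r ⟨g, hgM⟩ = (k : ℂ) * (χ : G → ℂ) ((1 : M) : G) + r 1
          rw [← hat 1, ← hat ⟨g, hgM⟩]
          exact hg)
      exact h
    refine lt_of_le_of_ne hle fun heq => hM.1 ?_
    rw [← hMK]
    exact (sup_eq_left.2 (heq ▸ hkM)).symm
  · right
    push Not at hbig
    intro a haM hχa
    set F := Cfsg.indFun M (θ : M → ℂ) with hF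
    have hFcl : Cfsg.IsClassFunction G F := isClassFunction_indFun M _
    have hone : ∀ ψ : Cfsg.IrrCharacter G, ∀ m : M, Cfsg.classInner F ψ * (ψ : G → ℂ) m =
        Cfsg.classInner F ψ * (χ : G → ℂ) m := by
      intro ψ m
      by_cases h0 : Cfsg.classInner F ψ = 0
      · rw [h0, zero_mul, zero_mul]
      congr 1
      rw [hF, frobenius_reciprocity M _ (isClassFunction_irr ψ)] at h0
      have hψ := Clifford.Basic.classInner_ne_zero_symm h0
      have hψM : Cfsg.IsCharacter M (fun m : M => (ψ : G → ℂ) m) :=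
        isCharacter_comp M.subtype (isCharacter_irr ψ)
      obtain ⟨k, r, hr, hk, -, hdec⟩ := Clifford.Basic.exists_eq_nsmul_add hψM θ
      have hk0 : k ≠ 0 := fun h => hψ (by rw [hk, h, Nat.cast_zero])
      obtain ⟨dr, hdr⟩ := exists_degree hr
      have hat : ∀ m : M, (ψ : G → ℂ) m = (k : ℂ) * (χ : G → ℂ) m + r m := by
        intro m
        have h1 := congrFun hdec m
        rw [Pi.add_apply, Pi.smul_apply, nsmul_eq_mul] at h1
        exact h1
      have h1 := hat 1
      rw [OneMemClass.coe_one, hbig ψ hψ, hdχ, hdr] at h1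
      have h1' : dχ = k * dχ + dr := by exact_mod_cast h1
      have hk1 : k = 1 := by
        by_contra hne
        have : 2 * dχ ≤ k * dχ := Nat.mul_le_mul_right _ (by omega)
        omega
      subst hk1
      have hdr0 : dr = 0 := by omega
      have hr0 := Clifford.Basic.eq_zero_of_apply_one_eq_zero hr (by rw [hdr, hdr0, Nat.cast_zero])
      rw [hat m, hr0]
      simp
    have hexp : ∀ g : G, F g = ∑ ψ : Cfsg.IrrCharacter G, Cfsg.classInner F ψ * (ψ : G → ℂ) g :=
      fun g => by
        have h := congrFun (Complete.classFunction_eq_sum hFcl) g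
        simpa using h
    have hFM : ∀ m : M, F m = (∑ ψ : Cfsg.IrrCharacter G, Cfsg.classInner F ψ) * (χ : G → ℂ) m := by
      intro m
      rw [hexp, Finset.sum_mul]
      exact Finset.sum_congr rfl fun ψ _ => hone ψ m
    have hS : (∑ ψ : Cfsg.IrrCharacter G, Cfsg.classInner F ψ) = (M.index : ℂ) := by
      have h1 := hFM 1
      rw [OneMemClass.coe_one, hF, indFun_one] at h1
      refine mul_right_cancel₀ (apply_one_ne_zero χ) ?_
      rw [hF]
      exact h1.symm
    have hperm : F a = Cfsg.indFun M (fun _ => (1 : ℂ)) a * (χ : G → ℂ) a := by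
      have h := congrFun (indFun_mul_restrict M (fun _ => (1 : ℂ)) (isClassFunction_irr χ)) a
      simp only [one_mul] at h
      exact h
    rw [hFM ⟨a, haM⟩, hS] at hperm
    have hpi := mul_right_cancel₀ hχa hperm
    rw [indFun_apply] at hpi
    have hMc : (Nat.card M : ℂ) ≠ 0 := subgroup_card_ne_zero M
    rw [eq_inv_mul_iff_mul_eq₀ hMc, ← Nat.cast_mul, Subgroup.card_mul_index] at hpi
    simp only [dite_eq_ite, Finset.sum_boole, Nat.cast_inj] at hpi
    have hall : (Finset.univ.filter fun x : G => x⁻¹ * a * x ∈ M) = Finset.univ :=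
      (Finset.card_eq_iff_eq_univ _).1 (by rw [← hpi, Nat.card_eq_fintype_card])
    intro b
    have hb : b⁻¹ ∈ Finset.univ.filter (fun x : G => x⁻¹ * a * x ∈ M) := by
      rw [hall]
      exact Finset.mem_univ _
    simpa [mul_assoc] using hb

/-- Broline–Garrison, first part. -/
theorem garrison_not_le (χ : Cfsg.IrrCharacter G) (K : Subgroup G) [K.Normal]
    (hK : ∀ g : G, g ∈ K ↔ (χ : G → ℂ) g = (χ : G → ℂ) 1) (h : ¬ K ≤ Cfsg.fittingSubgroup G) :
    ∃ ψ : Cfsg.IrrCharacter G, Cfsg.charDegree (χ : G → ℂ) < Cfsg.charDegree (ψ : G → ℂ) ∧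
      ∃ L : Subgroup G, (∀ g : G, g ∈ L ↔ (ψ : G → ℂ) g = (ψ : G → ℂ) 1) ∧ L < K := by
  have hnil : ¬ Group.IsNilpotent K := fun hn => h (Cores.le_fittingSubgroup hn)
  rw [((Group.isNilpotent_of_finite_tfae (G := K)).out 0 3 :)] at hnil
  push Not at hnil
  obtain ⟨p, hp, P, hP⟩ := hnil
  haveI := hp
  set X := (P : Subgroup K).map K.subtype with hX
  have hne : Subgroup.normalizer (X : Set G) ≠ ⊤ := by
    intro htop
    haveI : X.Normal := Subgroup.normalizer_eq_top_iff.1 htop
    apply hP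
    have : (P : Subgroup K) = X.subgroupOf K := by
      rw [hX, Subgroup.subgroupOf, Subgroup.comap_map_eq_self_of_injective K.subtype_injective]
    rw [this]
    infer_instance
  obtain ⟨M, hM, hle⟩ := (eq_top_or_exists_le_coatom _).resolve_left hne
  have hMK : M ⊔ K = ⊤ := top_le_iff.1
    ((Sylow.normalizer_sup_eq_top P).ge.trans (sup_le_sup_right hle _))
  refine (core_or_bigger χ K M hK hM hMK).resolve_right fun hcore => ?_
  haveI : (M.normalCore ⊓ K).Normal := Subgroup.normal_inf_normal _ _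
  have hXC : X ≤ M.normalCore ⊓ K := fun x hx => by
    have hxK : x ∈ K := Subgroup.map_subtype_le _ hx
    refine ⟨hcore x (hle (Subgroup.le_normalizer hx)) ?_, hxK⟩
    rw [(hK x).1 hxK]
    exact apply_one_ne_zero χ
  exact hM.1 (top_le_iff.1 ((normalizer_sup_eq_top inf_le_right P hXC).ge.trans
    (sup_le hle (inf_le_left.trans M.normalCore_le))))

/-- Broline–Garrison, second part. -/
theorem garrison_eq (χ : Cfsg.IrrCharacter G) (K : Subgroup G) [K.Normal]
    (hK : ∀ g : G, g ∈ K ↔ (χ : G → ℂ) g = (χ : G → ℂ) 1) (hF : K = Cfsg.fittingSubgroup G)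
    (hsolv : Group.IsSolvable (G ⧸ K)) (htop : K ≠ ⊤) :
    ∃ ψ : Cfsg.IrrCharacter G, Cfsg.charDegree (χ : G → ℂ) < Cfsg.charDegree (ψ : G → ℂ) ∧
      ∃ L : Subgroup G, (∀ g : G, g ∈ L ↔ (ψ : G → ℂ) g = (ψ : G → ℂ) 1) ∧ L < K := by
  classical
  haveI : Nontrivial (G ⧸ K) := QuotientGroup.nontrivial_iff.2 htop
  obtain ⟨E, hEn, hE, hmin⟩ := Cores.MinNormal.exists_minimal (G := G ⧸ K)
  haveI := hEn
  obtain ⟨-, q, hq, hqE⟩ := Cores.MinNormal.elementary_of_solvable hE hmin
  haveI := Fact.mk hq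
  let H : Subgroup G := E.comap (QuotientGroup.mk' K)
  haveI hHn : H.Normal := hEn.comap _
  have hKH : K ≤ H := fun x hx => by
    show QuotientGroup.mk' K x ∈ E
    rw [show QuotientGroup.mk' K x = 1 from (QuotientGroup.eq_one_iff x).2 hx]
    exact one_mem E
  have hsurj := QuotientGroup.mk'_surjective K
  obtain ⟨Q⟩ : Nonempty (Sylow q H) := inferInstance
  set X := (Q : Subgroup H).map H.subtype with hX
  have hXH : X ≤ H := Subgroup.map_subtype_le _
  -- H = K X
  have hHKX : H ≤ K ⊔ X := by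
    have h1 : Subgroup.relIndex (K ⊔ X) H = 1 := by
      obtain ⟨j, hj⟩ := IsPGroup.iff_card.1 (Cores.MinNormal.isPGroup_of_pow_eq_one hqE)
      have h2 : Subgroup.relIndex (K ⊔ X) H ∣ q ^ j := by
        rw [← hj]
        refine (Subgroup.relIndex_dvd_of_le_left H (le_sup_left : K ≤ K ⊔ X)).trans (dvd_of_eq ?_)
        have hEmap : E = H.map (QuotientGroup.mk' K) :=
          (Subgroup.map_comap_eq_self_of_surjective hsurj E).symm
        rw [hEmap, show H.map (QuotientGroup.mk' K) = ((QuotientGroup.mk' K).comp H.subtype).range by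
          rw [MonoidHom.range_comp, Subgroup.range_subtype], ← Subgroup.index_ker, Subgroup.relIndex]
        congr 1
        ext x
        show (x : G) ∈ K ↔ QuotientGroup.mk' K (x : G) = 1
        exact (QuotientGroup.eq_one_iff _).symm
      have h3 : Subgroup.relIndex (K ⊔ X) H ∣ (Q : Subgroup H).index := by
        have h4 : X.relIndex H = (Q : Subgroup H).index := by
          rw [hX, Subgroup.relIndex, Subgroup.subgroupOf,
            Subgroup.comap_map_eq_self_of_injective H.subtype_injective]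
        rw [← h4]
        exact Subgroup.relIndex_dvd_of_le_left H le_sup_right
      exact Nat.eq_one_of_dvd_coprimes
        (Nat.Coprime.pow_left j (hq.coprime_iff_not_dvd.2 Q.not_dvd_index)) h2 h3
    exact Subgroup.relIndex_eq_one.1 h1
  have hHne : ¬ H ≤ K := fun hHK => hE (by
    rw [eq_bot_iff]
    intro e he
    obtain ⟨x, rfl⟩ := hsurj e
    exact Subgroup.mem_bot.2 ((QuotientGroup.eq_one_iff x).2 (hHK he)))
  have hne : Subgroup.normalizer (X : Set G) ≠ ⊤ := by
    intro htop'
    haveI : X.Normal := Subgroup.normalizer_eq_top_iff.1 htop'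
    have hXF : X ≤ K := hF ▸ Cores.le_fittingSubgroup (Q.2.map H.subtype).isNilpotent
    exact hHne (hHKX.trans (sup_le le_rfl hXF))
  obtain ⟨M, hM, hle⟩ := (eq_top_or_exists_le_coatom _).resolve_left hne
  have hXM : X ≤ M := Subgroup.le_normalizer.trans hle
  have hMK : M ⊔ K = ⊤ := top_le_iff.1 ((Sylow.normalizer_sup_eq_top Q).ge.trans
    (sup_le (hle.trans le_sup_left) (hHKX.trans (sup_le le_sup_right (hXM.trans le_sup_left)))))
  refine (core_or_bigger χ K M hK hM hMK).resolve_right fun hcore => ?_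
  haveI := Fintype.ofFinite G
  haveI := Fintype.ofFinite H
  haveI := Fintype.ofFinite K
  have hmulK : ∀ (k x : G), k ∈ K → (χ : G → ℂ) (k * x) = (χ : G → ℂ) x := fun k x hk =>
    (Kernel.apply_mul_of_apply_eq_one (isCharacter_irr χ) ((hK k).1 hk) x).1
  -- some element of X outside K where χ does not vanish
  obtain ⟨a, haX, haK, haχ⟩ : ∃ a, a ∈ X ∧ a ∉ K ∧ (χ : G → ℂ) a ≠ 0 := by
    by_contra hno
    push Not at hno
    have hzero : ∀ x : H, (x : G) ∉ K → (χ : G → ℂ) x = 0 := by
      intro x hx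
      have hx' : (x : G) ∈ ((K ⊔ X : Subgroup G) : Set G) := hHKX x.2
      rw [Subgroup.normal_mul] at hx'
      obtain ⟨k, hk, y, hy, hky⟩ := Set.mem_mul.1 hx'
      rw [← hky, hmulK k y hk]
      exact hno y hy fun hyK => hx (hky ▸ mul_mem hk hyK)
    have hone : Cfsg.classInner (fun x : H => (χ : G → ℂ) x) (oneChar H : H → ℂ) ≠ 0 := by
      rw [Cfsg.classInner]
      refine mul_ne_zero (inv_ne_zero (subgroup_card_ne_zero H)) ?_
      rw [Finset.sum_congr rfl (g := fun x : H => if (x : G) ∈ K then (χ : G → ℂ) 1 else 0)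
        fun x _ => by
          rw [oneChar_apply, map_one, mul_one]
          split_ifs with hx
          · exact (hK _).1 hx
          · exact hzero x hx]
      rw [← Finset.sum_filter, Finset.sum_const, nsmul_eq_mul]
      refine mul_ne_zero (Nat.cast_ne_zero.2 ?_) (apply_one_ne_zero χ)
      exact Finset.card_ne_zero.2 ⟨1, by simp⟩
    have hres := Clifford.Basic.restrict_eq_smul H χ.2 (oneChar H) hone (fun g => rfl)
    apply hHne
    intro x hx
    rw [hK]
    have h1 := congrFun hres ⟨x, hx⟩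
    have h2 := congrFun hres 1
    simp only [Pi.smul_apply, oneChar_apply, smul_eq_mul] at h1 h2
    rw [h1, ← h2]
    rfl
  haveI : (M.normalCore ⊓ H).Normal := Subgroup.normal_inf_normal _ _
  set C := M.normalCore ⊓ H with hC
  have hHC : H ≤ C ⊔ K := by
    have hCE : C.map (QuotientGroup.mk' K) ≤ E := by
      rintro _ ⟨c, hc, rfl⟩
      exact hc.2
    rcases hmin (C.map (QuotientGroup.mk' K))
      (Subgroup.Normal.map inferInstance _ hsurj) hCE with h0 | h0
    · exfalso
      apply haK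
      have : QuotientGroup.mk' K a ∈ C.map (QuotientGroup.mk' K) :=
        Subgroup.mem_map_of_mem _ ⟨hcore a (hXM haX) haχ, hXH haX⟩
      rw [h0, Subgroup.mem_bot] at this
      exact (QuotientGroup.eq_one_iff a).1 this
    · intro x hx
      have hx' : QuotientGroup.mk' K x ∈ E := hx
      rw [← h0] at hx'
      obtain ⟨c, hc, hcx⟩ := Subgroup.mem_map.1 hx'
      rw [show x = c * (c⁻¹ * x) by group]
      exact Subgroup.mul_mem_sup hc (QuotientGroup.eq.1 hcx)
  have hXC : X ≤ C := by
    intro x hx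
    refine ⟨?_, hXH hx⟩
    have hx' : x ∈ ((C ⊔ K : Subgroup G) : Set G) := hHC (hXH hx)
    rw [Subgroup.mul_normal] at hx'
    obtain ⟨c, hc, k, hk, rfl⟩ := Set.mem_mul.1 hx'
    refine mul_mem hc.1 (hcore k ?_ ?_)
    · have := mul_mem (inv_mem (M.normalCore_le hc.1)) (hXM hx)
      rwa [inv_mul_cancel_left] at this
    · rw [(hK k).1 hk]
      exact apply_one_ne_zero χ
  exact hM.1 (top_le_iff.1 ((normalizer_sup_eq_top inf_le_right Q hXC).ge.trans
    (sup_le hle (inf_le_left.trans M.normalCore_le))))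

end Cfsg.Agent.Lib.BC77.Garrison
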