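import Cfsg.Agent.Lib.RelGlauberman.Basic
import Cfsg.Agent.Lib.Isometry.Clifford
import Cfsg.Agent.Lib.Characters.Linear
import Cfsg.Agent.Lib.Induced.Character
import Mathlib.GroupTheory.Solvable
import Mathlib.FieldTheory.Finite.Basic

/-!
# Invariant characters over invariant characters, coprime index and solvable quotient
-/

set_option autoImplicit false
set_option linter.style.haveILetI false

namespace Cfsg.Agent.Lib.BC77.InvOver

open Cfsg.Agent.Lib.Characters
open Cfsg.Agent.Lib.Glauberman (Inv)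
open Cfsg.Agent.Lib.RelGlauberman (InvOn restrictAct quotAct coe_restrictAct quotAct_mk)
open scoped ComplexConjugate

universe u v w

theorem inner_pos {K : Type v} [Group K] [Fintype K] {φ φ' : K → ℂ}
    (hφ : Cfsg.IsCharacter K φ) (hφ' : Cfsg.IsCharacter K φ') (a : Cfsg.IrrCharacter K)
    (h : Cfsg.classInner φ (a : K → ℂ) ≠ 0) (h' : Cfsg.classInner φ' (a : K → ℂ) ≠ 0) :
    Cfsg.classInner φ φ' ≠ 0 := by
  obtain ⟨m, r, hr, hm, -, rfl⟩ := Clifford.Basic.exists_eq_nsmul_add hφ a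
  obtain ⟨k, hk⟩ := Basic.exists_classInner_nat (Basic.isCharacter_irr a) hφ'
  obtain ⟨j, hj⟩ := Basic.exists_classInner_nat hr hφ'
  rw [Induced.Basic.classInner_add_left, Clifford.Basic.classInner_nsmul_left, hk, hj]
  have hm0 : m ≠ 0 := fun e => h (by rw [hm, e, Nat.cast_zero])
  have hk0 : k ≠ 0 := fun e => Clifford.Basic.classInner_ne_zero_symm h' (by rw [hk, e, Nat.cast_zero])
  have hpos : m * k + j ≠ 0 := Nat.ne_of_gt (lt_of_lt_of_le
    (Nat.mul_pos (Nat.pos_of_ne_zero hm0) (Nat.pos_of_ne_zero hk0)) (Nat.le_add_right _ _))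
  exact_mod_cast hpos

section Step

variable {Y : Type u} [Group Y] [Fintype Y] {K : Type v} [Group K] [Fintype K]
variable {S : Type w} [Group S] [Fintype S]

/-- Abelian quotient of index prime to the order of the operator group. -/
theorem step (act : S →* MulAut Y) (actK : S →* MulAut K) (j : K →* Y) (hj : Function.Injective j)
    (hequ : ∀ s k, j (actK s k) = act s (j k))
    (hab : ∀ x y : Y, x * y * x⁻¹ * y⁻¹ ∈ j.range)
    (hcop : j.range.index.Coprime (Nat.card S))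
    (ψ : Cfsg.IrrCharacter K) (hψ : Inv actK (ψ : K → ℂ)) :
    ∃ χ : Cfsg.IrrCharacter Y, Cfsg.classInner ((χ : Y → ℂ) ∘ j) (ψ : K → ℂ) ≠ 0 ∧
      Inv act (χ : Y → ℂ) := by
  classical
  set R := j.range
  haveI hRn : R.Normal := ⟨fun r hr g => by
    have := mul_mem (hab g r) hr
    simpa [mul_assoc] using this⟩
  let e : K ≃* R := MonoidHom.ofInjective hj
  let ψ' : Cfsg.IrrCharacter R :=
    ⟨_, Basic.isIrrCharacter_comp e.symm.toMonoidHom e.symm.surjective ψ.2⟩
  haveI := Fintype.ofFinite R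
  have htr : ∀ f g : Y → ℂ,
      Cfsg.classInner (f ∘ j) (g ∘ j) = Cfsg.classInner (fun r : R => f r) (fun r : R => g r) := by
    intro f g
    simp only [Cfsg.classInner, Nat.card_congr e.toEquiv]
    congr 1
    exact Fintype.sum_equiv e.toEquiv _ _ fun k => rfl
  have htrψ : ∀ f : Y → ℂ,
      Cfsg.classInner (f ∘ j) (ψ : K → ℂ) = Cfsg.classInner (fun r : R => f r) (ψ' : R → ℂ) := by
    intro f
    simp only [Cfsg.classInner, Nat.card_congr e.toEquiv]
    congr 1
    refine Fintype.sum_equiv e.toEquiv _ _ fun k => ?_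
    show f (j k) * _ = f (j k) * conj ((ψ : K → ℂ) (e.symm (e k)))
    rw [e.symm_apply_apply]
  -- a character over ψ
  obtain ⟨χ₀, hχ₀⟩ : ∃ χ₀ : Cfsg.IrrCharacter Y,
      Cfsg.classInner ((χ₀ : Y → ℂ) ∘ j) (ψ : K → ℂ) ≠ 0 := by
    obtain ⟨a, ha⟩ := Clifford.Basic.exists_constituent
      (Induced.Character.isCharacter_indFun R (Basic.isCharacter_irr ψ')) (fun h0 => by
        have := congrFun h0 1
        rw [Induced.Basic.indFun_one] at this
        exact mul_ne_zero (Nat.cast_ne_zero.2 Subgroup.index_ne_zero_of_finite)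
          (Basic.apply_one_ne_zero ψ') this)
    refine ⟨a, ?_⟩
    rw [htrψ]
    rw [Induced.Basic.frobenius_reciprocity R _ (Basic.isClassFunction_irr a)] at ha
    exact Clifford.Basic.classInner_ne_zero_symm ha
  -- transitivity of the linear characters
  obtain ⟨Λ, -, hΛ, hsum⟩ := Isometry.Clifford.exists_dual R hab
  have htrans : ∀ χ' : Cfsg.IrrCharacter Y,
      Cfsg.classInner ((χ' : Y → ℂ) ∘ j) (ψ : K → ℂ) ≠ 0 →
      ∃ l : Y →* ℂˣ, (∀ r ∈ R, l r = 1) ∧
        ∀ g, (l g : ℂ) * (χ₀ : Y → ℂ) g = (χ' : Y → ℂ) g := by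
    intro χ' hχ'
    by_contra hcon
    push Not at hcon
    have hpos := inner_pos (Basic.isCharacter_comp j (Basic.isCharacter_irr χ₀))
      (Basic.isCharacter_comp j (Basic.isCharacter_irr χ')) ψ hχ₀ hχ'
    rw [htr] at hpos
    apply hpos
    have hzero : ∑ l ∈ Λ, Cfsg.classInner (fun g => (l g : ℂ) * (χ₀ : Y → ℂ) g) (χ' : Y → ℂ) = 0 := by
      refine Finset.sum_eq_zero fun l hl => ?_
      have hirr : Cfsg.IsIrrCharacter Y (fun g => (l g : ℂ) * (χ₀ : Y → ℂ) g) :=
        Linear.isIrrCharacter_linear_mul (Induced.Character.isCharacter_hom l) (by simp) χ₀.2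
      refine Basic.classInner_irr_of_ne (χ := ⟨_, hirr⟩) (ψ := χ') fun h => ?_
      obtain ⟨g, hg⟩ := hcon l (hΛ l hl)
      exact hg (congrFun (congrArg Subtype.val h) g)
    simp only [Cfsg.classInner, mul_assoc] at hzero
    rw [← Finset.mul_sum, Finset.sum_comm] at hzero
    simp only [← Finset.sum_mul, hsum, ite_mul, zero_mul] at hzero
    rw [← Finset.sum_filter, ← Finset.mul_sum, mul_eq_zero] at hzero
    have h2 := (mul_eq_zero.mp (hzero.resolve_left (inv_ne_zero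
      (Nat.cast_ne_zero.2 Nat.card_pos.ne')))).resolve_left
        (Nat.cast_ne_zero.2 Subgroup.index_ne_zero_of_finite)
    rw [Cfsg.classInner, mul_eq_zero]
    right
    rw [← h2]
    exact (Finset.sum_subtype (Finset.univ.filter fun g : Y => g ∈ R) (fun g => by simp)
      (fun g => (χ₀ : Y → ℂ) g * conj ((χ' : Y → ℂ) g))).symm
  -- the action on linear characters
  let σ : S → (Y →* ℂˣ) →* (Y →* ℂˣ) := fun s =>
    { toFun := fun l => l.comp (act s⁻¹).toMonoidHom
      map_one' := MonoidHom.ext fun _ => rfl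
      map_mul' := fun a b => MonoidHom.ext fun _ => rfl }
  have hσ : ∀ (s : S) (l : Y →* ℂˣ) (g : Y), σ s l g = l (act s⁻¹ g) := fun s l g => rfl
  have hover : ∀ s : S, ∃ l : Y →* ℂˣ, (∀ r ∈ R, l r = 1) ∧
      ∀ g, (l g : ℂ) * (χ₀ : Y → ℂ) g = (χ₀ : Y → ℂ) (act s⁻¹ g) := by
    intro s
    refine htrans ⟨_, Basic.isIrrCharacter_comp (act s⁻¹).toMonoidHom (act s⁻¹).surjective χ₀.2⟩ ?_
    have e : Cfsg.classInner (((χ₀ : Y → ℂ) ∘ (act s⁻¹).toMonoidHom) ∘ j) (ψ : K → ℂ) =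
        Cfsg.classInner ((χ₀ : Y → ℂ) ∘ j) (ψ : K → ℂ) := by
      simp only [Cfsg.classInner]
      congr 1
      refine Fintype.sum_equiv (actK s⁻¹).toEquiv _ _ fun k => ?_
      simp only [Function.comp_apply, MulEquiv.coe_toMonoidHom, MulEquiv.toEquiv_eq_coe,
        EquivLike.coe_coe, hequ, hψ s⁻¹ k]
    show Cfsg.classInner (((χ₀ : Y → ℂ) ∘ (act s⁻¹).toMonoidHom) ∘ j) (ψ : K → ℂ) ≠ 0
    rw [e]; exact hχ₀
  choose l hlR hl using hover
  let St : Subgroup (Y →* ℂˣ) :=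
    { carrier := {a | ∀ g, (a g : ℂ) * (χ₀ : Y → ℂ) g = (χ₀ : Y → ℂ) g}
      one_mem' := fun g => by simp
      mul_mem' := fun {a b} ha hb g => by
        rw [MonoidHom.mul_apply, Units.val_mul, mul_assoc, hb g, ha g]
      inv_mem' := fun {a} ha g => by
        conv_lhs => rw [← ha g]
        rw [← mul_assoc, MonoidHom.inv_apply, Units.val_inv_eq_inv_val,
          inv_mul_cancel₀ (Units.ne_zero _), one_mul] }
  haveI : St.Normal := ⟨fun n hn g => by
    have e : g * n * g⁻¹ = n := by rw [mul_comm g n]; exact mul_inv_cancel_right n g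
    rwa [e]⟩
  have hmk : ∀ a c : Y →* ℂˣ, (a : (Y →* ℂˣ) ⧸ St) = c ↔
      ∀ g, (a g : ℂ) * (χ₀ : Y → ℂ) g = (c g : ℂ) * (χ₀ : Y → ℂ) g := by
    intro a c
    rw [QuotientGroup.eq]
    constructor
    · intro h g
      have := h g
      rw [MonoidHom.mul_apply, MonoidHom.inv_apply, Units.val_mul, Units.val_inv_eq_inv_val] at this
      conv_lhs => rw [← this]
      rw [← mul_assoc, ← mul_assoc, mul_inv_cancel₀ (Units.ne_zero _), one_mul]
    · intro h g
      rw [MonoidHom.mul_apply, MonoidHom.inv_apply, Units.val_mul, Units.val_inv_eq_inv_val,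
        mul_assoc, ← h g, ← mul_assoc, inv_mul_cancel₀ (Units.ne_zero _), one_mul]
  have hcoc : ∀ s t : S, ((σ s (l t) * l s : Y →* ℂˣ) : (Y →* ℂˣ) ⧸ St) = l (s * t) := by
    intro s t
    rw [hmk]
    intro g
    rw [MonoidHom.mul_apply, Units.val_mul, mul_assoc, hl s g, hσ, hl t, hl (s * t),
      mul_inv_rev, map_mul, MulAut.mul_apply]
  set m : Y →* ℂˣ := ∏ t : S, l t with hm
  have hprod : ∀ s : S, ((σ s m : Y →* ℂˣ) : (Y →* ℂˣ) ⧸ St) * ((l s : Y →* ℂˣ) : (Y →* ℂˣ) ⧸ St) ^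
      Nat.card S = (m : (Y →* ℂˣ) ⧸ St) := by
    intro s
    rw [hm, map_prod, QuotientGroup.mk_prod, QuotientGroup.mk_prod, Nat.card_eq_fintype_card,
      ← Finset.card_univ, ← Finset.prod_const, ← Finset.prod_mul_distrib]
    refine Fintype.prod_equiv (Equiv.mulLeft s) _ _ fun t => ?_
    rw [Equiv.coe_mulLeft, ← hcoc, QuotientGroup.mk_mul]
  set d := R.index
  set k := Nat.card S ^ (d.totient - 1)
  have hk : (Nat.card S * k) % d = 1 % d := by
    have ht : 0 < d.totient :=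
      Nat.totient_pos.mpr (Nat.pos_of_ne_zero Subgroup.index_ne_zero_of_finite)
    have := Nat.ModEq.pow_totient (x := Nat.card S) (n := d) hcop.symm
    rwa [Nat.ModEq, show d.totient = (d.totient - 1) + 1 by omega, pow_succ'] at this
  have hld : ∀ s, (l s) ^ d = 1 := fun s => MonoidHom.ext fun g => by
    rw [MonoidHom.pow_apply, ← map_pow, MonoidHom.one_apply]
    exact hlR s _ (Subgroup.pow_index_mem R g)
  refine ⟨⟨fun g => ((m ^ k : Y →* ℂˣ) g : ℂ) * (χ₀ : Y → ℂ) g,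
    Linear.isIrrCharacter_linear_mul (Induced.Character.isCharacter_hom (m ^ k)) (by simp) χ₀.2⟩,
    ?_, ?_⟩
  · have hmR : ∀ r ∈ R, (m ^ k : Y →* ℂˣ) r = 1 := by
      intro r hr
      rw [MonoidHom.pow_apply, hm, MonoidHom.finsetProd_apply,
        Finset.prod_eq_one fun t _ => hlR t r hr, one_pow]
    have e : ((fun g => ((m ^ k : Y →* ℂˣ) g : ℂ) * (χ₀ : Y → ℂ) g) ∘ j) = (χ₀ : Y → ℂ) ∘ j := by
      funext x
      simp only [Function.comp_apply, hmR (j x) ⟨x, rfl⟩, Units.val_one, one_mul]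
    show Cfsg.classInner ((fun g => ((m ^ k : Y →* ℂˣ) g : ℂ) * (χ₀ : Y → ℂ) g) ∘ j) (ψ : K → ℂ) ≠ 0
    rw [e]; exact hχ₀
  · intro s g
    have hq : ((σ s⁻¹ (m ^ k) * l s⁻¹ : Y →* ℂˣ) : (Y →* ℂˣ) ⧸ St) = (m ^ k : Y →* ℂˣ) := by
      have hls : ((l s⁻¹ : Y →* ℂˣ) : (Y →* ℂˣ) ⧸ St) ^ (Nat.card S * k) = (l s⁻¹ : Y →* ℂˣ) := by
        rw [← QuotientGroup.mk_pow, pow_eq_pow_mod _ (hld _), hk, ← pow_eq_pow_mod _ (hld _),
          pow_one]
      rw [QuotientGroup.mk_mul, show σ s⁻¹ (m ^ k) = (σ s⁻¹ m) ^ k from MonoidHom.map_pow (σ s⁻¹) m k,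
        QuotientGroup.mk_pow, QuotientGroup.mk_pow, ← hls,
        pow_mul, ← mul_pow, hprod]
    have := (hmk _ _).mp hq g
    rw [MonoidHom.mul_apply, Units.val_mul, mul_assoc, hl s⁻¹ g, hσ, inv_inv] at this
    exact this

end Step

/-- Invariant characters over invariant characters. -/
theorem exists_invariant_over {X : Type u} [Group X] [Fintype X] {S : Type w} [Group S] [Fintype S]
    (act : S →* MulAut X) (N : Subgroup X) [N.Normal] [Fintype N]
    (hN : ∀ s, ∀ x ∈ N, act s x ∈ N) (hcop : N.index.Coprime (Nat.card S))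
    (hsolv : Group.IsSolvable (X ⧸ N)) (θ : Cfsg.IrrCharacter N) (hθ : InvOn act N (θ : N → ℂ)) :
    ∃ χ : Cfsg.IrrCharacter X, Cfsg.classInner (fun n : N => (χ : X → ℂ) n) (θ : N → ℂ) ≠ 0 ∧
      Inv act (χ : X → ℂ) := by
  classical
  let D : ℕ → Subgroup X := fun i => (derivedSeries (X ⧸ N) i).comap (QuotientGroup.mk' N)
  have hND : ∀ i, N ≤ D i := fun i x hx => by
    show QuotientGroup.mk' N x ∈ derivedSeries (X ⧸ N) i
    rw [show QuotientGroup.mk' N x = 1 from (QuotientGroup.eq_one_iff x).mpr hx]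
    exact one_mem _
  have hD : ∀ i s, ∀ x ∈ D i, act s x ∈ D i := by
    intro i s x hx
    show QuotientGroup.mk' N (act s x) ∈ derivedSeries (X ⧸ N) i
    have e := map_derivedSeries_eq (f := (quotAct act N hN s).toMonoidHom)
      (quotAct act N hN s).surjective i
    rw [← e]
    exact ⟨QuotientGroup.mk' N x, hx, quotAct_mk hN s x⟩
  let P : ℕ → Prop := fun i => ∃ ψ : Cfsg.IrrCharacter (D i),
    Cfsg.classInner (fun n : N => (ψ : D i → ℂ) ⟨n, hND i n.2⟩) (θ : N → ℂ) ≠ 0 ∧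
      InvOn act (D i) (ψ : D i → ℂ)
  obtain ⟨n, hn⟩ := (Group.isSolvable_def _).mp hsolv
  have hbase : P n := by
    have hDn : D n = N := by
      show (derivedSeries (X ⧸ N) n).comap (QuotientGroup.mk' N) = N
      rw [hn, MonoidHom.comap_bot, QuotientGroup.ker_mk']
    refine ⟨⟨_, Basic.isIrrCharacter_comp (MulEquiv.subgroupCongr hDn).toMonoidHom
      (MulEquiv.subgroupCongr hDn).surjective θ.2⟩, ?_, ?_⟩
    · show Cfsg.classInner (fun m : N => (θ : N → ℂ) ⟨m, m.2⟩) (θ : N → ℂ) ≠ 0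
      rw [show (fun m : N => (θ : N → ℂ) ⟨m, m.2⟩) = (θ : N → ℂ) from rfl,
        Basic.classInner_self_irr]
      exact one_ne_zero
    · intro s x y hy
      exact hθ s _ _ hy
  have hstep : ∀ i, P (i + 1) → P i := by
    rintro i ⟨ψ, hψθ, hψ⟩
    have hle : D (i + 1) ≤ D i :=
      Subgroup.comap_mono (derivedSeries_antitone (X ⧸ N) (Nat.le_succ i))
    haveI := Fintype.ofFinite (D i)
    haveI := Fintype.ofFinite (D (i + 1))
    obtain ⟨χ, hχ, hχi⟩ := step (restrictAct act (D i) (hD i)) (restrictAct act (D (i + 1)) (hD _))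
      (Subgroup.inclusion hle) (Subgroup.inclusion_injective hle) (fun s k => Subtype.ext rfl)
      (fun x y => by
        have hc : ((x * y * x⁻¹ * y⁻¹ : D i) : X) ∈ D (i + 1) := by
          show QuotientGroup.mk' N _ ∈ derivedSeries (X ⧸ N) (i + 1)
          simp only [Subgroup.coe_mul, Subgroup.coe_inv, map_mul, map_inv]
          rw [derivedSeries_succ, ← commutatorElement_def]
          exact Subgroup.commutator_mem_commutator x.2 y.2
        exact ⟨⟨_, hc⟩, rfl⟩)
      (by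
        rw [show (Subgroup.inclusion hle).range = (D (i + 1)).subgroupOf (D i) from Subgroup.ext fun x => ⟨by rintro ⟨a, rfl⟩; exact a.2, fun hx => ⟨⟨x, hx⟩, rfl⟩⟩]
        refine hcop.coprime_dvd_left ?_
        exact ((Subgroup.relIndex_dvd_of_le_left (D i) (hND (i + 1)))).trans
          (Subgroup.relIndex_dvd_index_of_normal N (D i)))
      ψ ((RelGlauberman.invOn_iff (hD _) _).mp hψ)
    refine ⟨χ, ?_, (RelGlauberman.invOn_iff (hD i) _).mpr hχi⟩
    exact Clifford.Basic.classInner_comp_ne_zero (Subgroup.inclusion (hND (i + 1)))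
      (Basic.isCharacter_comp (Subgroup.inclusion hle) (Basic.isCharacter_irr χ)) hχ hψθ
  obtain ⟨ψ, hψθ, hψ⟩ : P 0 :=
    Nat.decreasingInduction (motive := fun k _ => P k) (fun k _ h => hstep k h) hbase (Nat.zero_le n)
  have hD0 : ∀ x : X, x ∈ D 0 := fun x => by
    show QuotientGroup.mk' N x ∈ derivedSeries (X ⧸ N) 0
    rw [derivedSeries_zero]
    exact Subgroup.mem_top _
  let f : X →* D 0 := (MonoidHom.id X).codRestrict (D 0) hD0
  refine ⟨⟨_, Basic.isIrrCharacter_comp f (fun y => ⟨y, rfl⟩) ψ.2⟩, hψθ, fun s x => ?_⟩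
  exact hψ s _ _ rfl

end Cfsg.Agent.Lib.BC77.InvOver
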