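import Cfsg.Agent.Lib.BC78.Clifford
import Cfsg.Agent.Lib.BC78.CoprimeFix
import Cfsg.Agent.Lib.BC78.PowChar
import Cfsg.Agent.Lib.Induced.Character
import Cfsg.Agent.Lib.Clifford.Extension

/-!
# The p-rational character extending a G-invariant character of a normal p'-subgroup of p-index

For `N ⊴ G` of order prime to `p` and index a power of `p`, every `G`-invariant irreducible
character of `N` has one extension whose determinant is trivial on `p`-elements; it is fixed by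
the power maps congruent to `1` modulo `|N|`.
-/

set_option autoImplicit false

namespace Cfsg.Agent.Lib.BC77.PRational

open scoped ComplexConjugate
open Cfsg.Agent.Lib.Induced.Basic Cfsg.Agent.Lib.Characters.Basic Cfsg.Agent.Lib.BC78.Clifford

universe u

variable {G : Type u} [Group G] [Finite G]

/-- Determinants commute with the coprime power maps. -/
theorem detChar_pow {χ χ' : G → ℂ} (hχ : Cfsg.IsIrrCharacter G χ)
    (hχ' : Cfsg.IsIrrCharacter G χ') {v : ℕ} (h : ∀ g, χ' g = χ (g ^ v)) (g : G) :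
    Cfsg.detChar χ' g = Cfsg.detChar χ (g ^ v) := by
  obtain ⟨n, ρ, hρ, rfl⟩ := hχ
  obtain ⟨m, σ, hσ, rfl⟩ := hχ'
  haveI := hρ
  haveI := hσ
  rw [Clifford.Rep.detChar_eq ρ, Clifford.Rep.detChar_eq σ]
  let H := Subgroup.zpowers g
  let σ1 : Representation ℂ H (Fin m → ℂ) := σ.comp H.subtype
  let σ2 : Representation ℂ H (Fin n → ℂ) := ρ.comp
    { toFun := fun x : H => (x : G) ^ v
      map_one' := one_pow v
      map_mul' := fun x y => Commute.mul_pow (setLike_mul_comm x.2 y.2) v }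
  have hc : σ2.character = σ1.character := funext fun x => (h x).symm
  obtain ⟨E⟩ := Characters.Complete.nonempty_equiv_of_char_eq σ2 σ1 hc
  let x : H := ⟨g, Subgroup.mem_zpowers g⟩
  have hint : ∀ w, E.toLinearEquiv (σ2 x w) = σ1 x (E.toLinearEquiv w) := fun w =>
    congrArg (fun f : (Fin n → ℂ) →ₗ[ℂ] (Fin m → ℂ) => f w)
      (E.toIntertwiningMap.isIntertwining' x)
  have he : σ g = E.toLinearEquiv.toLinearMap.comp
      ((ρ (g ^ v)).comp E.toLinearEquiv.symm.toLinearMap) :=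
    LinearMap.ext fun w => by
      have h1 := hint (E.toLinearEquiv.symm w)
      rw [LinearEquiv.apply_symm_apply] at h1
      exact h1.symm
  show LinearMap.det (σ g) = LinearMap.det (ρ (g ^ v))
  rw [he, LinearMap.det_conj]

variable (N : Subgroup G) [hNn : N.Normal] (p : ℕ) [Fact p.Prime]

theorem coprime_of_not_dvd {a m : ℕ} (h : ¬ p ∣ a) : Nat.Coprime (p ^ m) a :=
  Nat.Coprime.pow_left m ((Fact.out : p.Prime).coprime_iff_not_dvd.mpr h)

/-- `G` is generated by `N` and the p-elements. -/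
theorem hom_ext_of_index {m : ℕ} (hidx : N.index = p ^ m) (hcard : ¬ p ∣ Nat.card N)
    {μ μ' : G →* ℂˣ} (hN : ∀ n : N, μ n = μ' n)
    (hP : ∀ g : G, ∀ k : ℕ, g ^ p ^ k = 1 → μ g = μ' g) : μ = μ' := by
  refine MonoidHom.ext fun g => ?_
  set c := Nat.card N
  have hcop : Nat.Coprime (p ^ m) c := coprime_of_not_dvd p hcard
  have hgN : g ^ p ^ m ∈ N := hidx ▸ N.pow_index_mem g
  have hgc : (g ^ c) ^ p ^ m = 1 := by
    rw [← pow_mul, mul_comm, pow_mul, ← show ((⟨g ^ p ^ m, hgN⟩ : N) : G) = g ^ p ^ m from rfl,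
      ← SubgroupClass.coe_pow, pow_card_eq_one', OneMemClass.coe_one]
  have h1 : μ (g ^ p ^ m) = μ' (g ^ p ^ m) := hN ⟨_, hgN⟩
  have h2 : μ (g ^ c) = μ' (g ^ c) := hP _ m hgc
  rw [map_pow, map_pow] at h1 h2
  have key : ∀ a : ℂˣ, a = (a ^ p ^ m) ^ Nat.gcdA (p ^ m) c * (a ^ c) ^ Nat.gcdB (p ^ m) c := by
    intro a
    have h := Nat.gcd_eq_gcd_ab (p ^ m) c
    rw [hcop.gcd_eq_one, Nat.cast_one] at h
    rw [← zpow_natCast a (p ^ m), ← zpow_natCast a c, ← zpow_mul, ← zpow_mul, ← zpow_add, ← h,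
      zpow_one]
  rw [key (μ g), key (μ' g), h1, h2]

/-- An extension with determinant trivial on the p-elements. -/
theorem exists_canonical {m : ℕ} (hidx : N.index = p ^ m) (hcard : ¬ p ∣ Nat.card N)
    (θ : Cfsg.IrrCharacter N) (hinv : ∀ g : G, conjIrr N θ g = θ) :
    ∃ χ : G → ℂ, Cfsg.IsIrrCharacter G χ ∧ (∀ n : N, χ n = (θ : N → ℂ) n) ∧
      ∀ g : G, ∀ k : ℕ, g ^ p ^ k = 1 → Cfsg.detChar χ g = 1 := by
  obtain ⟨d, -, hdvd, hd⟩ := Characters.Degree.exists_degree_dvd θ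
  have hcop : ∀ {a : ℕ}, ¬ p ∣ a → Nat.Coprime N.index a := fun h => hidx ▸ coprime_of_not_dvd p h
  have hinv' : ∀ (g : G) (n : N),
      (θ : N → ℂ) ⟨g * n * g⁻¹, hNn.conj_mem n n.2 g⟩ = (θ : N → ℂ) n := fun g n =>
    congrFun (congrArg Subtype.val (hinv g)) n
  obtain ⟨lam, hlam⟩ := Clifford.Extension.exists_detHom θ.2
  have hlaminv : ∀ (g : G) (n : N), lam ⟨g * n * g⁻¹, hNn.conj_mem n n.2 g⟩ = lam n := by
    intro g n
    apply Units.ext
    obtain ⟨k, ρ, hρ, hρθ⟩ := exists_rep θ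
    haveI := hρ
    change Clifford.Linear.toFunHom lam _ = Clifford.Linear.toFunHom lam _
    rw [hlam, ← hρθ, Clifford.Rep.detChar_eq ρ]
    exact Clifford.Rep.det_eq_of_char ρ (Clifford.Extension.conjRep N ρ g)
      (funext fun x => by
        change ρ.character _ = ρ.character x
        rw [hρθ]
        exact hinv' g x) n
  have hord : orderOf lam ∣ Nat.card N := by
    apply orderOf_dvd_of_pow_eq_one
    ext x
    rw [MonoidHom.pow_apply, ← map_pow, pow_card_eq_one', map_one, MonoidHom.one_apply]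
  obtain ⟨μ, hμ, hμo⟩ := Clifford.Linear.exists_coprime_extension N lam hlaminv
    (hcop fun h => hcard (h.trans hord))
  obtain ⟨χ, hχ, hres, hdet⟩ := Clifford.Extension.exists_extension_char N θ.2 hinv' hd
    (hcop fun h => hcard (h.trans hdvd)) μ (fun n => by rw [hμ]; exact congrFun hlam n)
  refine ⟨χ, hχ, hres, fun g k hgk => ?_⟩
  rw [hdet]
  show (μ g : ℂ) = 1
  have h1 : μ g ^ orderOf lam = 1 := by
    rw [← MonoidHom.pow_apply, ← hμo, pow_orderOf_eq_one, MonoidHom.one_apply]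
  have h2 : μ g ^ p ^ k = 1 := by rw [← map_pow, hgk, map_one]
  have h3 : orderOf (μ g) = 1 := Nat.eq_one_of_dvd_coprimes
    (coprime_of_not_dvd p (m := k) fun h => hcard (h.trans hord))
    (orderOf_dvd_of_pow_eq_one h2) (orderOf_dvd_of_pow_eq_one h1)
  rw [orderOf_eq_one_iff.mp h3, Units.val_one]

/-- It is fixed by the power maps congruent to one modulo `|N|`. -/
theorem canonical_pow [Fintype G] {m : ℕ} (hidx : N.index = p ^ m) (hcard : ¬ p ∣ Nat.card N)
    (θ : Cfsg.IrrCharacter N) {χ : G → ℂ} (hχ : Cfsg.IsIrrCharacter G χ)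
    (hres : ∀ n : N, χ n = (θ : N → ℂ) n)
    (hdet : ∀ g : G, ∀ k : ℕ, g ^ p ^ k = 1 → Cfsg.detChar χ g = 1)
    {v : ℕ} (hv : v.Coprime (Nat.card G)) (hv1 : v ≡ 1 [MOD Nat.card N]) (g : G) :
    χ (g ^ v) = χ g := by
  have hχ' := BC78.PowChar.isIrrCharacter_pow hχ hv
  have hres' : ∀ n : N, χ ((n : G) ^ v) = (θ : N → ℂ) n := by
    intro n
    rw [← hres n, ← SubgroupClass.coe_pow]
    refine congrArg (fun x : N => χ x) ?_
    conv_rhs => rw [← pow_one n]
    exact pow_eq_pow_iff_modEq.mpr (hv1.of_dvd (orderOf_dvd_natCard n))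
  obtain ⟨d, -, hdvd, hd⟩ := Characters.Degree.exists_degree_dvd θ
  have hcop : Nat.Coprime N.index d :=
    hidx ▸ coprime_of_not_dvd p fun h => hcard (h.trans hdvd)
  obtain ⟨μ, hμ⟩ := Clifford.Extension.exists_detHom hχ
  obtain ⟨μ', hμ'⟩ := Clifford.Extension.exists_detHom hχ'
  have hde : Cfsg.detChar (fun g => χ (g ^ v)) = Cfsg.detChar χ := by
    rw [← hμ, ← hμ']
    congr 1
    refine hom_ext_of_index N p hidx hcard (fun n => Units.ext ?_) fun x k hx => Units.ext ?_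
    · show Clifford.Linear.toFunHom μ' (n : G) = Clifford.Linear.toFunHom μ (n : G)
      rw [hμ, hμ', ← Clifford.Extension.detChar_restrict N hχ' θ.2 hres' n,
        Clifford.Extension.detChar_restrict N hχ θ.2 hres n]
    · show Clifford.Linear.toFunHom μ' x = Clifford.Linear.toFunHom μ x
      rw [hμ, hμ', detChar_pow hχ hχ' (fun _ => rfl), hdet x k hx,
        hdet (x ^ v) k (by rw [← pow_mul, mul_comm, pow_mul, hx, one_pow])]
  exact congrFun (Clifford.Extension.extension_unique_char N θ.2 hd hcop hχ' hχ hres' hres hde) g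

omit [Fact p.Prime] in
/-- An orbit sum of irreducible characters of `N` extends to a power-invariant character. -/
theorem exists_orbit_ext [Fintype G] [Fact p.Prime] {m : ℕ} (hidx : N.index = p ^ m)
    (hcard : ¬ p ∣ Nat.card N) (θ : Cfsg.IrrCharacter N) (O : Finset (Cfsg.IrrCharacter N))
    (hO : ∀ η, η ∈ O ↔ ∃ g : G, conjIrr N θ g = η) :
    ∃ Ψ : G → ℂ, Cfsg.IsCharacter G Ψ ∧ (∀ n : N, Ψ n = ∑ η ∈ O, (η : N → ℂ) n) ∧
      ∀ v : ℕ, v.Coprime (Nat.card G) → v ≡ 1 [MOD Nat.card N] → ∀ g, Ψ (g ^ v) = Ψ g := by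
  classical
  let T : Subgroup G :=
    { carrier := {g | conjIrr N θ g = θ}
      one_mem' := conjIrr_one N θ
      mul_mem' := fun {a b} (ha : conjIrr N θ a = θ) (hb : conjIrr N θ b = θ) => by
        show conjIrr N θ (a * b) = θ
        rw [← conjIrr_conjIrr, ha, hb]
      inv_mem' := fun {a} (ha : conjIrr N θ a = θ) => by
        show conjIrr N θ a⁻¹ = θ
        conv_lhs => rw [← ha]
        rw [conjIrr_conjIrr, mul_inv_cancel, conjIrr_one] }
  have hNT : N ≤ T := fun g hg => conjIrr_mem N θ hg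
  let N' := N.subgroupOf T
  let e : N' ≃* N := Subgroup.subgroupOfEquivOfLe hNT
  let θ' : Cfsg.IrrCharacter N' :=
    ⟨fun x => (θ : N → ℂ) (e x), isIrrCharacter_comp e.toMonoidHom e.surjective θ.2⟩
  have hidx' : ∃ m', N'.index = p ^ m' := by
    obtain ⟨k, -, hk⟩ := (Nat.dvd_prime_pow (Fact.out : p.Prime)).mp
      (hidx ▸ (Subgroup.relIndex_dvd_index_of_normal (H := N) (K := T)))
    exact ⟨k, hk⟩
  obtain ⟨m', hm'⟩ := hidx'
  have hcard' : ¬ p ∣ Nat.card N' := by rwa [Nat.card_congr e.toEquiv]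
  obtain ⟨χ, hχ, hres, hdet⟩ := exists_canonical N' p hm' hcard' θ' fun t =>
    Subtype.ext (funext fun x => by
      have h := congrFun (congrArg Subtype.val (show conjIrr N θ (t : G) = θ from t.2)) (e x)
      exact h)
  have := Fintype.ofFinite T
  refine ⟨Cfsg.indFun T χ, Induced.Character.isCharacter_indFun T (IsCharacter_of_isIrrCharacter hχ),
    fun n => ?_, fun v hv hv1 g => ?_⟩
  · rw [indFun_apply]
    have hterm : ∀ x : G, (if hx : x⁻¹ * (n : G) * x ∈ T then χ ⟨_, hx⟩ else 0) =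
        (conjIrr N θ x⁻¹ : N → ℂ) n := by
      intro x
      have hxN : x⁻¹ * (n : G) * x ∈ N := by simpa using hNn.conj_mem _ n.2 x⁻¹
      rw [dif_pos (hNT hxN)]
      refine (hres (⟨⟨_, hNT hxN⟩, hxN⟩ : N')).trans ?_
      refine congrArg (θ : N → ℂ) (Subtype.ext ?_)
      show x⁻¹ * (n : G) * x = x⁻¹ * (n : G) * x⁻¹⁻¹
      rw [inv_inv]
    simp only [hterm]
    rw [← Finset.sum_fiberwise_of_maps_to (t := O) (g := fun x : G => conjIrr N θ x⁻¹)
      (fun x _ => (hO _).mpr ⟨x⁻¹, rfl⟩), Finset.mul_sum]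
    refine Finset.sum_congr rfl fun η hη => ?_
    obtain ⟨g0, hg0⟩ := (hO η).mp hη
    rw [Finset.sum_congr rfl fun x hx => by rw [(Finset.mem_filter.mp hx).2],
      Finset.sum_const, nsmul_eq_mul]
    have hfib : (Finset.univ.filter fun x : G => conjIrr N θ x⁻¹ = η).card = Nat.card T := by
      rw [← Fintype.card_subtype, ← Nat.card_eq_fintype_card]
      refine Nat.card_congr
        { toFun := fun x => ⟨x.1⁻¹ * g0⁻¹, ?_⟩
          invFun := fun t => ⟨(t.1 * g0)⁻¹, ?_⟩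
          left_inv := fun x => Subtype.ext (by simp)
          right_inv := fun t => Subtype.ext (by simp) }
      · show conjIrr N θ (x.1⁻¹ * g0⁻¹) = θ
        rw [← conjIrr_conjIrr, x.2, ← hg0, conjIrr_conjIrr, mul_inv_cancel, conjIrr_one]
      · show conjIrr N θ ((t.1 * g0)⁻¹)⁻¹ = η
        rw [inv_inv, ← conjIrr_conjIrr, show conjIrr N θ t.1 = θ from t.2, hg0]
    rw [hfib, inv_mul_cancel_left₀ (Nat.cast_ne_zero.mpr Nat.card_pos.ne')]
  · have h := congrFun (BC78.PowChar.indFun_pow T χ hv) g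
    rw [h]
    refine indFun_congr T g fun x hx => ?_
    exact canonical_pow N' p hm' hcard' θ' hχ hres hdet
      (hv.of_dvd_right (Subgroup.card_subgroup_dvd_card T))
      (by rwa [Nat.card_congr e.toEquiv]) _

/-- An invariant set of irreducible characters of `N` extends to a power-invariant character. -/
theorem exists_set_ext [Fintype G] {m : ℕ} (hidx : N.index = p ^ m)
    (hcard : ¬ p ∣ Nat.card N) (F : Finset (Cfsg.IrrCharacter N))
    (hF : ∀ η ∈ F, ∀ g : G, conjIrr N η g ∈ F) :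
    ∃ Ψ : G → ℂ, Cfsg.IsCharacter G Ψ ∧ (∀ n : N, Ψ n = ∑ η ∈ F, (η : N → ℂ) n) ∧
      ∀ v : ℕ, v.Coprime (Nat.card G) → v ≡ 1 [MOD Nat.card N] → ∀ g, Ψ (g ^ v) = Ψ g := by
  classical
  induction hc : F.card using Nat.strong_induction_on generalizing F with
  | _ c ih =>
  rcases F.eq_empty_or_nonempty with rfl | ⟨θ, hθ⟩
  · exact ⟨0, isCharacter_zero, fun n => by simp, fun v _ _ g => rfl⟩
  set O := F.filter fun η => ∃ g : G, conjIrr N θ g = η with hO
  have hsub : O ⊆ F := Finset.filter_subset _ _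
  have hθO : θ ∈ O := Finset.mem_filter.mpr ⟨hθ, 1, conjIrr_one N θ⟩
  obtain ⟨Ψ1, h11, h12, h13⟩ := exists_orbit_ext N p hidx hcard θ O fun η => by
    rw [hO, Finset.mem_filter]
    exact ⟨fun h => h.2, fun ⟨g, hg⟩ => ⟨hg ▸ hF θ hθ g, g, hg⟩⟩
  obtain ⟨Ψ2, h21, h22, h23⟩ := ih _ (hc ▸ Finset.card_lt_card
      (Finset.sdiff_ssubset hsub ⟨θ, hθO⟩)) (F \ O) (by
    intro η hη g
    rw [Finset.mem_sdiff] at hη ⊢
    refine ⟨hF η hη.1 g, fun h => hη.2 ?_⟩
    obtain ⟨g', hg'⟩ := (Finset.mem_filter.mp h).2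
    refine Finset.mem_filter.mpr ⟨hη.1, g' * g⁻¹, ?_⟩
    rw [← conjIrr_conjIrr, hg', conjIrr_conjIrr, mul_inv_cancel, conjIrr_one]) rfl
  refine ⟨Ψ2 + Ψ1, isCharacter_add h21 h11, fun n => ?_, fun v hv hv1 g => ?_⟩
  · rw [Pi.add_apply, h22, h12, Finset.sum_sdiff hsub]
  · rw [Pi.add_apply, Pi.add_apply, h23 v hv hv1, h13 v hv hv1]

end Cfsg.Agent.Lib.BC77.PRational
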