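import Cfsg.Agent.Lib.BC77.FieldBound
import Cfsg.Agent.Lib.BC77.AlgAut
import Cfsg.Agent.Lib.Characters.Kernel

/-!
# Schur's bound for p-groups with a rational-valued faithful character

A character fixed by all power maps prime to `p` splits in orbits of irreducible characters; each
orbit is bounded by `FieldBound.main`.
-/

set_option autoImplicit false

namespace Cfsg.Agent.Lib.BC77.SchurBound

open scoped ComplexConjugate
open Cfsg.Agent.Lib.Characters.Basic Cfsg.Agent.Lib.Induced.Basic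
open Cfsg.Agent.Lib.BC77.FieldBound

universe u

/-- Schur's sum. -/
def schurSum (p N m : ℕ) : ℕ := ∑ i ∈ Finset.range N, m / ((p - 1) * p ^ i)

theorem schurSum_add (p N m m' : ℕ) :
    schurSum p N m + schurSum p N m' ≤ schurSum p N (m + m') := by
  rw [schurSum, schurSum, schurSum, ← Finset.sum_add_distrib]
  exact Finset.sum_le_sum fun i _ => Nat.div_add_div_le_add_div

theorem schurSum_mono (p N : ℕ) {m m' : ℕ} (h : m ≤ m') : schurSum p N m ≤ schurSum p N m' :=
  Finset.sum_le_sum fun _ _ => Nat.div_le_div_right h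

theorem geom_pow {p : ℕ} (hp : 1 ≤ p) (L : ℕ) :
    (p - 1) * ∑ i ∈ Finset.range (L + 1), p ^ i + 1 = p ^ (L + 1) := by
  obtain ⟨q, rfl⟩ : ∃ q, p = q + 1 := ⟨p - 1, by omega⟩
  induction L with
  | zero => simp
  | succ L ih =>
    rw [Finset.sum_range_succ, mul_add, add_right_comm, ih, pow_succ _ (L + 1),
      Nat.add_sub_cancel]
    ring

theorem schurSum_pow {p N L : ℕ} (hp : 2 ≤ p) (hL : L < N) :
    p ^ (L + 1) ≤ (p - 1) * schurSum p N ((p - 1) * p ^ L) + 1 := by
  rw [← geom_pow (by omega : 1 ≤ p) L]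
  refine Nat.add_le_add_right (Nat.mul_le_mul_left _ ?_) 1
  rw [← Finset.sum_range_reflect, schurSum]
  refine le_trans (le_of_eq ?_)
    (Finset.sum_le_sum_of_subset (Finset.range_mono (show L + 1 ≤ N by omega)))
  refine Finset.sum_congr rfl fun i hi => ?_
  rw [Finset.mem_range] at hi
  rw [Nat.add_sub_cancel, Nat.mul_div_mul_left _ _ (by omega : 0 < p - 1),
    Nat.pow_div (by omega) (by omega)]

theorem pow_ge {q : ℕ} : ∀ t : ℕ, 1 + q * t ≤ (q + 1) ^ t
  | 0 => by simp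
  | t + 1 => by
    have h := Nat.mul_le_mul_left (q + 1) (pow_ge (q := q) t)
    rw [pow_succ]
    nlinarith [Nat.zero_le (q * q * t)]

variable {G : Type u} [Group G] (p : ℕ) [Fact p.Prime]

theorem coprime_card [Finite G] (hG : IsPGroup p G) {u : ℕ} (hu : u.Coprime p) :
    u.Coprime (Nat.card G) := by
  obtain ⟨n, hn⟩ := IsPGroup.iff_card.mp hG
  rw [hn]
  exact hu.pow_right n

/-- The orbit of a faithful irreducible character of a nontrivial p-group has `(p-1)p^t` elements. -/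
theorem orbCard_eq [Finite G] [Nontrivial G] (hG : IsPGroup p G) (θ : Cfsg.IrrCharacter G)
    (hf : ∀ g : G, (θ : G → ℂ) g = (θ : G → ℂ) 1 → g = 1) :
    ∃ t, orbCard p (θ : G → ℂ) = (p - 1) * p ^ t := by
  classical
  have hp : p.Prime := Fact.out
  obtain ⟨a, ha, hcard⟩ := hG.nontrivial_iff_card.mp inferInstance
  have hpN : p ∣ Nat.card G := hcard ▸ dvd_pow_self p ha.ne'
  -- the set is the orbit under the units
  have horb : orbCard p (θ : G → ℂ) =
      Nat.card (MulAction.orbit (ZMod (Nat.card G))ˣ θ) := by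
    have h : powSet p (θ : G → ℂ) =
        (fun ψ : Cfsg.IrrCharacter G => (ψ : G → ℂ)) '' MulAction.orbit (ZMod (Nat.card G))ˣ θ := by
      ext f
      constructor
      · rintro ⟨⟨u, hu⟩, rfl⟩
        refine ⟨ZMod.unitOfCoprime u (coprime_card p hG hu) • θ, ⟨_, rfl⟩, funext fun g => ?_⟩
        show (ZMod.unitOfCoprime u (coprime_card p hG hu) • θ : Cfsg.IrrCharacter G).1 g =
          (θ : G → ℂ) (g ^ u)
        rw [PConj.smul_apply]
        refine congrArg (θ : G → ℂ) (PConj.pow_congr ((ZMod.natCast_eq_natCast_iff _ _ _).1 ?_))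
        rw [PConj.expo_cast, ZMod.coe_unitOfCoprime]
      · rintro ⟨_, ⟨u, rfl⟩, rfl⟩
        exact ⟨⟨PConj.expo (G := G) u, (PConj.expo_coprime u).of_dvd_right hpN⟩, rfl⟩
    rw [orbCard, h, Set.ncard_image_of_injective _ Subtype.val_injective, Nat.card_coe_set_eq]
  set Γ := MulAction.stabilizer (ZMod (Nat.card G))ˣ θ with hΓ
  have hidx : Γ.index = orbCard p (θ : G → ℂ) := by
    rw [horb, MulAction.index_stabilizer, Nat.card_coe_set_eq]
  -- an element of order p in the centre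
  have : Nontrivial (Subgroup.center G) := hG.center_nontrivial
  obtain ⟨b, hb, hbc⟩ := (hG.to_subgroup (Subgroup.center G)).nontrivial_iff_card.mp inferInstance
  obtain ⟨⟨z, hz⟩, hzo⟩ := exists_prime_orderOf_dvd_card' p
    (hbc ▸ dvd_pow_self p hb.ne' : p ∣ Nat.card (Subgroup.center G))
  rw [Subgroup.orderOf_mk] at hzo
  obtain ⟨n, ρ, hρ, hθ⟩ := exists_rep θ
  obtain ⟨c, hc⟩ := Clifford.Rep.schur ρ (ρ z) fun g => by
    rw [← map_mul, ← map_mul, (Subgroup.mem_center_iff.mp hz g)]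
  have hcn : ∀ k : ℕ, (θ : G → ℂ) (z ^ k) = c ^ k * (θ : G → ℂ) 1 := fun k => by
    rw [← hθ, Representation.char_one]
    show LinearMap.trace ℂ _ (ρ (z ^ k)) = _
    rw [map_pow, hc, smul_pow, one_pow, map_smul, LinearMap.trace_one, smul_eq_mul]
  have hprim : IsPrimitiveRoot c p := by
    have h1 : c ^ p = 1 := by
      have h := hcn p
      rw [← hzo, pow_orderOf_eq_one, hzo] at h
      exact (mul_right_cancel₀ (apply_one_ne_zero θ) (by rw [← h, one_mul])).symm
    have h2 : c ≠ 1 := fun h => by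
      have hz1 : z = 1 := hf z (by rw [← pow_one z, hcn 1, h, one_pow, one_mul])
      rw [hz1, orderOf_one] at hzo
      exact hp.one_lt.ne hzo
    rw [IsPrimitiveRoot.iff_orderOf]
    exact orderOf_eq_prime h1 h2
  have hle : Γ ≤ (ZMod.unitsMap hpN).ker := by
    intro u hu
    have h := congrArg (fun ψ : Cfsg.IrrCharacter G => (ψ : G → ℂ) z)
      (MulAction.mem_stabilizer_iff.mp hu)
    have hz1 : (θ : G → ℂ) z = c * (θ : G → ℂ) 1 := by simpa using hcn 1
    simp only [PConj.smul_apply, hcn] at h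
    rw [hz1] at h
    have h' : c ^ PConj.expo (G := G) u = c ^ 1 := by
      rw [pow_one]
      exact mul_right_cancel₀ (apply_one_ne_zero θ) h
    have h'' : PConj.expo (G := G) u ≡ 1 [MOD p] := by
      rw [hprim.eq_orderOf]
      exact (IsOfFinOrder.pow_eq_pow_iff_modEq
        (isOfFinOrder_iff_pow_eq_one.mpr ⟨p, hp.pos, hprim.pow_eq_one⟩)).mp h'
    rw [MonoidHom.mem_ker, Units.ext_iff, ZMod.unitsMap_val, Units.val_one]
    rw [← ZMod.natCast_eq_natCast_iff, Nat.cast_one, PConj.expo, ZMod.natCast_val] at h''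
    exact h''
  have hd1 : (p - 1) ∣ Γ.index := by
    refine dvd_trans (dvd_of_eq ?_) (Subgroup.index_dvd_of_le hle)
    rw [Subgroup.index_ker, MonoidHom.range_eq_top.mpr (ZMod.unitsMap_surjective hpN),
      Subgroup.card_top, Nat.card_eq_fintype_card, ZMod.card_units]
  have hd2 : Γ.index ∣ (p - 1) * p ^ (a - 1) := by
    refine (Γ.index_dvd_card).trans (dvd_of_eq ?_)
    rw [Nat.card_eq_fintype_card, ZMod.card_units_eq_totient, hcard, Nat.totient_prime_pow hp ha,
      mul_comm]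
  obtain ⟨j, hj⟩ := hd1
  rw [hj, Nat.mul_dvd_mul_iff_left (Nat.sub_pos_of_lt hp.one_lt)] at hd2
  obtain ⟨t, -, rfl⟩ := (Nat.dvd_prime_pow hp).mp hd2
  exact ⟨t, hidx.symm.trans hj⟩

/-- The bound for one orbit. -/
theorem orbit_bound [Finite G] (hG : IsPGroup p G) (θ : Cfsg.IrrCharacter G)
    (hf : ∀ g : G, (θ : G → ℂ) g = (θ : G → ℂ) 1 → g = 1) {f a N : ℕ}
    (hdeg : (θ : G → ℂ) 1 = f) (hcard : Nat.card G = p ^ a)
    (hN : orbCard p (θ : G → ℂ) * f < N) :
    a ≤ schurSum p N (orbCard p (θ : G → ℂ) * f) := by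
  have hp : p.Prime := Fact.out
  rcases Nat.eq_zero_or_pos a with rfl | ha
  · exact Nat.zero_le _
  have : Nontrivial G := hG.nontrivial_iff_card.mpr ⟨a, ha, hcard⟩
  obtain ⟨t, ht⟩ := orbCard_eq p hG θ hf
  have hmain := FieldBound.main p hcard θ hf hdeg ht.le
  obtain ⟨f', hf'0, hf'd, hf'e⟩ := Characters.Degree.exists_degree_dvd θ
  obtain rfl : f' = f := by rw [hdeg] at hf'e; exact_mod_cast hf'e.symm
  obtain ⟨s, -, rfl⟩ := (Nat.dvd_prime_pow hp).mp (hcard ▸ hf'd)
  rw [ht, mul_assoc, ← pow_add] at hN ⊢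
  have hL : t + s < N := by
    refine lt_of_lt_of_le (Nat.lt_pow_self hp.one_lt) (le_trans ?_ hN.le)
    exact Nat.le_mul_of_pos_left _ (Nat.sub_pos_of_lt hp.one_lt)
  have hS := schurSum_pow hp.two_le hL
  obtain ⟨q, rfl⟩ : ∃ q, p = q + 1 := ⟨p - 1, by have := hp.one_lt; omega⟩
  simp only [Nat.add_sub_cancel] at hmain hS ⊢
  have hb := Nat.mul_le_mul_left ((q + 1) ^ s) (pow_ge (q := q) (t + 1))
  have e : (q + 1) ^ s * (q + 1) ^ (t + 1) = (q + 1) ^ (t + s + 1) := by rw [← pow_add]; ring_nf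
  rw [e] at hb
  refine Nat.le_of_mul_le_mul_left ?_ (by have := hp.one_lt; omega : 0 < q)
  have h1 : 1 ≤ (q + 1) ^ s := Nat.one_le_pow _ _ (Nat.succ_pos q)
  have e2 : (q + 1) ^ s * (1 + q * (t + 1)) = (q + 1) ^ s + q * (t + 1) * (q + 1) ^ s := by ring
  rw [e2] at hb
  omega

/-- The bound for a set of irreducible characters closed under the power maps. -/
theorem set_bound [Finite G] (hG : IsPGroup p G) (T : Finset (Cfsg.IrrCharacter G))
    (d : Cfsg.IrrCharacter G → ℕ) (hd : ∀ θ : Cfsg.IrrCharacter G, (θ : G → ℂ) 1 = d θ) (N : ℕ)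
    (hN : ∑ θ ∈ T, d θ < N)
    (hT : ∀ θ ∈ T, ∀ ψ : Cfsg.IrrCharacter G, (ψ : G → ℂ) ∈ powSet p (θ : G → ℂ) → ψ ∈ T)
    {a : ℕ} (ha : (T.inf fun θ => Characters.Kernel.charKer (isCharacter_irr θ)).index = p ^ a) :
    a ≤ schurSum p N (∑ θ ∈ T, d θ) := by
  classical
  have := Fintype.ofFinite G
  have hp : p.Prime := Fact.out
  induction hc : T.card using Nat.strong_induction_on generalizing T a with
  | _ m ih =>
  rcases T.eq_empty_or_nonempty with rfl | ⟨θ, hθ⟩
  · rw [Finset.inf_empty, Subgroup.index_top] at ha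
    rcases Nat.eq_zero_or_pos a with rfl | h
    · exact Nat.zero_le _
    · exact absurd ha (Nat.one_lt_pow h.ne' hp.one_lt).ne
  set O := T.filter fun ψ : Cfsg.IrrCharacter G => (ψ : G → ℂ) ∈ powSet p (θ : G → ℂ) with hO
  set T' := T \ O with hT'
  have hθO : θ ∈ O :=
    Finset.mem_filter.mpr ⟨hθ, ⟨⟨1, Nat.coprime_one_left p⟩, funext fun g => by simp⟩⟩
  -- the orbit
  have hinv : ∀ u : ℕ, u.Coprime p → ∃ v : ℕ, v.Coprime p ∧ ∀ g : G, (g ^ u) ^ v = g := by
    intro u hu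
    obtain ⟨a', ha'⟩ := IsPGroup.iff_card.mp hG
    obtain ⟨n, hn⟩ : ∃ n, 1 ≤ n ∧ Nat.card G ∣ p ^ n :=
      ⟨a' + 1, le_add_self, ha' ▸ pow_dvd_pow p (Nat.le_succ a')⟩
    obtain ⟨v, -, hv⟩ := Nat.exists_mul_mod_eq_one_of_coprime (n := u) (k := p ^ n)
      (hu.pow_right n) (Nat.one_lt_pow (by omega) hp.one_lt)
    have hmod : u * v ≡ 1 [MOD p ^ n] := by
      rw [Nat.ModEq, hv, Nat.mod_eq_of_lt (Nat.one_lt_pow (by omega) hp.one_lt)]
    refine ⟨v, ?_, fun g => ?_⟩
    · rw [Nat.coprime_comm, hp.coprime_iff_not_dvd]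
      intro h
      have h1 : u * v ≡ 1 [MOD p] := hmod.of_dvd (dvd_pow_self p (by omega))
      rw [Nat.ModEq, Nat.mod_eq_zero_of_dvd (dvd_mul_of_dvd_right h u),
        Nat.mod_eq_of_lt hp.one_lt] at h1
      exact zero_ne_one h1
    · rw [← pow_mul]
      conv_rhs => rw [← pow_one g]
      exact pow_eq_pow_iff_modEq.mpr (hmod.of_dvd ((orderOf_dvd_natCard g).trans hn.2))
  have hOcard : O.card = orbCard p (θ : G → ℂ) := by
    rw [orbCard, Set.ncard_eq_toFinset_card _ (powSet_finite p _),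
      ← Finset.card_image_of_injective O Subtype.val_injective]
    congr 1
    ext f
    simp only [Finset.mem_image, Set.Finite.mem_toFinset, hO, Finset.mem_filter]
    constructor
    · rintro ⟨ψ, ⟨-, hψ⟩, rfl⟩; exact hψ
    · rintro ⟨⟨u, hu⟩, rfl⟩
      have hm : (⟨fun g => (θ : G → ℂ) (g ^ u), BC78.PowChar.isIrrCharacter_pow θ.2
          (coprime_card p hG hu)⟩ : Cfsg.IrrCharacter G).1 ∈ powSet p (θ : G → ℂ) :=
        ⟨⟨u, hu⟩, rfl⟩
      exact ⟨_, ⟨hT θ hθ _ hm, hm⟩, rfl⟩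
  have hOdeg : ∀ ψ ∈ O, d ψ = d θ := by
    intro ψ hψ
    obtain ⟨u, hu⟩ := (Finset.mem_filter.mp hψ).2
    have h := (hd ψ).symm
    rw [← congrFun hu 1] at h
    simp only [one_pow, hd θ] at h
    exact_mod_cast h
  have hOker : ∀ ψ ∈ O, Characters.Kernel.charKer (isCharacter_irr θ) ≤
      Characters.Kernel.charKer (isCharacter_irr ψ) := by
    intro ψ hψ g hg
    obtain ⟨⟨u, hu⟩, he⟩ := (Finset.mem_filter.mp hψ).2
    rw [Characters.Kernel.mem_charKer, ← he]
    show (θ : G → ℂ) (g ^ u) = (θ : G → ℂ) (1 ^ u)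
    rw [one_pow]
    exact (Characters.Kernel.charKer (isCharacter_irr θ)).pow_mem hg u
  have hT'inv : ∀ θ' ∈ T', ∀ ψ : Cfsg.IrrCharacter G, (ψ : G → ℂ) ∈ powSet p (θ' : G → ℂ) →
      ψ ∈ T' := by
    intro θ' hθ' ψ hψ
    rw [hT', Finset.mem_sdiff] at hθ' ⊢
    refine ⟨hT θ' hθ'.1 ψ hψ, fun hψO => hθ'.2 (Finset.mem_filter.mpr ⟨hθ'.1, ?_⟩)⟩
    obtain ⟨⟨u, hu⟩, hue⟩ := hψ
    obtain ⟨⟨w, hw⟩, hwe⟩ := (Finset.mem_filter.mp hψO).2
    obtain ⟨v, hv, hvg⟩ := hinv u hu
    refine ⟨⟨v * w, hv.mul_left hw⟩, funext fun g => ?_⟩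
    show (θ : G → ℂ) (g ^ (v * w)) = _
    rw [pow_mul, show (θ : G → ℂ) ((g ^ v) ^ w) = (ψ : G → ℂ) (g ^ v) from congrFun hwe (g ^ v),
      ← hue]
    show (θ' : G → ℂ) ((g ^ v) ^ u) = _
    rw [← pow_mul, mul_comm, pow_mul, hvg]
  have hlt : T'.card < m := by
    rw [← hc]
    exact Finset.card_lt_card (Finset.sdiff_ssubset (t := O) (s := T) (hO ▸ Finset.filter_subset _ _) ⟨θ, hθO⟩)
  have hsum : ∑ ψ ∈ T, d ψ = ∑ ψ ∈ T', d ψ + orbCard p (θ : G → ℂ) * d θ := by
    have hsub : O ⊆ T := hO ▸ Finset.filter_subset _ _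
    rw [hT', ← Finset.sum_sdiff hsub, Finset.sum_congr rfl hOdeg,
      Finset.sum_const, smul_eq_mul, hOcard]
  obtain ⟨b, hb⟩ : ∃ b, (T'.inf fun θ => Characters.Kernel.charKer (isCharacter_irr θ)).index =
      p ^ b := hG.index _
  set K := Characters.Kernel.charKer (isCharacter_irr θ) with hK
  have hKn : K.Normal := Characters.Kernel.charKer_normal _
  obtain ⟨φ, -, hφ, hφirr⟩ := Characters.Kernel.exists_descend K (isCharacter_irr θ)
    (fun g hg => (Characters.Kernel.mem_charKer _ g).mp hg)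
  let Φ : Cfsg.IrrCharacter (G ⧸ K) := ⟨φ, hφirr θ.2⟩
  have hφv : ∀ g : G, φ (g : G ⧸ K) = (θ : G → ℂ) g := fun g => congrFun hφ g
  obtain ⟨c, hc'⟩ := IsPGroup.iff_card.mp (hG.to_quotient K)
  have hΦ : orbCard p φ = orbCard p (θ : G → ℂ) := by
    refine Set.ncard_congr (fun f _ => fun g : G => f (g : G ⧸ K)) ?_ ?_ ?_
    · rintro f ⟨u, rfl⟩
      exact ⟨u, funext fun g => (hφv (g ^ u.1)).symm⟩
    · intro f1 f2 _ _ he
      funext x
      obtain ⟨g, rfl⟩ := QuotientGroup.mk_surjective x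
      exact congrFun he g
    · rintro f ⟨u, rfl⟩
      exact ⟨_, ⟨u, rfl⟩, funext fun g => hφv (g ^ u.1)⟩
  have hφf : ∀ x : G ⧸ K, φ x = φ 1 → x = 1 := by
    intro x hx
    obtain ⟨g, rfl⟩ := QuotientGroup.mk_surjective x
    rw [← QuotientGroup.mk_one, hφv, hφv] at hx
    exact (QuotientGroup.eq_one_iff g).mpr hx
  have hcb : c ≤ schurSum p N (orbCard p (θ : G → ℂ) * d θ) := by
    have h := orbit_bound p (hG.to_quotient K) Φ hφf (f := d θ) (N := N)
      (by show φ 1 = _; rw [← QuotientGroup.mk_one, hφv, hd]) hc'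
      (by show orbCard p φ * _ < N; rw [hΦ]; omega)
    rw [show orbCard p (Φ : G ⧸ K → ℂ) = orbCard p (θ : G → ℂ) from hΦ] at h
    exact h
  have hb' := ih _ hlt T' (by omega) hT'inv hb rfl
  have hle : a ≤ b + c := by
    have h1 : (T'.inf fun θ => Characters.Kernel.charKer (isCharacter_irr θ)) ⊓ K ≤
        T.inf fun θ => Characters.Kernel.charKer (isCharacter_irr θ) := by
      refine Finset.le_inf fun ψ hψ => ?_
      by_cases h : ψ ∈ O
      · exact inf_le_right.trans (hOker ψ h)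
      · exact inf_le_left.trans (Finset.inf_le (Finset.mem_sdiff.mpr ⟨hψ, h⟩))
    have h2 := Nat.le_of_dvd (Nat.pos_of_ne_zero Subgroup.index_ne_zero_of_finite)
      (Subgroup.index_dvd_of_le h1)
    have h3 := h2.trans Subgroup.index_inf_le
    rw [ha, hb, show K.index = p ^ c from hc', ← pow_add] at h3
    exact (Nat.pow_le_pow_iff_right hp.one_lt).mp h3
  rw [hsum]
  exact le_trans (hle.trans (Nat.add_le_add hb' hcb)) (schurSum_add p N _ _)

/-- Schur's bound for a p-group with a rational valued faithful character. -/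
theorem pgroup_bound [Finite G] (hG : IsPGroup p G) {χ : G → ℂ} (hχ : Cfsg.IsCharacter G χ)
    (hf : ∀ g : G, χ g = χ 1 → g = 1)
    (hrat : ∀ (u : ℕ) (g : G), u.Coprime p → χ (g ^ u) = χ g) {n a : ℕ} (hn : χ 1 = n)
    (ha : Nat.card G = p ^ a) : a ≤ schurSum p (n + 1) n := by
  classical
  have := Fintype.ofFinite G
  have := Fintype.ofFinite (Cfsg.IrrCharacter G)
  choose m hm using fun θ : Cfsg.IrrCharacter G =>
    exists_classInner_nat hχ (isCharacter_irr θ)
  choose d hd using fun θ : Cfsg.IrrCharacter G => exists_degree (isCharacter_irr θ)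
  set T := Finset.univ.filter fun θ => m θ ≠ 0 with hT
  have hexp : ∀ g, χ g = ∑ θ, (m θ : ℂ) * (θ : G → ℂ) g := by
    intro g
    have h := congrFun (Characters.Complete.classFunction_eq_sum
      (isClassFunction_of_isCharacter hχ)) g
    rw [h, Finset.sum_apply]
    exact Finset.sum_congr rfl fun θ _ => by simp [hm]
  have hsum : ∑ θ ∈ T, d θ ≤ n := by
    have h := hexp 1
    simp only [hn, hd, ← Nat.cast_mul, ← Nat.cast_sum, Nat.cast_inj] at h
    rw [h]
    refine le_trans (Finset.sum_le_sum fun θ hθ => ?_)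
      (Finset.sum_le_sum_of_subset (f := fun θ => m θ * d θ) (Finset.subset_univ T))
    exact Nat.le_mul_of_pos_left _ (Nat.pos_of_ne_zero (Finset.mem_filter.mp hθ).2)
  have hinv : ∀ θ ∈ T, ∀ ψ : Cfsg.IrrCharacter G, (ψ : G → ℂ) ∈ powSet p (θ : G → ℂ) →
      ψ ∈ T := by
    intro θ hθ ψ hψ
    obtain ⟨⟨u, hu⟩, hue⟩ := hψ
    rw [hT, Finset.mem_filter] at hθ ⊢
    refine ⟨Finset.mem_univ _, ?_⟩
    have h : (m ψ : ℂ) = m θ := by
      rw [← hm, ← hm, Cfsg.classInner, Cfsg.classInner, ← hue]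
      congr 1
      refine Fintype.sum_bijective (fun g => g ^ u)
        (powCoprime (G := G) (coprime_card p hG hu).symm).bijective _ _ fun g => ?_
      rw [hrat u g hu]
    rw [show m ψ = m θ by exact_mod_cast h]
    exact hθ.2
  have hbot : (T.inf fun θ => Characters.Kernel.charKer (isCharacter_irr θ)) = ⊥ := by
    refine (Subgroup.eq_bot_iff_forall _).mpr fun g hg => hf g ?_
    rw [hexp, hexp]
    refine Finset.sum_congr rfl fun θ _ => ?_
    by_cases h : m θ = 0
    · rw [h, Nat.cast_zero, zero_mul, zero_mul]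
    · have h' : g ∈ Characters.Kernel.charKer (isCharacter_irr θ) :=
        (Finset.inf_le (f := fun θ => Characters.Kernel.charKer (isCharacter_irr θ))
          (Finset.mem_filter.mpr ⟨Finset.mem_univ θ, h⟩)) hg
      rw [(Characters.Kernel.mem_charKer _ g).mp h']
  have h := set_bound p hG T d hd (n + 1) (by omega) hinv (a := a)
    (by rw [hbot, Subgroup.index_bot, ha])
  exact h.trans (schurSum_mono p _ hsum)

/-- A p-rational character is fixed by the powers prime to `p` on p-elements. -/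
theorem apply_pow_of_prational [Finite G] {χ : G → ℂ} (hχ : Cfsg.IsCharacter G χ) {r : ℕ}
    (hr : 0 < r) (hpr : ¬ p ∣ r)
    (hval : ∀ g : G, χ g ∈ IntermediateField.adjoin ℚ
      ({Complex.exp (2 * Real.pi * Complex.I / r)} : Set ℂ))
    {x : G} {b : ℕ} (hx : x ^ (p ^ b) = 1) {u : ℕ} (hu : u.Coprime p) : χ (x ^ u) = χ x := by
  have hp : p.Prime := Fact.out
  set N := Nat.card G * r with hN
  have hN0 : N ≠ 0 := Nat.mul_ne_zero Nat.card_pos.ne' hr.ne'
  have hcop : (p ^ (N.factorization p + b + 1)).Coprime (N / p ^ N.factorization p) :=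
    (Nat.coprime_ordCompl hp hN0).pow_left _
  obtain ⟨k, hk1, hk2⟩ := Nat.chineseRemainder hcop u 1
  have hkp : k.Coprime p := by
    rw [Nat.coprime_comm, hp.coprime_iff_not_dvd]
    intro h
    have h1 : k ≡ u [MOD p] := hk1.of_dvd (dvd_pow_self p (Nat.succ_ne_zero _))
    exact (hp.coprime_iff_not_dvd.mp hu.symm) (h1.dvd_iff dvd_rfl |>.mp h)
  have hkN : k.Coprime N := by
    rw [← Nat.ordProj_mul_ordCompl_eq_self N p]
    refine Nat.Coprime.mul_right (hkp.pow_right _) ?_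
    rw [Nat.coprime_iff_gcd_eq_one, hk2.gcd_eq, Nat.gcd_one_left]
  obtain ⟨σ, hσ⟩ := AlgAut.exists_ringEquiv_pow (Nat.pos_of_ne_zero hN0) hkN
  set η := Complex.exp (2 * Real.pi * Complex.I / r) with hη
  have hprim : IsPrimitiveRoot η r := Complex.isPrimitiveRoot_exp r hr.ne'
  have hrN : r ∣ N / p ^ N.factorization p := by
    have hd : r ∣ p ^ N.factorization p * (N / p ^ N.factorization p) := by
      rw [Nat.ordProj_mul_ordCompl_eq_self]; exact dvd_mul_left r _
    exact (((hp.coprime_iff_not_dvd.mpr hpr).symm.pow_right _)).dvd_of_dvd_mul_left hd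
  have hση : σ η = η := by
    rw [hσ η ((hprim.pow_eq_one_iff_dvd N).mpr (dvd_mul_left r _))]
    conv_rhs => rw [← pow_one η]
    refine (IsOfFinOrder.pow_eq_pow_iff_modEq
      (isOfFinOrder_iff_pow_eq_one.mpr ⟨r, hr, hprim.pow_eq_one⟩)).mpr ?_
    rw [← hprim.eq_orderOf]
    exact hk2.of_dvd hrN
  have hfix : σ (χ x) = χ x := by
    have h : ∀ z ∈ IntermediateField.adjoin ℚ ({η} : Set ℂ), σ z = z := by
      intro z hz
      induction hz using IntermediateField.adjoin_induction with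
      | mem y hy => rw [Set.mem_singleton_iff.mp hy]; exact hση
      | algebraMap q => exact map_ratCast σ.toRingHom q
      | add y w _ _ h1 h2 => rw [map_add, h1, h2]
      | inv y _ h1 => rw [map_inv₀, h1]
      | mul y w _ _ h1 h2 => rw [map_mul, h1, h2]
    exact h _ (hval x)
  obtain ⟨ι, _, z, hz, hsum⟩ := PConj.exists_eig hχ x
  have hxk : x ^ u = x ^ k := pow_eq_pow_iff_modEq.mpr
    (hk1.symm.of_dvd ((orderOf_dvd_of_pow_eq_one hx).trans (pow_dvd_pow p (by omega))))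
  rw [hxk]
  calc χ (x ^ k) = ∑ i, z i ^ k := hsum k
    _ = σ (∑ i, z i ^ 1) := by
      rw [map_sum]
      exact Finset.sum_congr rfl fun i _ => by
        rw [pow_one, hσ _ (by rw [hN, pow_mul, hz i, one_pow])]
    _ = χ x := by rw [← hsum 1, pow_one, hfix]

end Cfsg.Agent.Lib.BC77.SchurBound
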