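import Cfsg.Agent.Lib.BC77.PRational
import Cfsg.Agent.Lib.BC77.SchurBound
import Cfsg.Agent.Lib.PLocal.ActionQuotient
import Cfsg.Agent.Lib.PSolvable.HallHigman
import Cfsg.Agent.Lib.Coprime.Conjugacy
import Cfsg.Agent.Lib.Cores.Basic

/-!
# The p-part of [G : O_p(G)] for a p-solvable linear group
-/

set_option autoImplicit false

namespace Cfsg.Agent.Lib.BC77.PSolvBound

open scoped ComplexConjugate Pointwise
open Cfsg.Agent.Lib.Induced.Basic Cfsg.Agent.Lib.Characters.Basic Cfsg.Agent.Lib.BC78.Clifford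

universe u

variable {G : Type u} [Group G] [Finite G] (p : ℕ) [Fact p.Prime]

/-- A p-group normalizing a p'-subgroup: its order modulo the centralizer is bounded. -/
theorem action_bound {χ : G → ℂ} (hχ : Cfsg.IsCharacter G χ)
    (hf : ∀ g : G, χ g = χ 1 → g = 1) {n : ℕ} (hn : χ 1 = n) (K Q : Subgroup G)
    (hK : ¬ p ∣ Nat.card K) (hQ : IsPGroup p Q) (hnorm : Q ≤ Subgroup.normalizer (K : Set G)) :
    ∃ (C : Subgroup Q) (b : ℕ), C.index = p ^ b ∧
      (∀ q ∈ C, ∀ k ∈ K, (q : G) * k = k * q) ∧ b ≤ SchurBound.schurSum p (n + 1) n := by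
  classical
  have hp : p.Prime := Fact.out
  obtain ⟨a, ha⟩ := IsPGroup.iff_card.mp hQ
  have hcop : (Nat.card Q).Coprime (Nat.card K) := by
    rw [ha]; exact PRational.coprime_of_not_dvd p hK
  set Γ := Q ⊔ K with hΓ
  set N := K.subgroupOf Γ with hN
  have hΓn : Γ ≤ Subgroup.normalizer (K : Set G) := sup_le hnorm Subgroup.le_normalizer
  haveI : N.Normal :=
    (Subgroup.normal_subgroupOf_iff_le_normalizer le_sup_right).mpr hΓn
  have hNc : Nat.card N = Nat.card K :=
    Nat.card_congr (Subgroup.subgroupOfEquivOfLe le_sup_right).toEquiv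
  have hΓc : Nat.card Γ = p ^ a * Nat.card K := by
    rw [← ha]
    exact Coprime.card_sup_of_disjoint hnorm (disjoint_iff.mpr (Coprime.inf_eq_bot_of_coprime hcop))
  have hidx : N.index = p ^ a := by
    have h := N.card_mul_index
    rw [hNc, hΓc, mul_comm (p ^ a)] at h
    exact Nat.eq_of_mul_eq_mul_left Nat.card_pos h
  have hcard : ¬ p ∣ Nat.card N := hNc ▸ hK
  have := Fintype.ofFinite Γ
  have := Fintype.ofFinite N
  have := Fintype.ofFinite (Cfsg.IrrCharacter N)
  set φ : N → ℂ := fun x => χ ((x : Γ) : G) with hφ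
  have hφc : Cfsg.IsCharacter N φ := isCharacter_comp (Γ.subtype.comp N.subtype) hχ
  set F := Finset.univ.filter fun η : Cfsg.IrrCharacter N => Cfsg.classInner φ (η : N → ℂ) ≠ 0
    with hFdef
  have hFinv : ∀ η ∈ F, ∀ g : Γ, conjIrr N η g ∈ F := by
    intro η hη g
    rw [hFdef, Finset.mem_filter] at hη ⊢
    refine ⟨Finset.mem_univ _, ?_⟩
    have h : Cfsg.classInner φ (conjIrr N η g : N → ℂ) = Cfsg.classInner φ (η : N → ℂ) := by
      simp only [Cfsg.classInner]
      congr 1
      refine Fintype.sum_bijective (MulAut.conjNormal g : MulAut N)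
        (MulAut.conjNormal g : MulAut N).bijective _ _ fun x => ?_
      refine congrArg₂ (· * ·) ?_ rfl
      show χ ((x : Γ) : G) = χ ((g * (x : Γ) * g⁻¹ : Γ) : G)
      rw [Subgroup.coe_mul, Subgroup.coe_mul, Subgroup.coe_inv]
      exact (isClassFunction_of_isCharacter hχ _ (g : G)).symm
    rw [h]
    exact hη.2
  obtain ⟨Ψ, hΨ, hΨN, hΨpow⟩ := PRational.exists_set_ext N p hidx hcard F hFinv
  choose mult hmult using fun η : Cfsg.IrrCharacter N =>
    exists_classInner_nat hφc (isCharacter_irr η)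
  choose d hd using fun η : Cfsg.IrrCharacter N => exists_degree (isCharacter_irr η)
  have hexp : ∀ x, φ x = ∑ η, (mult η : ℂ) * (η : N → ℂ) x := by
    intro x
    have h := congrFun (Characters.Complete.classFunction_eq_sum
      (isClassFunction_of_isCharacter hφc)) x
    rw [h, Finset.sum_apply]
    exact Finset.sum_congr rfl fun η _ => by simp [hmult]
  have hFdeg : ∑ η ∈ F, d η ≤ n := by
    have h := hexp 1
    rw [show φ 1 = χ 1 from rfl] at h
    simp only [hn, hd, ← Nat.cast_mul, ← Nat.cast_sum, Nat.cast_inj] at h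
    rw [h]
    refine le_trans (Finset.sum_le_sum fun η hη => ?_)
      (Finset.sum_le_sum_of_subset (f := fun η => mult η * d η) (Finset.subset_univ F))
    refine Nat.le_mul_of_pos_left _ (Nat.pos_of_ne_zero fun h0 => ?_)
    exact (Finset.mem_filter.mp hη).2 (by rw [hmult, h0, Nat.cast_zero])
  let ι : Q →* Γ := Subgroup.inclusion le_sup_left
  set ψ : Q → ℂ := fun q => Ψ (ι q) with hψ
  have hψc : Cfsg.IsCharacter Q ψ := isCharacter_comp ι hΨ
  set C := Characters.Kernel.charKer hψc with hC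
  haveI : C.Normal := Characters.Kernel.charKer_normal hψc
  have hCcomm : ∀ q ∈ C, ∀ k ∈ K, (q : G) * k = k * q := by
    intro q hq k hk
    have hqk : (q : G) * k * (q : G)⁻¹ ∈ K :=
      (Subgroup.mem_normalizer_iff.mp (hnorm q.2) k).mp hk
    set c : Γ := ι q * ⟨k, le_sup_right (a := Q) hk⟩ * (ι q)⁻¹ *
      (⟨k, le_sup_right (a := Q) hk⟩ : Γ)⁻¹ with hc
    have hcN : c ∈ N := by
      rw [hN, Subgroup.mem_subgroupOf]
      exact mul_mem hqk (inv_mem hk)
    have hker : ι q ∈ Characters.Kernel.charKer hΨ := by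
      rw [Characters.Kernel.mem_charKer]
      have h := (Characters.Kernel.mem_charKer hψc q).mp hq
      simpa [hψ] using h
    have hck : c ∈ Characters.Kernel.charKer hΨ := by
      rw [hc, mul_assoc (ι q), mul_assoc (ι q)]
      refine mul_mem hker ?_
      exact (Characters.Kernel.charKer_normal hΨ).conj_mem _ (inv_mem hker) _
    have hηc : ∀ η ∈ F, (η : N → ℂ) ⟨c, hcN⟩ = (η : N → ℂ) 1 := by
      intro η hη
      have hΨNc : Cfsg.IsCharacter N (fun x : N => Ψ x) := isCharacter_comp N.subtype hΨ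
      refine BC78.CoprimeFix.constituent_ker hΨNc η ?_ (g := (⟨c, hcN⟩ : N))
        ((Characters.Kernel.mem_charKer hΨ c).mp hck)
      rw [show (fun x : N => Ψ x) = fun x => ∑ η' ∈ F, (η' : N → ℂ) x from funext hΨN,
        show (fun x => ∑ η' ∈ F, (η' : N → ℂ) x) = ∑ η' ∈ F, (η' : N → ℂ) from
          funext fun x => (Finset.sum_apply x F _).symm,
        classInner_sum_left]
      simp only [classInner_irr]
      rw [Finset.sum_ite_eq' F η, if_pos hη]
      exact one_ne_zero
    have hφc1 : φ ⟨c, hcN⟩ = φ 1 := by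
      rw [hexp, hexp]
      refine Finset.sum_congr rfl fun η _ => ?_
      by_cases hη : η ∈ F
      · rw [hηc η hη]
      · have h0 : mult η = 0 := by
          have h := hmult η
          rw [hFdef, Finset.mem_filter] at hη
          have : Cfsg.classInner φ (η : N → ℂ) = 0 := by
            by_contra hne; exact hη ⟨Finset.mem_univ _, hne⟩
          rw [this] at h
          exact_mod_cast h.symm
        rw [h0, Nat.cast_zero, zero_mul, zero_mul]
    have h1 := hf _ hφc1
    have h2 : (q : G) * k * (q : G)⁻¹ * k⁻¹ = 1 := h1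
    rw [mul_inv_eq_one, mul_inv_eq_iff_eq_mul] at h2
    exact h2
  obtain ⟨b, hb⟩ := IsPGroup.iff_card.mp (hQ.to_quotient C)
  refine ⟨C, b, hb, hCcomm, ?_⟩
  obtain ⟨ψ', hψ', hψe, -⟩ := Characters.Kernel.exists_descend C hψc
    fun q hq => (Characters.Kernel.mem_charKer hψc q).mp hq
  have hv : ∀ q : Q, ψ' (q : Q ⧸ C) = ψ q := fun q => congrFun hψe q
  have hψdeg : ψ' 1 = ((∑ η ∈ F, d η : ℕ) : ℂ) := by
    rw [← QuotientGroup.mk_one, hv, hψ]
    show Ψ (ι 1) = _
    rw [map_one, show (1 : Γ) = ((1 : N) : Γ) from rfl, hΨN]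
    push_cast
    exact Finset.sum_congr rfl fun η _ => hd η
  refine le_trans (SchurBound.pgroup_bound p (hQ.to_quotient C) hψ' ?_ ?_ hψdeg hb) ?_
  · intro x hx
    obtain ⟨q, rfl⟩ := QuotientGroup.mk_surjective x
    rw [← QuotientGroup.mk_one, hv, hv] at hx
    exact (QuotientGroup.eq_one_iff q).mpr hx
  · intro u x hu
    obtain ⟨q, rfl⟩ := QuotientGroup.mk_surjective x
    rw [← QuotientGroup.mk_pow, hv, hv]
    have hcop' : (p ^ a).Coprime (Nat.card K) := ha ▸ hcop
    obtain ⟨v, hv1, hv2⟩ := Nat.chineseRemainder hcop' u 1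
    have hqv : q ^ u = q ^ v :=
      pow_eq_pow_iff_modEq.mpr (hv1.symm.of_dvd (ha ▸ orderOf_dvd_natCard q))
    show Ψ (ι (q ^ u)) = Ψ (ι q)
    rw [hqv, map_pow]
    refine hΨpow v ?_ (hNc.symm ▸ hv2) _
    rw [hΓc]
    refine Nat.Coprime.mul_right ?_ ?_
    · rw [Nat.coprime_iff_gcd_eq_one, hv1.gcd_eq]
      exact (hu.pow_right a)
    · rw [Nat.coprime_iff_gcd_eq_one, hv2.gcd_eq, Nat.gcd_one_left]
  · exact le_trans (SchurBound.schurSum_mono p _ le_rfl)
      (le_trans (Finset.sum_le_sum_of_subset (Finset.range_mono (by omega)))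
        (SchurBound.schurSum_mono p (n + 1) hFdeg))

/-- A p-group acting on a p'-subgroup as a Sylow subgroup of `G / O_p(G)` does. -/
theorem exists_action (hsolv : Cfsg.IsPSolvable p G) :
    ∃ K Q : Subgroup G, ¬ p ∣ Nat.card K ∧ IsPGroup p Q ∧
      Q ≤ Subgroup.normalizer (K : Set G) ∧
      ∀ C : Subgroup Q, (∀ q ∈ C, ∀ k ∈ K, (q : G) * k = k * q) →
        p ^ ((Cfsg.pCore p G).index).factorization p ≤ C.index := by
  classical
  have hp : p.Prime := Fact.out
  set R := Cfsg.pCore p G with hR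
  haveI hRn : R.Normal := inferInstanceAs (Cfsg.pCore p G).Normal
  have hRp : IsPGroup p R := PSolvable.isPGroup_pCore
  set π := QuotientGroup.mk' R
  set L := Cfsg.pPrimeCore p (G ⧸ R) with hL
  set U := L.comap π with hU
  have hRU : R ≤ U := by
    intro r hr
    rw [hU, Subgroup.mem_comap, show π r = 1 from (QuotientGroup.eq_one_iff r).mpr hr]
    exact one_mem _
  set R' := R.subgroupOf U
  haveI : R'.Normal := Subgroup.Normal.subgroupOf inferInstance U
  have hR'c : Nat.card R' = Nat.card R :=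
    Nat.card_congr (Subgroup.subgroupOfEquivOfLe hRU).toEquiv
  have hUc : Nat.card U = Nat.card R * Nat.card L := PSolvable.card_comap_mk' R L
  have hR'i : R'.index = Nat.card L := by
    have h := R'.card_mul_index
    rw [hR'c, hUc] at h
    exact Nat.eq_of_mul_eq_mul_left Nat.card_pos h
  have hLp : (Nat.card L).Coprime p := PSolvable.card_pPrimeCore_coprime
  obtain ⟨r, hr⟩ := IsPGroup.iff_card.mp hRp
  obtain ⟨K', hK'⟩ := Subgroup.exists_right_complement'_of_coprime (N := R')
    (by rw [hR'c, hR'i, hr]; exact hLp.symm.pow_left r)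
  set K := K'.map U.subtype with hK
  have hKU : K ≤ U := Subgroup.map_subtype_le K'
  have hKc : Nat.card K = Nat.card L := by
    rw [hK, ← Nat.card_congr (K'.equivMapOfInjective _ U.subtype_injective).toEquiv]
    exact hK'.symm.index_eq_card.symm.trans hR'i
  have hKsup : ∀ x ∈ U, ∃ a ∈ K, ∃ b ∈ R, x = b * a := by
    intro x hx
    obtain ⟨⟨⟨b, hb⟩, ⟨a, ha⟩⟩, hab⟩ := hK'.2 ⟨x, hx⟩
    exact ⟨a, ⟨a, ha, rfl⟩, b, hb, (congrArg Subtype.val hab).symm⟩
  have hKp : ¬ p ∣ Nat.card K := by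
    rw [hKc]; exact hp.coprime_iff_not_dvd.mp hLp.symm
  set NK := Subgroup.normalizer (K : Set G) with hNK
  have hfrat : ∀ g : G, ∃ x ∈ NK, π x = π g := by
    intro g
    have hle : MulAut.conj g • K ≤ K ⊔ R := by
      intro x hx
      rw [Coprime.mem_conj_smul] at hx
      have hxU : x ∈ U := by
        have hn : U.Normal := Subgroup.Normal.comap inferInstance π
        have h := hn.conj_mem _ (hKU hx) g
        simpa [mul_assoc] using h
      obtain ⟨a, ha, b, hb, rfl⟩ := hKsup x hxU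
      exact mul_mem (le_sup_right (a := K) hb) (le_sup_left (b := R) ha)
    obtain ⟨b, hb, hbe⟩ := Coprime.exists_conj_eq_of_coprime (A := K)
      (B := MulAut.conj g • K) (K := R) (Subgroup.le_normalizer_of_normal)
      (by rw [hKc, hr]; exact hLp.pow_right r)
      (Or.inr (by have := hRp.isNilpotent; infer_instance))
      hle (Coprime.card_conj_smul g K)
    refine ⟨b⁻¹ * g, ?_, ?_⟩
    · apply Coprime.mem_normalizer_of_conj_smul_eq
      rw [Coprime.conj_smul_mul, ← hbe, ← Coprime.conj_smul_mul, inv_mul_cancel, map_one,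
        one_smul]
    · rw [map_mul, show π b⁻¹ = 1 from (QuotientGroup.eq_one_iff _).mpr (inv_mem hb), one_mul]
  let f : NK →* G ⧸ R := π.comp NK.subtype
  have hfs : Function.Surjective f := fun x => by
    obtain ⟨g, rfl⟩ := QuotientGroup.mk_surjective x
    obtain ⟨y, hy, hye⟩ := hfrat g
    exact ⟨⟨y, hy⟩, hye⟩
  let S : Sylow p NK := default
  set Q := (S : Subgroup NK).map NK.subtype with hQ
  have hQp : IsPGroup p Q := S.2.map _
  have hQn : Q ≤ NK := Subgroup.map_subtype_le _
  refine ⟨K, Q, hKp, hQp, hQn, fun C hcomm => ?_⟩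
  have hCR : ∀ q ∈ C, π (q : G) = 1 := by
    intro q hq
    have hcent : π (q : G) ∈ Subgroup.centralizer (L : Set (G ⧸ R)) := by
      intro l hl
      obtain ⟨g, rfl⟩ := QuotientGroup.mk'_surjective R l
      obtain ⟨a, ha, c, hc, rfl⟩ := hKsup g hl
      rw [map_mul, show π c = 1 from (QuotientGroup.eq_one_iff c).mpr hc, one_mul, ← map_mul,
        ← map_mul, hcomm q hq a ha]
    have hmem := PLocal.centralizer_pPrimeCore_le (PSolvable.isPSolvable_quotient hsolv R)
      (PSolvable.pCore_quotient_eq_bot R rfl) hcent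
    obtain ⟨k, hk⟩ := hQp q
    have hk' : π (q : G) ^ p ^ k = 1 := by
      rw [← map_pow, ← SubgroupClass.coe_pow, hk, OneMemClass.coe_one, map_one]
    exact orderOf_eq_one_iff.mp (Nat.eq_one_of_dvd_coprimes (hLp.symm.pow_left k)
      (orderOf_dvd_of_pow_eq_one hk') (Subgroup.orderOf_dvd_natCard L hmem))
  let g : Q →* G ⧸ R := π.comp Q.subtype
  have hCg : C ≤ g.ker := fun q hq => hCR q hq
  have hrange : g.range = ((S.mapSurjective hfs : Sylow p (G ⧸ R)) : Subgroup (G ⧸ R)) := by
    ext x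
    constructor
    · rintro ⟨⟨_, y, hy, rfl⟩, rfl⟩
      exact ⟨y, hy, rfl⟩
    · rintro ⟨y, hy, rfl⟩
      exact ⟨⟨y, y, hy, rfl⟩, rfl⟩
  have h1 : Nat.card g.range = p ^ (Nat.card (G ⧸ R)).factorization p := by
    rw [hrange]; exact (S.mapSurjective hfs).card_eq_multiplicity
  have h2 : Nat.card g.range ≤ C.index := by
    rw [← Subgroup.index_ker]
    exact Nat.le_of_dvd (Nat.pos_of_ne_zero Subgroup.index_ne_zero_of_finite)
      (Subgroup.index_dvd_of_le hCg)
  rw [h1] at h2
  exact h2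

/-- The bound for a p-solvable group. -/
theorem main (hsolv : Cfsg.IsPSolvable p G) {χ : G → ℂ} (hχ : Cfsg.IsCharacter G χ)
    (hf : ∀ g : G, χ g = χ 1 → g = 1) {n : ℕ} (hn : χ 1 = n) :
    ((Cfsg.pCore p G).index).factorization p ≤ SchurBound.schurSum p (n + 1) n := by
  obtain ⟨K, Q, hKp, hQp, hQn, hC⟩ := exists_action p hsolv
  obtain ⟨C, b, hb, hcomm, hbd⟩ := action_bound p hχ hf hn K Q hKp hQp hQn
  have h := hC C hcomm
  rw [hb] at h
  exact ((Nat.pow_le_pow_iff_right (Fact.out : p.Prime).one_lt).mp h).trans hbd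

end Cfsg.Agent.Lib.BC77.PSolvBound
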