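import Cfsg.Agent.Lib.Characters.Diag
import Cfsg.Agent.Lib.Characters.Linear
import Cfsg.Agent.Lib.Clifford.Rep
import Mathlib.GroupTheory.GroupAction.Quotient
import Mathlib.GroupTheory.Index

/-!
# Primitive linear groups of degree two

Orbit count on the fixed lines of the non-central elements: the central index is 12, 24 or 60.
-/

namespace Cfsg.Agent.Lib.BC77.PrimTwo

open Module

universe u

/-- The arithmetic of the orbit count. -/
theorem three_orbits {n a b c : ℕ} (ha : 3 ≤ a) (hb : 3 ≤ b) (hc : 3 ≤ c)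
    (hab : b ≤ a) (hbc : c ≤ b) (da : a ∣ n) (db : b ∣ n) (dc : c ∣ n)
    (la : a < n) (lb : b < n) (lc : c < n) (hsum : a + b + c = n + 2) :
    n = 12 ∨ n = 24 ∨ n = 60 := by
  obtain ⟨x, rfl⟩ := da
  obtain ⟨y, hy⟩ := db
  obtain ⟨z, hz⟩ := dc
  have hx : 2 ≤ x := by nlinarith
  have hy2 : 2 ≤ y := by nlinarith
  have hz2 : 2 ≤ z := by nlinarith
  have hx3 : x < 3 := by
    by_contra h
    nlinarith
  obtain rfl : x = 2 := by omega
  have hy4 : y < 4 := by
    by_contra h
    nlinarith
  have hy3 : y = 3 := by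
    rcases Nat.lt_or_ge y 3 with h | h
    · obtain rfl : y = 2 := by omega
      omega
    · omega
  subst hy3
  have hz6 : z < 6 := by
    by_contra h
    nlinarith
  interval_cases z <;> omega

variable {G : Type u} [Group G] [Finite G] {V : Type} [AddCommGroup V] [Module ℂ V]
  [FiniteDimensional ℂ V] (ρ : Representation ℂ G V)

omit [Finite G] [FiniteDimensional ℂ V] in
theorem apply_ne_zero (g : G) {v : V} (hv : v ≠ 0) : ρ g v ≠ 0 := by
  intro h
  apply hv
  have := congrArg (ρ g⁻¹) h
  rwa [← Module.End.mul_apply, ← map_mul, inv_mul_cancel, map_one, Module.End.one_apply,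
    map_zero] at this

theorem exists_two_lines (hinj : Function.Injective ρ) (h2 : finrank ℂ V = 2) (g : G)
    (hg : g ∉ Subgroup.center G) :
    ∃ (b : Basis (Fin 2) ℂ V) (a : Fin 2 → ℂ), (∀ i, ρ g (b i) = a i • b i) ∧ a 0 ≠ a 1 := by
  obtain ⟨ι, hι, b, a, hb, hcard, -⟩ := Characters.Diag.exists_eigenbasis_card ρ g
  let e : ι ≃ Fin 2 := Fintype.equivFinOfCardEq (hcard.trans h2)
  refine ⟨b.reindex e, fun i => a (e.symm i), fun i => by simp [(hb (e.symm i)).1], fun he => hg ?_⟩
  have hall : ∀ i : ι, a i = a (e.symm 0) := by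
    intro i
    obtain ⟨j, rfl⟩ := e.symm.surjective i
    fin_cases j
    · rfl
    · exact he.symm
  have hsc : ρ g = a (e.symm 0) • (1 : Module.End ℂ V) := b.ext fun i => by
    rw [(hb i).1, hall i]; simp
  rw [Subgroup.mem_center_iff]
  intro h
  apply hinj
  simp [map_mul, hsc]

/-- The main count. -/
theorem index_center [hirr : ρ.IsIrreducible] [Fintype G] (hinj : Function.Injective ρ)
    (h2 : finrank ℂ V = 2)
    (hprim : ∀ H : Subgroup G, H ≠ ⊤ → ∀ θ : H → ℂ, Cfsg.IsCharacter H θ →
      ρ.character ≠ Cfsg.indFun H θ) :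
    (Subgroup.center G).index = 12 ∨ (Subgroup.center G).index = 24 ∨
      (Subgroup.center G).index = 60 := by
  classical
  have hscal : ∀ z ∈ Subgroup.center G, ∃ c : ℂ, c ≠ 0 ∧ ρ z = c • (1 : Module.End ℂ V) := by
    intro z hz
    obtain ⟨c, hc⟩ := Clifford.Rep.schur ρ (ρ z) fun h => by
      rw [← map_mul, ← map_mul, (Subgroup.mem_center_iff.mp hz h)]
    refine ⟨c, fun h0 => ?_, hc⟩
    have : Nontrivial V := Module.nontrivial_of_finrank_eq_succ h2
    obtain ⟨v, hv⟩ := exists_ne (0 : V)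
    exact apply_ne_zero ρ z hv (by rw [hc, h0]; simp)
  -- the action on lines
  letI act : MulAction G (Submodule ℂ V) :=
    { smul := fun g L => L.map (ρ g)
      one_smul := fun L => by show L.map (ρ 1) = L; rw [map_one]; exact L.map_id
      mul_smul := fun g h L => by
        show L.map (ρ (g * h)) = (L.map (ρ h)).map (ρ g)
        rw [map_mul, Module.End.mul_eq_comp, Submodule.map_comp] }
  have hsmul : ∀ (g : G) (L : Submodule ℂ V), g • L = L.map (ρ g) := fun _ _ => rfl
  have hline : ∀ (g : G) (v : V), g • (ℂ ∙ v) = ℂ ∙ (ρ g v) := fun g v => by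
    rw [hsmul, Submodule.map_span, Set.image_singleton]
  -- no fixed line
  have hnofix : ∀ v : V, v ≠ 0 → ¬ ∀ g : G, g • (ℂ ∙ v) = ℂ ∙ v := by
    intro v hv hfix
    let W : Subrepresentation ρ :=
      { toSubmodule := ℂ ∙ v
        apply_mem_toSubmodule := fun g x hx => by
          rw [← hfix g, hsmul]; exact Submodule.mem_map_of_mem hx }
    rcases IsSimpleOrder.eq_bot_or_eq_top W with h | h
    · have h' : (ℂ ∙ v) = (⊥ : Submodule ℂ V) := congrArg Subrepresentation.toSubmodule h
      exact hv (Submodule.span_singleton_eq_bot.mp h')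
    · have h' : (ℂ ∙ v) = (⊤ : Submodule ℂ V) := congrArg Subrepresentation.toSubmodule h
      have := finrank_span_singleton (K := ℂ) hv
      rw [h', finrank_top, h2] at this
      omega
  let S : SubMulAction G (Submodule ℂ V) :=
    { carrier := {L | ∃ g, g ∉ Subgroup.center G ∧ (∃ v, v ≠ 0 ∧ L = ℂ ∙ v) ∧ g • L = L}
      smul_mem' := by
        rintro h L ⟨g, hg, ⟨v, hv, rfl⟩, hfix⟩
        refine ⟨h * g * h⁻¹, fun hc => hg ?_, ⟨ρ h v, apply_ne_zero ρ h hv, hline h v⟩, ?_⟩
        · have := (inferInstance : (Subgroup.center G).Normal).conj_mem _ hc h⁻¹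
          simpa [mul_assoc] using this
        · rw [smul_smul, inv_mul_cancel_right, ← smul_smul, hfix] }
  choose b a hb hab using fun g : {g : G // g ∉ Subgroup.center G} =>
    exists_two_lines ρ hinj h2 g.1 g.2
  -- fixed lines of a non-central element
  have hmemb : ∀ g i, (ℂ ∙ b g i) ∈ S ∧ g.1 • (ℂ ∙ b g i) = ℂ ∙ b g i := by
    intro g i
    have hfix : g.1 • (ℂ ∙ b g i) = ℂ ∙ b g i := by
      have h0 : a g i ≠ 0 := fun h0 =>
        apply_ne_zero ρ g.1 ((b g).ne_zero i) (by rw [hb, h0, zero_smul])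
      rw [hline, hb, Submodule.span_singleton_smul_eq (IsUnit.mk0 _ h0)]
    exact ⟨⟨g.1, g.2, ⟨_, (b g).ne_zero i, rfl⟩, hfix⟩, hfix⟩
  have honly : ∀ g (v : V), v ≠ 0 → g.1 • (ℂ ∙ v) = ℂ ∙ v →
      ∃ i, (ℂ ∙ v) = ℂ ∙ b g i := by
    intro g v hv hfix
    have h1 : ρ g.1 v ∈ (ℂ ∙ v) := by
      rw [← hfix, hline]; exact Submodule.mem_span_singleton_self _
    obtain ⟨l, hl⟩ := Submodule.mem_span_singleton.mp h1
    have hv2 : v = (b g).repr v 0 • b g 0 + (b g).repr v 1 • b g 1 := by
      conv_lhs => rw [← (b g).sum_repr v, Fin.sum_univ_two]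
    have hc : ∀ i, (b g).repr v i = 0 ∨ a g i = l := by
      intro i
      have h := congrArg (fun x => (b g).repr x i) hl
      conv at h => rhs; rw [hv2]
      simp only [map_add, map_smul, hb, Finsupp.add_apply, Finsupp.smul_apply, Basis.repr_self,
        smul_eq_mul] at h
      fin_cases i <;> simp at h ⊢ <;> grind
    rcases hc 0 with h0 | h0
    · refine ⟨1, ?_⟩
      have h' : (b g).repr v 1 ≠ 0 := fun h => hv (by rw [hv2, h0, h]; simp)
      rw [hv2, h0, zero_smul, zero_add, Submodule.span_singleton_smul_eq (IsUnit.mk0 _ h')]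
    · rcases hc 1 with h1 | h1
      · refine ⟨0, ?_⟩
        have h' : (b g).repr v 0 ≠ 0 := fun h => hv (by rw [hv2, h1, h]; simp)
        rw [hv2, h1, zero_smul, add_zero, Submodule.span_singleton_smul_eq (IsUnit.mk0 _ h')]
      · exact absurd (h0.trans h1.symm) (hab g)
  have hdist : ∀ g, (ℂ ∙ b g 0) ≠ ℂ ∙ b g 1 := by
    intro g h
    have : b g 0 ∈ (ℂ ∙ b g 1) := h ▸ Submodule.mem_span_singleton_self _
    obtain ⟨c, hc⟩ := Submodule.mem_span_singleton.mp this
    simpa using congrArg (fun x => (b g).repr x 0) hc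
  have hfinS : Finite S := by
    refine Finite.of_surjective (α := {g : G // g ∉ Subgroup.center G} × Fin 2)
      (fun p => ⟨ℂ ∙ b p.1 p.2, (hmemb p.1 p.2).1⟩) ?_
    rintro ⟨L, g, hg, ⟨v, hv, rfl⟩, hfix⟩
    obtain ⟨i, hi⟩ := honly ⟨g, hg⟩ v hv hfix
    exact ⟨(⟨g, hg⟩, i), Subtype.ext hi.symm⟩
  have := Fintype.ofFinite S
  -- fixed points
  have hfix2 : ∀ g : G, Fintype.card (MulAction.fixedBy S g) =
      if g ∈ Subgroup.center G then Fintype.card S else 2 := by
    intro g
    split_ifs with hg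
    · refine Fintype.card_congr (Equiv.subtypeUnivEquiv fun L => ?_)
      obtain ⟨c, hc0, hc⟩ := hscal g hg
      obtain ⟨-, -, ⟨v, hv, hL⟩, -⟩ := L.2
      refine Subtype.ext ?_
      show g • (L : Submodule ℂ V) = L
      rw [hL, hline, hc]
      simp [Submodule.span_singleton_smul_eq (IsUnit.mk0 c hc0) v]
    · rw [← Fintype.card_fin 2]
      refine (Fintype.card_congr (Equiv.ofBijective
        (fun i : Fin 2 => (⟨⟨ℂ ∙ b ⟨g, hg⟩ i, (hmemb _ i).1⟩,
          Subtype.ext (hmemb ⟨g, hg⟩ i).2⟩ : MulAction.fixedBy S g)) ⟨?_, ?_⟩)).symm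
      · intro i j hij
        have h := congrArg (fun x : MulAction.fixedBy S g => (x.1 : Submodule ℂ V)) hij
        fin_cases i <;> fin_cases j
        · rfl
        · exact absurd h (hdist _)
        · exact absurd h.symm (hdist _)
        · rfl
      · rintro ⟨⟨L, hL⟩, hLg⟩
        obtain ⟨-, -, ⟨v, hv, rfl⟩, -⟩ := hL
        obtain ⟨i, hi⟩ := honly ⟨g, hg⟩ v hv (congrArg Subtype.val hLg)
        exact ⟨i, Subtype.ext (Subtype.ext hi.symm)⟩
  set Z := Subgroup.center G with hZ
  set n := Z.index with hn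
  have hn1 : 1 < n := by
    by_contra h
    have htop : Z = ⊤ := Subgroup.index_eq_one.mp (by
      have := Z.index_ne_zero_of_finite; omega)
    have : Nontrivial V := Module.nontrivial_of_finrank_eq_succ h2
    obtain ⟨v, hv⟩ := exists_ne (0 : V)
    refine hnofix v hv fun g => ?_
    obtain ⟨c, hc0, hc⟩ := hscal g (htop ▸ Subgroup.mem_top g : g ∈ Z)
    rw [hline, hc]
    simp [Submodule.span_singleton_smul_eq (IsUnit.mk0 c hc0) v]
  -- the orbit count
  let Ω := MulAction.orbitRel.Quotient G S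
  have : Finite Ω := Quotient.finite _
  have := Fintype.ofFinite Ω
  have hburn : Fintype.card S + 2 * (n - 1) = Fintype.card Ω * n := by
    have h := MulAction.sum_card_fixedBy_eq_card_orbits_mul_card_group G S
    simp only [hfix2] at h
    rw [Finset.sum_ite, Finset.sum_const, Finset.sum_const, smul_eq_mul, smul_eq_mul] at h
    have hc1 : (Finset.univ.filter fun g : G => g ∈ Z).card = Nat.card Z := by
      rw [← Fintype.card_subtype, ← Nat.card_eq_fintype_card]
    have hc2 : Nat.card Z + (Finset.univ.filter fun g : G => g ∉ Z).card = Nat.card Z * n := by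
      rw [← hc1, Finset.card_filter_add_card_filter_not, Finset.card_univ, hc1,
        ← Nat.card_eq_fintype_card]
      exact Z.card_mul_index.symm
    rw [hc1, ← Nat.card_eq_fintype_card (α := G), ← Z.card_mul_index, ← hn] at h
    have hz : 0 < Nat.card Z := Nat.card_pos
    obtain ⟨m, hm⟩ : ∃ m, n = m + 1 := ⟨n - 1, by omega⟩
    rw [hm] at hc2 h ⊢
    have hk : (Finset.univ.filter fun g : G => g ∉ Z).card = Nat.card Z * m := by
      rw [Nat.mul_succ] at hc2
      omega
    rw [hk] at h
    rw [Nat.add_sub_cancel]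
    refine Nat.eq_of_mul_eq_mul_left hz ?_
    linarith
  set s : Ω → ℕ := fun ω => Nat.card (MulAction.orbit G ω.out) with hs
  have hsum : ∑ ω, s ω = Fintype.card S := by
    rw [← Nat.card_eq_fintype_card, Nat.card_congr (MulAction.selfEquivSigmaOrbits G S),
      Nat.card_sigma]
  have hprop : ∀ ω, 3 ≤ s ω ∧ s ω ∣ n ∧ s ω < n := by
    intro ω
    set L : S := ω.out
    obtain ⟨g0, hg0, ⟨v, hv, hLv⟩, hg0L⟩ := L.2
    set H := MulAction.stabilizer G L with hH
    have hmemH : ∀ g, g ∈ H ↔ g • (ℂ ∙ v) = ℂ ∙ v := fun g => by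
      rw [hH, MulAction.mem_stabilizer_iff, Subtype.ext_iff, SubMulAction.val_smul, hLv]
    have hidx : H.index = s ω := MulAction.index_stabilizer G L
    have hZH : Z ≤ H := fun z hz => by
      obtain ⟨c, hc0, hc⟩ := hscal z hz
      rw [hmemH, hline, hc]
      simp [Submodule.span_singleton_smul_eq (IsUnit.mk0 c hc0) v]
    have hdvd : s ω ∣ n := hidx ▸ Subgroup.index_dvd_of_le hZH
    have hlt : s ω < n := by
      refine lt_of_le_of_ne (Nat.le_of_dvd (by omega) hdvd) fun he => hg0 ?_
      have h1 := Subgroup.relIndex_mul_index hZH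
      rw [hidx, he] at h1
      have hrel : Z.relIndex H = 1 := (Nat.mul_eq_right (by omega)).mp h1
      exact Subgroup.relIndex_eq_one.mp hrel ((hmemH g0).mpr (hLv ▸ hg0L))
    refine ⟨?_, hdvd, hlt⟩
    have h0 : s ω ≠ 0 := fun h => by rw [h, zero_dvd_iff] at hdvd; omega
    have h1 : s ω ≠ 1 := fun h => hnofix v hv fun g => (hmemH g).mp (by
      rw [Subgroup.index_eq_one.mp (hidx.trans h)]; exact Subgroup.mem_top g)
    by_contra hlt3
    have hs2 : H.index = 2 := by omega
    have hHn : H.Normal := Subgroup.normal_of_index_eq_two hs2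
    obtain ⟨k, hk⟩ : ∃ k, k ∉ H := by
      by_contra! hc
      rw [(Subgroup.eq_top_iff' H).mpr hc, Subgroup.index_top] at hs2
      omega
    -- the two lines
    set w := ρ k v with hw
    have hvw : LinearIndependent ℂ ![v, w] := by
      rw [LinearIndependent.pair_iff' hv]
      intro c hc
      apply hk
      rw [hmemH, hline]
      have hc0 : c ≠ 0 := fun h => apply_ne_zero ρ k hv (by rw [← hw, ← hc, h, zero_smul])
      rw [← hw, ← hc, Submodule.span_singleton_smul_eq (IsUnit.mk0 c hc0)]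
    let B : Basis (Fin 2) ℂ V :=
      basisOfLinearIndependentOfCardEqFinrank hvw (by rw [Fintype.card_fin, h2])
    have hB : ∀ i, B i = ![v, w] i := fun i => by simp [B]
    have hsc : ∀ h : H, ∃ c : ℂ, ρ (h : G) v = c • v := by
      intro h
      have h1 := Submodule.mem_span_singleton_self (R := ℂ) (ρ (h : G) v)
      rw [← hline, (hmemH h).mp h.2] at h1
      obtain ⟨c, hc⟩ := Submodule.mem_span_singleton.mp h1
      exact ⟨c, hc.symm⟩
    choose th hth using hsc
    have huniq : ∀ c d : ℂ, c • v = d • v → c = d := fun c d h => smul_left_injective ℂ hv h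
    let θ : H →* ℂ :=
      { toFun := th
        map_one' := huniq _ _ (by rw [← hth 1]; simp)
        map_mul' := fun x y => huniq _ _ (by
          rw [← hth (x * y), Subgroup.coe_mul, map_mul, Module.End.mul_apply, hth y, map_smul,
            hth x, smul_smul, mul_comm]) }
    refine hprim H (fun h => hk (h ▸ Subgroup.mem_top k)) (fun h => θ h)
      ⟨1, Characters.Linear.homRep θ.toHomUnits, funext fun h => ?_⟩ (funext fun g => ?_)
    · rw [Characters.Linear.char_homRep]; rfl
    rw [Induced.Basic.indFun_apply]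
    have htr : ρ.character g = (B.repr (ρ g v)) 0 + (B.repr (ρ g w)) 1 := by
      show LinearMap.trace ℂ V (ρ g) = _
      rw [LinearMap.trace_eq_matrix_trace ℂ B, Matrix.trace, Fin.sum_univ_two]
      simp [Matrix.diag, LinearMap.toMatrix_apply, hB]
    by_cases hg : g ∈ H
    · have hg' : k⁻¹ * g * k ∈ H := by simpa using hHn.conj_mem _ hg k⁻¹
      have hgv : ρ g v = th ⟨g, hg⟩ • v := hth ⟨g, hg⟩
      have hgw : ρ g w = th ⟨k⁻¹ * g * k, hg'⟩ • w := by
        calc ρ g w = ρ k (ρ (k⁻¹ * g * k) v) := by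
              simp only [hw, ← Module.End.mul_apply, ← map_mul]
              rw [← mul_assoc, mul_inv_cancel_left]
          _ = _ := by rw [hth ⟨_, hg'⟩, map_smul, ← hw]
      have e1 : (B.repr (ρ g v)) 0 = th ⟨g, hg⟩ := by
        rw [hgv, show v = B 0 by simp [hB], map_smul, Basis.repr_self]; simp
      have e2 : (B.repr (ρ g w)) 1 = th ⟨k⁻¹ * g * k, hg'⟩ := by
        rw [hgw, show w = B 1 by simp [hB], map_smul, Basis.repr_self]; simp
      have hterm : ∀ x : G, (if hx : x⁻¹ * g * x ∈ H then θ ⟨x⁻¹ * g * x, hx⟩ else 0) =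
          if x ∈ H then th ⟨g, hg⟩ else th ⟨k⁻¹ * g * k, hg'⟩ := by
        intro x
        have hxg : x⁻¹ * g * x ∈ H := by simpa using hHn.conj_mem _ hg x⁻¹
        rw [dif_pos hxg]
        have hconj : ∀ (y : H) (t : G) (ht : t ∈ H) (ht' : (y : G)⁻¹ * t * y ∈ H),
            θ ⟨_, ht'⟩ = θ ⟨t, ht⟩ := by
          intro y t ht ht'
          rw [show (⟨_, ht'⟩ : H) = y⁻¹ * ⟨t, ht⟩ * y from rfl, map_mul, map_mul, mul_comm,
            ← mul_assoc, ← map_mul, mul_inv_cancel, map_one, one_mul]
        split_ifs with hx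
        · exact hconj ⟨x, hx⟩ g hg hxg
        · have hy : k⁻¹ * x ∈ H := by
            rw [Subgroup.mul_mem_iff_of_index_two hs2]
            exact iff_of_false (fun h => hk (inv_mem_iff.mp h)) hx
          have := hconj ⟨k⁻¹ * x, hy⟩ (k⁻¹ * g * k) hg'
            (by simpa [mul_assoc] using hxg)
          refine Eq.trans (congrArg θ (Subtype.ext ?_)) this
          simp [mul_assoc]
      simp only [hterm]
      rw [htr, e1, e2, Finset.sum_ite, Finset.sum_const, Finset.sum_const, nsmul_eq_mul,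
        nsmul_eq_mul]
      have hc1 : (Finset.univ.filter fun x : G => x ∈ H).card = Nat.card H := by
        rw [← Fintype.card_subtype, ← Nat.card_eq_fintype_card]
      have hc2 : (Finset.univ.filter fun x : G => x ∉ H).card = Nat.card H := by
        have h := Finset.card_filter_add_card_filter_not (s := (Finset.univ : Finset G))
          (fun x => x ∈ H)
        rw [hc1, Finset.card_univ, ← Nat.card_eq_fintype_card, ← H.card_mul_index, hs2] at h
        omega
      rw [hc1, hc2, ← mul_add, inv_mul_cancel_left₀ (Induced.Basic.subgroup_card_ne_zero H)]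
    · rw [Finset.sum_eq_zero (fun x _ => dif_neg fun hx => hg (by
        simpa [mul_assoc] using hHn.conj_mem _ hx x)), mul_zero, htr]
      have hkg : k⁻¹ * g ∈ H := by
        rw [Subgroup.mul_mem_iff_of_index_two hs2]
        exact iff_of_false (fun h => hk (inv_mem_iff.mp h)) hg
      have hgk : g * k ∈ H := by
        rw [Subgroup.mul_mem_iff_of_index_two hs2]
        exact iff_of_false hg hk
      have hgv : ρ g v = th ⟨_, hkg⟩ • w := by
        rw [hw, ← map_smul, ← hth ⟨_, hkg⟩]
        simp only [← Module.End.mul_apply, ← map_mul, mul_inv_cancel_left]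
      have hgw : ρ g w = th ⟨_, hgk⟩ • v := by
        rw [← hth ⟨_, hgk⟩, hw, ← Module.End.mul_apply, ← map_mul]
      have e1 : (B.repr (ρ g v)) 0 = 0 := by
        rw [hgv, show w = B 1 by simp [hB], map_smul, Basis.repr_self]; simp
      have e2 : (B.repr (ρ g w)) 1 = 0 := by
        rw [hgw, show v = B 0 by simp [hB], map_smul, Basis.repr_self]; simp
      rw [e1, e2, add_zero]
  -- the arithmetic
  have hhalf : ∀ ω, 2 * s ω ≤ n := fun ω => by
    obtain ⟨t, ht⟩ := (hprop ω).2.1
    have : 2 ≤ t := by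
      have := (hprop ω).2.2
      rw [ht] at this
      rcases Nat.lt_or_ge t 2 with h | h
      · interval_cases t <;> omega
      · exact h
    rw [ht, mul_comm 2]
    exact Nat.mul_le_mul_left _ this
  have hup : 2 * ∑ ω, s ω ≤ Fintype.card Ω * n := by
    rw [Finset.mul_sum]
    exact (Finset.sum_le_sum fun ω _ => hhalf ω).trans (by simp)
  have hlow : 3 * Fintype.card Ω ≤ ∑ ω, s ω := by
    refine le_trans (by simp [mul_comm]) (Finset.sum_le_sum fun ω _ => (hprop ω).1)
  rw [hsum] at hup hlow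
  have hr4 : Fintype.card Ω < 4 := by
    by_contra h
    have h' := Nat.mul_le_mul_right n (Nat.le_of_not_lt h)
    omega
  have hr3 : Fintype.card Ω = 3 := by
    interval_cases hr : Fintype.card Ω <;> omega
  let e := (Fintype.equivFinOfCardEq hr3).symm
  have hsum3 : s (e 0) + s (e 1) + s (e 2) = n + 2 := by
    have h := e.sum_comp s
    rw [Fin.sum_univ_three, hsum] at h
    rw [hr3] at hburn
    omega
  have p0 := hprop (e 0)
  have p1 := hprop (e 1)
  have p2 := hprop (e 2)
  have key : ∀ x y z : ℕ, (3 ≤ x ∧ x ∣ n ∧ x < n) → (3 ≤ y ∧ y ∣ n ∧ y < n) →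
      (3 ≤ z ∧ z ∣ n ∧ z < n) → y ≤ x → z ≤ y → x + y + z = n + 2 →
      n = 12 ∨ n = 24 ∨ n = 60 := fun x y z hx hy hz h1 h2 h3 =>
    three_orbits hx.1 hy.1 hz.1 h1 h2 hx.2.1 hy.2.1 hz.2.1 hx.2.2 hy.2.2 hz.2.2 h3
  rcases le_total (s (e 1)) (s (e 0)) with h01 | h01 <;>
    rcases le_total (s (e 2)) (s (e 0)) with h02 | h02 <;>
    rcases le_total (s (e 2)) (s (e 1)) with h12 | h12
  all_goals first
    | exact key _ _ _ p0 p1 p2 (by omega) (by omega) (by omega)
    | exact key _ _ _ p0 p2 p1 (by omega) (by omega) (by omega)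
    | exact key _ _ _ p1 p0 p2 (by omega) (by omega) (by omega)
    | exact key _ _ _ p1 p2 p0 (by omega) (by omega) (by omega)
    | exact key _ _ _ p2 p0 p1 (by omega) (by omega) (by omega)
    | exact key _ _ _ p2 p1 p0 (by omega) (by omega) (by omega)

end Cfsg.Agent.Lib.BC77.PrimTwo
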