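import Cfsg.Agent.Lib.BrauerPairs.Bridge
import Cfsg.Agent.Lib.BrauerMap.PKernel
import Cfsg.Agent.Lib.BrauerMap.Nilpotent
import Cfsg.Agent.Lib.Blocks.DefectGroup

/-!
# Blocks of a quotient contained in a block of the group, and their defect groups
-/

set_option autoImplicit false
set_option linter.style.haveILetI false

namespace Cfsg.Agent.Lib.BC77.QuotientBlock

open MonoidAlgebra Cfsg.Agent.Lib.BrauerMap.Basic Cfsg.Agent.Lib.BrauerMap.ClassSum
open Cfsg.Agent.Lib.BrauerMap.Inflation (pushC push infl coe_pushC coeff_push omegaBar_infl)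
open Cfsg.Agent.Lib.Blocks (localRing residue omegaBar blockIdemBar)
open Cfsg.Agent.Lib.BrauerPairs.Bridge
open Cfsg.Agent.Lib.BrauerPairs.Center (ZAlg Blk bidem)

universe u

attribute [local instance] Ideal.Quotient.field

variable {G : Type u} [Group G] [Finite G] {H : Type u} [Group H] [Finite H]
variable {p : ℕ} [Fact p.Prime] {k : Type*} [Field k] [CharP k p]

theorem conj_inv_smul {K : Type*} [Group K] (u a : K) (h : u * a * u⁻¹ = a) : a * u = u * a := by
  conv_lhs => rw [← h]
  rw [inv_mul_cancel_right]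

/-- A coefficient of a product of central elements at a point centralised by a `p`-group. -/
theorem exists_coeff_centralizer {x y : ZAlg k H} {h : H} {D : Subgroup H} (hD : IsPGroup p D)
    (hle : D ≤ Subgroup.centralizer ({h} : Set H))
    (hne : (x.1 * y.1).coeff h ≠ 0) :
    ∃ a : H, a ∈ Subgroup.centralizer (D : Set H) ∧ x.1.coeff a ≠ 0 := by
  classical
  haveI := Fintype.ofFinite H
  letI : MulAction D H :=
    { smul := fun u a => (u : H) * a * (u : H)⁻¹
      one_smul := fun a => by show ((1 : D) : H) * a * ((1 : D) : H)⁻¹ = a; simp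
      mul_smul := fun u v a => by
        show ((u * v : D) : H) * a * ((u * v : D) : H)⁻¹ = (u : H) * ((v : H) * a * (v : H)⁻¹) * (u : H)⁻¹
        simp [mul_assoc] }
  by_contra hcon
  push Not at hcon
  apply hne
  rw [coeff_mul_sum, sum_eq_sum_fixed hD (fun a => x.1.coeff a * y.1.coeff (a⁻¹ * h)) ?_]
  · refine Finset.sum_eq_zero fun a ha => ?_
    have hfix := (Finset.mem_filter.mp ha).2
    rw [hcon a (Subgroup.mem_centralizer_iff.mpr fun u hu =>
      (conj_inv_smul u a (hfix ⟨u, hu⟩)).symm), zero_mul]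
  · intro u a
    show x.1.coeff ((u : H) * a * (u : H)⁻¹) * y.1.coeff (((u : H) * a * (u : H)⁻¹)⁻¹ * h) = _
    rw [(mem_center_iff_coeff _).1 x.2]
    congr 1
    have hu : (u : H) * h = h * (u : H) := Subgroup.mem_centralizer_singleton_iff.mp (hle u.2)
    rw [show ((u : H) * a * (u : H)⁻¹)⁻¹ * h = (u : H) * (a⁻¹ * h) * (u : H)⁻¹ by
      rw [eq_mul_inv_iff_mul_eq, mul_assoc _ h, ← hu]; simp [mul_assoc],
      (mem_center_iff_coeff _).1 y.2]

/-- A nonzero coefficient of the image lifts into the centralizer of a `p`-group. -/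
theorem exists_coeff_lift (f : G →* H) (hf : Function.Surjective f) {z : ZAlg k G} {b : H}
    {Q : Subgroup G} (hQ : IsPGroup p Q) (hb : ∀ u ∈ Q, f u * b = b * f u)
    (hne : (pushC k f hf z).1.coeff b ≠ 0) :
    ∃ a : G, f a = b ∧ a ∈ Subgroup.centralizer (Q : Set G) ∧ z.1.coeff a ≠ 0 := by
  classical
  haveI := Fintype.ofFinite G
  letI : MulAction Q G :=
    { smul := fun u a => (u : G) * a * (u : G)⁻¹
      one_smul := fun a => by show ((1 : Q) : G) * a * ((1 : Q) : G)⁻¹ = a; simp
      mul_smul := fun u v a => by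
        show ((u * v : Q) : G) * a * ((u * v : Q) : G)⁻¹ = (u : G) * ((v : G) * a * (v : G)⁻¹) * (u : G)⁻¹
        simp [mul_assoc] }
  by_contra hcon
  push Not at hcon
  apply hne
  rw [coe_pushC, coeff_push, sum_eq_sum_fixed hQ (fun a => if f a = b then z.1.coeff a else 0) ?_]
  · refine Finset.sum_eq_zero fun a ha => ?_
    have hfix := (Finset.mem_filter.mp ha).2
    split_ifs with hab
    · exact hcon a hab (Subgroup.mem_centralizer_iff.mpr fun u hu =>
        (conj_inv_smul u a (hfix ⟨u, hu⟩)).symm)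
    · rfl
  · intro u a
    show (if f ((u : G) * a * (u : G)⁻¹) = b then z.1.coeff ((u : G) * a * (u : G)⁻¹) else 0) = _
    rw [(mem_center_iff_coeff _).1 z.2]
    refine if_congr ?_ rfl rfl
    rw [map_mul, map_mul, map_inv, mul_inv_eq_iff_eq_mul, ← hb u u.2, mul_left_cancel_iff]

variable {M : Ideal Cfsg.AlgInt} [M.IsMaximal]

/-- If the inflations of a block of the quotient lie in `B`, each defect group of the former lies
in the image of a defect group of `B`. -/
theorem exists_defect_le (hM : Cfsg.IsPModular p M) (f : G →* H) (hf : Function.Surjective f)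
    {Bb : Set (Cfsg.IrrCharacter H)} (hBb : Cfsg.IsPBlock M Bb)
    {B : Set (Cfsg.IrrCharacter G)} (hB : Cfsg.IsPBlock M B)
    (hsub : ∀ χ ∈ Bb, infl f hf χ ∈ B) {D : Subgroup H}
    (hD : Cfsg.IsDefectGroup p M Bb D) :
    ∃ P : Subgroup G, Cfsg.IsDefectGroup p M B P ∧ D ≤ P.map f := by
  classical
  haveI := charP_res hM
  obtain ⟨χ, hχ⟩ := Blocks.isPBlock_nonempty hBb
  have hDp : IsPGroup p D := Blocks.isPGroup_isDefectGroup hD
  obtain ⟨g, hg, S, hS⟩ := hD
  set e : ZAlg (Res M) H := pushC (Res M) f hf (blockIdemBar hB) with he_def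
  have he : IsIdempotentElem e := by
    rw [he_def]
    exact IsIdempotentElem.map (Blocks.blockIdemBar_mul_self hB) _
  have h1 : blk hBb e = 1 := by
    rw [← blkOf_of_mem hBb hχ]
    show omegaBar M χ (pushC (Res M) f hf (blockIdemBar hB)) = 1
    rw [← AlgHom.comp_apply, ← omegaBar_infl, Blocks.omegaBar_blockIdemBar, if_pos (hsub χ hχ)]
  have hmul := BrauerPairs.Center.mul_idem_eq (blk hBb) he h1
  have hne : (e.1 * (BrauerPairs.Center.idem (blk hBb)).1).coeff g ≠ 0 := by
    rw [← MulMemClass.coe_mul, hmul]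
    exact ((isDefectClass_iff hBb g).mp hg).1
  have hDle : D ≤ Subgroup.centralizer ({g} : Set H) := hS ▸ Subgroup.map_subtype_le _
  obtain ⟨b, hbC, hb⟩ := exists_coeff_centralizer hDp hDle hne
  -- a p-subgroup covering D
  set X := D.comap f
  let f' : X →* D := (f.comp X.subtype).codRestrict D fun x => x.2
  have hf' : Function.Surjective f' := fun d => by
    obtain ⟨x, hx⟩ := hf d
    exact ⟨⟨x, show f x ∈ D from hx ▸ d.2⟩, Subtype.ext hx⟩
  obtain ⟨T⟩ : Nonempty (Sylow p X) := inferInstance
  set Q := (T : Subgroup X).map X.subtype with hQ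
  have hQD : ∀ d ∈ D, ∃ u ∈ Q, f u = d := by
    have hi : ((T : Subgroup X).map f').index = 1 := by
      have h1 := Subgroup.index_map_dvd (T : Subgroup X) hf'
      obtain ⟨n, hn⟩ := IsPGroup.iff_card.mp hDp
      have h2 : ((T : Subgroup X).map f').index ∣ p ^ n := hn ▸ Subgroup.index_dvd_card _
      obtain ⟨j, -, hj⟩ := (Nat.dvd_prime_pow (Fact.out : p.Prime)).mp h2
      rcases j with _ | j
      · simpa using hj
      · exact absurd ((dvd_pow_self p j.succ_ne_zero).trans (hj ▸ h1)) T.not_dvd_index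
    intro d hd
    have : (⟨d, hd⟩ : D) ∈ (T : Subgroup X).map f' := by
      rw [Subgroup.index_eq_one.mp hi]; exact Subgroup.mem_top _
    obtain ⟨u, hu, e⟩ := this
    exact ⟨u, ⟨u, hu, rfl⟩, congrArg Subtype.val e⟩
  have hQb : ∀ u ∈ Q, f u * b = b * f u := by
    rintro _ ⟨u, -, rfl⟩
    exact hbC (f u) u.2
  obtain ⟨a, -, haC, ha⟩ := exists_coeff_lift f hf (Q := Q) (T.2.map _) hQb hb
  have hh : ¬ Cfsg.MemLocalIdeal M (Cfsg.blockCoeff B a) := fun e => ha (by
    rw [blockIdemBar, Blocks.coeff_mapCenter]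
    exact Blocks.residue_eq_zero_iff.mpr (by rwa [Blocks.coe_coeff_blockIdemR]))
  obtain ⟨P, hP⟩ := Blocks.exists_isDefectGroup (p := p) hB
  obtain ⟨x, hx⟩ := Blocks.exists_conj_le_isDefectGroup hM hB hP hh (Q := Q) (T.2.map _)
    (fun u hu => Subgroup.mem_centralizer_singleton_iff.mpr
      ((Subgroup.mem_centralizer_iff.mp haC u hu)))
  refine ⟨P.map (MulAut.conj x⁻¹).toMonoidHom, ?_, fun d hd => ?_⟩
  · rw [isDefectGroup_iff hB] at hP ⊢
    exact BrauerPairs.Maximal.IsDef.map_conj hP _
  · obtain ⟨u, hu, rfl⟩ := hQD d hd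
    exact ⟨u, ⟨x * u * x⁻¹, hx ⟨u, hu, rfl⟩, by simp [mul_assoc]⟩, rfl⟩

/-- Conjugation commutes with taking images. -/
theorem map_map_conj (f : G →* H) (P : Subgroup G) (x : G) :
    (P.map (MulAut.conj x).toMonoidHom).map f = (P.map f).map (MulAut.conj (f x)).toMonoidHom := by
  rw [Subgroup.map_map, Subgroup.map_map]
  congr 1
  ext u
  simp

/-- A block containing no inflated block smaller in defect: for a `p`-kernel some block of the
quotient has the images of the defect groups of `B` as defect groups. -/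
theorem exists_block_image (hM : Cfsg.IsPModular p M) (f : G →* H) (hf : Function.Surjective f)
    (hker : IsPGroup p f.ker) {B : Set (Cfsg.IrrCharacter G)} (hB : Cfsg.IsPBlock M B) :
    ∃ Bb : Set (Cfsg.IrrCharacter H), Cfsg.IsPBlock M Bb ∧ (∀ χ ∈ Bb, infl f hf χ ∈ B) ∧
      ∀ D : Subgroup H, Cfsg.IsDefectGroup p M Bb D ↔
        ∃ P : Subgroup G, Cfsg.IsDefectGroup p M B P ∧ D = P.map f := by
  classical
  haveI := charP_res hM
  haveI := Fintype.ofFinite (Blk (Res M) H)
  obtain ⟨g, hg⟩ := Blocks.exists_isDefectClass hB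
  obtain ⟨S⟩ : Nonempty (Sylow p (Subgroup.centralizer ({g} : Set G))) := inferInstance
  set P := (S : Subgroup (Subgroup.centralizer ({g} : Set G))).map
    (Subgroup.centralizer ({g} : Set G)).subtype with hPdef
  have hP : Cfsg.IsDefectGroup p M B P := ⟨g, hg, S, rfl⟩
  have hPg : P ≤ Subgroup.centralizer ({g} : Set G) := Subgroup.map_subtype_le _
  have hreg := Blocks.not_dvd_orderOf_isDefectClass hM hB hg
  have hkg : f.ker ≤ Subgroup.centralizer ({g} : Set G) := by
    have h := ((isDefectClass_iff hB g).mp hg).2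
    have hC : g ∈ Subgroup.centralizer (f.ker : Set G) := by
      by_contra hn
      exact h (BrauerMap.Nilpotent.algHom_classSum_eq_zero hker hn _)
    exact fun u hu => Subgroup.mem_centralizer_singleton_iff.mpr
      (Subgroup.mem_centralizer_iff.mp hC u hu)
  have hkP : f.ker ≤ P := Blocks.normal_le_of_le_centralizer hker hkg S
  have hne : (pushC (Res M) f hf (blockIdemBar hB)).1.coeff (f g) ≠ 0 := by
    letI : MulAction P G :=
      { smul := fun u a => (u : G) * a * (u : G)⁻¹
        one_smul := fun a => by show ((1 : P) : G) * a * ((1 : P) : G)⁻¹ = a; simp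
        mul_smul := fun u v a => by
          show ((u * v : P) : G) * a * ((u * v : P) : G)⁻¹ = (u : G) * ((v : G) * a * (v : G)⁻¹) * (u : G)⁻¹
          simp [mul_assoc] }
    haveI := Fintype.ofFinite G
    have hPp : IsPGroup p P := S.2.map _
    rw [coe_pushC, coeff_push, sum_eq_sum_fixed hPp
      (fun a => if f a = f g then (blockIdemBar hB).1.coeff a else 0) ?_]
    · rw [Finset.sum_eq_single g]
      · rw [if_pos rfl]
        intro e
        refine hg.2.1 ?_
        rw [← Blocks.coe_coeff_blockIdemR hB]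
        rw [blockIdemBar, Blocks.coeff_mapCenter] at e
        exact Blocks.residue_eq_zero_iff.mp e
      · intro a ha hne
        split_ifs with hag
        · have hfix := (Finset.mem_filter.mp ha).2
          set n := g⁻¹ * a with hn
          have hnk : n ∈ f.ker := by
            rw [MonoidHom.mem_ker, hn, map_mul, map_inv, hag, inv_mul_cancel]
          have hcomm : Commute g n :=
            (Subgroup.mem_centralizer_singleton_iff.mp (hkg hnk)).symm
          have han : a = g * n := by rw [hn, mul_inv_cancel_left]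
          obtain ⟨j, hj⟩ := IsPGroup.iff_orderOf.mp hker ⟨n, hnk⟩
          rw [Subgroup.orderOf_mk] at hj
          have hj0 : j ≠ 0 := by
            rintro rfl
            rw [pow_zero, orderOf_eq_one_iff] at hj
            exact hne (by rw [han, hj, mul_one])
          have hdvd : p ∣ orderOf a := by
            rw [han, hcomm.orderOf_mul_eq_mul_orderOf_of_coprime (by
              rw [hj]; exact ((Fact.out : p.Prime).coprime_iff_not_dvd.mpr hreg).symm.pow_right j),
              hj]
            exact Dvd.dvd.mul_left (dvd_pow_self p hj0) _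
          rw [blockIdemBar, Blocks.coeff_mapCenter]
          refine Blocks.residue_eq_zero_iff.mpr ?_
          rw [Blocks.coe_coeff_blockIdemR, Blocks.blockCoeff_eq_zero_of_dvd hM hB hdvd]
          exact Blocks.memLocalIdeal_zero
        · rfl
      · intro h
        refine absurd (Finset.mem_filter.mpr ⟨Finset.mem_univ _, fun u => ?_⟩) h
        show (u : G) * g * (u : G)⁻¹ = g
        rw [Subgroup.mem_centralizer_singleton_iff.mp (hPg u.2), mul_inv_cancel_right]
    · intro u a
      show (if f ((u : G) * a * (u : G)⁻¹) = f g then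
        (blockIdemBar hB).1.coeff ((u : G) * a * (u : G)⁻¹) else 0) = _
      rw [(mem_center_iff_coeff _).1 (blockIdemBar hB).2]
      refine if_congr ?_ rfl rfl
      have hu : (u : G) * g = g * (u : G) := Subgroup.mem_centralizer_singleton_iff.mp (hPg u.2)
      rw [map_mul, map_mul, map_inv, mul_inv_eq_iff_eq_mul, ← map_mul f g, ← hu, map_mul,
        mul_left_cancel_iff]
  set e : ZAlg (Res M) H := pushC (Res M) f hf (blockIdemBar hB) with he_def
  have he : IsIdempotentElem e := by
    rw [he_def]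
    exact IsIdempotentElem.map (Blocks.blockIdemBar_mul_self hB) _
  rw [BrauerPairs.Center.eq_sum_idem (k := Res M) he, AddSubmonoidClass.coe_finsetSum, coeff_sum,
    Finsupp.finsetSum_apply] at hne
  obtain ⟨φ, hφ, hφg⟩ := Finset.exists_ne_zero_of_sum_ne_zero hne
  have hφ1 : φ e = 1 := (Finset.mem_filter.mp hφ).2
  have hsub : ∀ χ ∈ toSet φ, infl f hf χ ∈ B := by
    intro χ hχ
    rw [mem_toSet] at hχ
    rw [← hχ] at hφ1
    by_contra hn
    have : omegaBar M χ (pushC (Res M) f hf (blockIdemBar hB)) = 0 := by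
      rw [← AlgHom.comp_apply, ← omegaBar_infl, Blocks.omegaBar_blockIdemBar, if_neg hn]
    exact one_ne_zero ((hφ1.symm.trans this))
  refine ⟨toSet φ, isPBlock_toSet φ, hsub, ?_⟩
  have hBb : Cfsg.IsPBlock M (toSet φ) := isPBlock_toSet φ
  have hcoef : ¬ Cfsg.MemLocalIdeal M (Cfsg.blockCoeff (toSet φ) (f g)) := by
    rw [← coeff_bidem_ne_zero_iff hBb, blk_toSet]
    exact hφg
  have hcard : ∀ P' : Subgroup G, Cfsg.IsDefectGroup p M B P' →
      ∃ x : G, (P.map f).map (MulAut.conj (f x)).toMonoidHom = P'.map f := by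
    intro P' hP'
    obtain ⟨x, rfl⟩ := Blocks.isDefectGroup_conj hM hB hP hP'
    exact ⟨x, (map_map_conj f P x).symm⟩
  have hconjdef : ∀ (D : Subgroup H) (y : H), Cfsg.IsDefectGroup p M (toSet φ) D →
      Cfsg.IsDefectGroup p M (toSet φ) (D.map (MulAut.conj y).toMonoidHom) := fun D y hD => by
    rw [isDefectGroup_iff hBb] at hD ⊢
    exact BrauerPairs.Maximal.IsDef.map_conj hD y
  have hmain : ∀ D : Subgroup H, Cfsg.IsDefectGroup p M (toSet φ) D →
      ∃ y : H, (P.map f).map (MulAut.conj y).toMonoidHom = D := by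
    intro D hD
    obtain ⟨y, hy⟩ := Blocks.exists_conj_le_isDefectGroup hM hBb hD hcoef (Q := P.map f)
      ((S.2.map _).map f) (by
        rintro _ ⟨u, hu, rfl⟩
        rw [Subgroup.mem_centralizer_singleton_iff, ← map_mul, ← map_mul,
          Subgroup.mem_centralizer_singleton_iff.mp (hPg hu)])
    obtain ⟨P', hP', hle⟩ := exists_defect_le hM f hf hBb hB hsub hD
    obtain ⟨x, hx⟩ := hcard P' hP'
    refine ⟨y, Subgroup.eq_of_le_of_card_ge hy ?_⟩
    calc Nat.card D ≤ Nat.card (P'.map f) := Subgroup.card_le_of_le hle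
      _ = Nat.card ((P.map f).map (MulAut.conj y).toMonoidHom) := by
        rw [← hx, Blocks.card_map_conj, Blocks.card_map_conj]
  intro D
  constructor
  · intro hD
    obtain ⟨y, hy⟩ := hmain D hD
    obtain ⟨x, rfl⟩ := hf y
    refine ⟨P.map (MulAut.conj x).toMonoidHom, ?_, by rw [map_map_conj, hy]⟩
    rw [isDefectGroup_iff hB] at hP ⊢
    exact BrauerPairs.Maximal.IsDef.map_conj hP _
  · rintro ⟨P', hP', rfl⟩
    obtain ⟨D₀, hD₀⟩ := Blocks.exists_isDefectGroup (p := p) hBb
    obtain ⟨y, hy⟩ := hmain D₀ hD₀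
    obtain ⟨x, hx⟩ := hcard P' hP'
    have hback : D₀.map (MulAut.conj (f x * y⁻¹)).toMonoidHom = P'.map f := by
      rw [← hy, BrauerPairs.Maximal.map_conj_map_conj, inv_mul_cancel_right, hx]
    exact hback ▸ hconjdef D₀ _ hD₀

end Cfsg.Agent.Lib.BC77.QuotientBlock
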