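import Cfsg.Agent.Lib.BrauerPairs.Bridge
import Cfsg.Agent.Lib.BrauerMap.PKernel
import Cfsg.Agent.Lib.Blocks.ContribBound
import Cfsg.Agent.Lib.Characters.Indicator
import Cfsg.Agent.Lib.Characters.Linear

/-!
# Self-conjugate 2-blocks of full defect are principal
-/

set_option autoImplicit false
set_option linter.style.haveILetI false

namespace Cfsg.Agent.Lib.BC77.RealBlock

open MonoidAlgebra Cfsg.Agent.Lib.BrauerMap.Basic Cfsg.Agent.Lib.BrauerMap.ClassSum
open Cfsg.Agent.Lib.Blocks (localRing residue omegaBar ccR omegaR)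
open Cfsg.Agent.Lib.BrauerPairs.Center Cfsg.Agent.Lib.BrauerPairs.Trunc
open Cfsg.Agent.Lib.BrauerPairs.Conj Cfsg.Agent.Lib.BrauerPairs.Pairs
open Cfsg.Agent.Lib.BrauerPairs.Transport Cfsg.Agent.Lib.BrauerPairs.Maximal
open Cfsg.Agent.Lib.BrauerPairs.Principal Cfsg.Agent.Lib.BrauerPairs.Bridge
open Cfsg.Agent.Lib.Characters
open scoped ComplexConjugate

universe u v

attribute [local instance] Ideal.Quotient.field

section Alg

variable {k : Type v} [Field k] {H : Type u} [Group H] [Finite H]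

/-- The function `g ↦ z(g⁻¹)` as a central element. -/
noncomputable def starZ (z : ZAlg k H) : ZAlg k H :=
  Cfsg.Agent.Lib.Blocks.ofClassFun (fun g => (z : MonoidAlgebra k H).coeff g⁻¹) fun u g => by
    rw [show (u * g * u⁻¹)⁻¹ = u * g⁻¹ * u⁻¹ by simp [mul_assoc]]
    exact (mem_center_iff_coeff _).1 z.2 u g⁻¹

theorem coeff_starZ (z : ZAlg k H) (g : H) :
    (starZ z : MonoidAlgebra k H).coeff g = (z : MonoidAlgebra k H).coeff g⁻¹ :=
  Cfsg.Agent.Lib.Blocks.coeff_ofClassFun _ _ g

/-- Inversion of group elements on the centre of the group algebra. -/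
noncomputable def starHom : ZAlg k H →ₐ[k] ZAlg k H :=
  AlgHom.ofLinearMap
    { toFun := starZ
      map_add' := fun a b => Subtype.ext (MonoidAlgebra.ext (Finsupp.ext fun g => by
        simp [coeff_starZ]))
      map_smul' := fun r a => Subtype.ext (MonoidAlgebra.ext (Finsupp.ext fun g => by
        simp [coeff_starZ])) }
    (Subtype.ext (MonoidAlgebra.ext (Finsupp.ext fun g => by
      classical
      show (starZ (1 : ZAlg k H) : MonoidAlgebra k H).coeff g = _
      rw [coeff_starZ]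
      simp [MonoidAlgebra.one_def, Finsupp.single_apply, eq_comm])))
    (fun a b => Subtype.ext (MonoidAlgebra.ext (Finsupp.ext fun g => by
      classical
      haveI := Fintype.ofFinite H
      show (starZ (a * b) : MonoidAlgebra k H).coeff g =
        ((starZ a : MonoidAlgebra k H) * (starZ b : MonoidAlgebra k H)).coeff g
      rw [coeff_starZ, MulMemClass.coe_mul, coeff_mul_sum, coeff_mul_sum]
      refine Fintype.sum_equiv (Equiv.inv H) _ _ fun h => ?_
      rw [coeff_starZ, coeff_starZ, Equiv.inv_apply, inv_inv]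
      congr 1
      have := (mem_center_iff_coeff _).1 b.2 h (h⁻¹ * g⁻¹)
      simp only [mul_inv_cancel_left] at this
      rw [← this, mul_inv_rev])))

theorem coe_starHom (z : ZAlg k H) (g : H) :
    (starHom z : MonoidAlgebra k H).coeff g = (z : MonoidAlgebra k H).coeff g⁻¹ :=
  coeff_starZ z g

theorem starHom_starHom (z : ZAlg k H) : starHom (starHom z) = z :=
  Subtype.ext (MonoidAlgebra.ext (Finsupp.ext fun g => by rw [coe_starHom, coe_starHom, inv_inv]))

/-- The block obtained by inverting group elements. -/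
noncomputable def sBlk (ω : Blk k H) : Blk k H := ω.comp starHom

theorem sBlk_sBlk (ω : Blk k H) : sBlk (sBlk ω) = ω := AlgHom.ext fun z => by
  show ω (starHom (starHom z)) = ω z
  rw [starHom_starHom]

theorem starHom_classSumC (g : H) : starHom (classSumC k g) = classSumC k g⁻¹ := by
  classical
  refine Subtype.ext (MonoidAlgebra.ext (Finsupp.ext fun h => ?_))
  rw [coe_starHom]
  show (classSum k g).coeff h⁻¹ = (classSum k g⁻¹).coeff h
  rw [coeff_classSum, coeff_classSum]
  refine if_congr ?_ rfl rfl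
  rw [isConj_iff, isConj_iff]
  constructor
  · rintro ⟨c, hc⟩; exact ⟨c, by rw [← conj_inv, hc, inv_inv]⟩
  · rintro ⟨c, hc⟩; exact ⟨c, by rw [← hc, conj_inv, inv_inv]⟩

end Alg

section Pairs

variable {k : Type v} [Field k] [IsAlgClosed k] {G : Type u} [Group G] [Finite G]
variable {p : ℕ} [Fact p.Prime] [CharP k p]

theorem pairOf_sBlk {ψ : Blk k G} {Q : Subgroup G}
    {ω : Blk k (Subgroup.centralizer (Q : Set G))} (h : PairOf p ψ (⟨Q, ω⟩ : Idx k G)) :
    PairOf p (sBlk ψ) (⟨Q, sBlk ω⟩ : Idx k G) := by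
  refine pairOf_iff.mpr ⟨h.1, AlgHom.ext fun z => ?_⟩
  rw [pairBlk_apply]
  show val Q (sBlk ω) _ = ψ (starHom z)
  rw [← h.apply_eq, val_eq _ (isFixedBy_of_mem_center _ z.2),
    val_eq _ (isFixedBy_of_mem_center _ (starHom z).2)]
  show ω (starHom _) = ω _
  refine congrArg ω (Subtype.ext (MonoidAlgebra.ext (Finsupp.ext fun c => ?_)))
  rw [coe_starHom]
  show (br Q (z : MonoidAlgebra k G)).coeff c⁻¹ = (br Q (starHom z : MonoidAlgebra k G)).coeff c
  rw [coeff_br, coeff_br, coe_starHom, Subgroup.coe_inv]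

omit [Fact p.Prime] [CharP k p] in
theorem act_sBlk (Q : Subgroup G) {x : G} (hx : x ∈ Subgroup.normalizer (Q : Set G))
    (ω : Blk k (Subgroup.centralizer (Q : Set G))) :
    act Q hx (sBlk ω) = sBlk (act Q hx ω) := by
  refine AlgHom.ext fun z => ?_
  show ω (starHom (zMap _ z)) = ω (zMap _ (starHom z))
  refine congrArg ω (Subtype.ext (MonoidAlgebra.ext (Finsupp.ext fun c => ?_)))
  rw [coe_starHom, coe_zMap, coe_zMap]
  simp [coe_starHom, map_inv]

omit [Fact p.Prime] [CharP k p] in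
theorem cPair_eq_act (Q : Subgroup G) {x : G} (hx : x ∈ Subgroup.normalizer (Q : Set G))
    (ω : Blk k (Subgroup.centralizer (Q : Set G))) :
    cPair x (⟨Q, ω⟩ : Idx k G) = ⟨Q, act Q hx ω⟩ :=
  sigma_ext_of_bext (map_conj_eq_of_mem hx) (by rw [bext_cPair, bext_act])

omit [Fact p.Prime] [CharP k p] in
theorem act_of_mem {Q : Subgroup G} {x : G} (hxQ : x ∈ Q)
    (hx : x ∈ Subgroup.normalizer (Q : Set G)) (ω : Blk k (Subgroup.centralizer (Q : Set G))) :
    act Q hx ω = ω := by
  refine AlgHom.ext fun z => ?_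
  show ω (zMap _ z) = ω z
  refine congrArg ω (Subtype.ext ?_)
  rw [coe_zMap]
  have e : (conjEquiv x (Subgroup.centralizer (Q : Set G)) (Subgroup.centralizer (Q : Set G))
      (mem_centralizer_conj_iff hx)).symm = MulEquiv.refl _ := by
    refine MulEquiv.ext fun c => Subtype.ext ?_
    show x⁻¹ * (c : G) * x = (c : G)
    rw [mul_assoc, ← c.2 x hxQ, inv_mul_cancel_left]
  rw [e]
  simp

/-- A maximal pair on a Sylow subgroup of a self-conjugate block can be chosen self-conjugate. -/
theorem exists_fixed_pair [Fact (Nat.Prime 2)] [CharP k 2] {ψ : Blk k G} (hψ : sBlk ψ = ψ)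
    (P : Sylow 2 G) (hD : IsDef 2 ψ (P : Subgroup G)) :
    ∃ ω : Blk k (Subgroup.centralizer ((P : Subgroup G) : Set G)),
      PairOf 2 ψ (⟨(P : Subgroup G), ω⟩ : Idx k G) ∧ sBlk ω = ω := by
  classical
  obtain ⟨ω₀, hω₀⟩ := exists_pairOf_isDef hD
  have htop := top_of_isDef hω₀ hD
  let N : Subgroup G := Subgroup.normalizer ((P : Subgroup G) : Set G)
  letI : MulAction N (Blk k (Subgroup.centralizer ((P : Subgroup G) : Set G))) :=
    blkAction (P : Subgroup G) N le_rfl
  have hmem : ∀ ν : Blk k (Subgroup.centralizer ((P : Subgroup G) : Set G)),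
      ν ∈ MulAction.orbit N ω₀ ↔ PairOf 2 ψ (⟨(P : Subgroup G), ν⟩ : Idx k G) := by
    intro ν
    constructor
    · rintro ⟨x, rfl⟩
      show PairOf 2 ψ (⟨(P : Subgroup G), act (P : Subgroup G) x.2 ω₀⟩ : Idx k G)
      rw [← cPair_eq_act (P : Subgroup G) x.2]
      exact pairOf_cPair hω₀ _
    · intro hν
      obtain ⟨x, hx, he⟩ := (top_key htop hω₀).2 ν hν
      refine ⟨⟨x, hx⟩, ?_⟩
      rw [cPair_eq_act (P : Subgroup G) hx] at he
      exact eq_of_heq (Sigma.mk.inj_iff.mp he).2
  have hodd : ¬ 2 ∣ (MulAction.orbit N ω₀).ncard := by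
    rw [← MulAction.index_stabilizer]
    intro h2
    have hPN : (P : Subgroup G) ≤ N := Subgroup.le_normalizer
    have hle : (P : Subgroup G).subgroupOf N ≤ MulAction.stabilizer N ω₀ := fun x hx =>
      act_of_mem (Subgroup.mem_subgroupOf.mp hx) x.2 ω₀
    exact P.not_dvd_index
      ((h2.trans (Subgroup.index_dvd_of_le hle)).trans (Subgroup.relIndex_dvd_index_of_le hPN))
  have hclosed : ∀ ν ∈ MulAction.orbit N ω₀, sBlk ν ∈ MulAction.orbit N ω₀ := fun ν hν => by
    rw [hmem] at hν ⊢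
    have := pairOf_sBlk hν
    rwa [hψ] at this
  let σ : Equiv.Perm (MulAction.orbit N ω₀) :=
    Function.Involutive.toPerm (fun ν => ⟨sBlk ν.1, hclosed _ ν.2⟩)
      (fun ν => Subtype.ext (sBlk_sBlk ν.1))
  haveI : Finite (MulAction.orbit N ω₀) := Finite.Set.subset Set.univ (Set.subset_univ _)
  haveI := Fintype.ofFinite (MulAction.orbit N ω₀)
  obtain ⟨ν, hν⟩ := Equiv.Perm.exists_fixed_point_of_prime (p := 2) (n := 1) (σ := σ)
    (by rwa [← Nat.card_eq_fintype_card, Nat.card_coe_set_eq]) (by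
      refine Equiv.ext fun ν => Subtype.ext ?_
      rw [pow_one, pow_two, Equiv.Perm.mul_apply]
      exact sBlk_sBlk ν.1)
  exact ⟨ν.1, (hmem _).mp ν.2, congrArg Subtype.val hν⟩

end Pairs

section Main

variable {M : Ideal Cfsg.AlgInt} [M.IsMaximal] {G : Type u} [Group G] [Finite G]

theorem blkOf_conjChar (χ : Cfsg.IrrCharacter G) :
    blkOf M (Linear.conjChar χ) = sBlk (blkOf M χ) := by
  refine algHom_ext fun g => ?_
  show _ = blkOf M χ (starHom (classSumC _ g))
  rw [starHom_classSumC, blkOf_classSumC, blkOf_classSumC]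
  refine congrArg (residue M) (Subtype.ext ?_)
  show Cfsg.centralChar (Linear.conjChar χ : G → ℂ) g = Cfsg.centralChar (χ : G → ℂ) g⁻¹
  have hc : Subgroup.centralizer ({g⁻¹} : Set G) = Subgroup.centralizer ({g} : Set G) := by
    ext x
    rw [Subgroup.mem_centralizer_singleton_iff, Subgroup.mem_centralizer_singleton_iff]
    exact ⟨fun h => Commute.inv_right_iff.mp h, fun h => Commute.inv_right h⟩
  simp only [Cfsg.centralChar, Linear.conjChar_apply, hc]
  rw [Basic.apply_inv (Basic.isCharacter_irr χ), Basic.conj_apply_one (Basic.isCharacter_irr χ)]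

/-- A self-conjugate block of a group with odd `2`-part trivial contains the trivial character. -/
theorem eq_oneChar_of_sameBlock_conj (hM : Cfsg.IsPModular 2 M) (hodd : Odd (Nat.card G))
    (ξ : Cfsg.IrrCharacter G) (h : blkOf M (Linear.conjChar ξ) = blkOf M ξ) :
    ξ = Basic.oneChar G := by
  haveI : Fact (Nat.Prime 2) := ⟨Nat.prime_two⟩
  have hB := isPBlock_toSet (blkOf M ξ)
  have hb := Cfsg.Agent.Lib.Blocks.Contrib.four_mul_card_le (p := 2) hM hB
  have hd : Cfsg.blockDefect 2 (toSet (blkOf M ξ)) = 0 := by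
    have h0 : (Nat.card G).factorization 2 = 0 :=
      Nat.factorization_eq_zero_of_not_dvd (Nat.two_dvd_ne_zero.mpr (Nat.odd_iff.mp hodd))
    rw [Cfsg.blockDefect, h0, Nat.zero_sub]
  rw [hd, mul_zero, pow_zero] at hb
  have hsub : (toSet (blkOf M ξ)).Subsingleton := by
    have hle : (toSet (blkOf M ξ)).ncard ≤ 1 := by rw [← Nat.card_coe_set_eq]; omega
    exact Set.ncard_le_one_iff_subsingleton.mp hle
  have he : Linear.conjChar ξ = ξ := hsub h rfl
  exact Indicator.eq_oneChar_of_real hodd ξ ((Indicator.conjChar_eq_self_iff ξ).mp he)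

omit [M.IsMaximal] in
theorem two_dvd_not_quot {P : Sylow 2 G} (Z : Subgroup (Subgroup.centralizer ((P : Subgroup G) : Set G)))
    [Z.Normal] (hZ : Z = (P : Subgroup G).subgroupOf _) :
    Odd (Nat.card (Subgroup.centralizer ((P : Subgroup G) : Set G) ⧸ Z)) := by
  classical
  haveI : Fact (Nat.Prime 2) := ⟨Nat.prime_two⟩
  rw [Nat.odd_iff, ← Nat.two_dvd_ne_zero]
  intro h2
  obtain ⟨q, hq⟩ := exists_prime_orderOf_dvd_card' 2 h2
  obtain ⟨c, rfl⟩ := QuotientGroup.mk_surjective q
  obtain ⟨a, m, hm, hcm⟩ :=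
    Nat.exists_eq_two_pow_mul_odd (orderOf_pos (c : G)).ne'
  have hpc : IsPGroup 2 (Subgroup.zpowers ((c : G) ^ m)) := by
    apply IsPGroup.of_card (n := a)
    rw [Nat.card_zpowers, orderOf_pow' _ hm.pos.ne', hcm]
    rw [Nat.gcd_eq_right (Dvd.intro_left _ rfl), Nat.mul_div_cancel _ hm.pos]
  have hnorm : Subgroup.zpowers ((c : G) ^ m) ≤ Subgroup.normalizer ((P : Subgroup G) : Set G) :=
    Subgroup.zpowers_le.mpr (Subgroup.centralizer_le_normalizer _ (pow_mem c.2 m))
  have hsup : IsPGroup 2 ((Subgroup.zpowers ((c : G) ^ m)) ⊔ (P : Subgroup G) : Subgroup G) :=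
    IsPGroup.to_sup_of_normal_right' hpc P.2 hnorm
  have hmemP : (c : G) ^ m ∈ (P : Subgroup G) := by
    exact (P.3 hsup le_sup_right).le (Subgroup.mem_sup_left (Subgroup.mem_zpowers _))
  have hcZ : (QuotientGroup.mk c : _ ⧸ Z) ^ m = 1 := by
    rw [← QuotientGroup.mk_pow, QuotientGroup.eq_one_iff, hZ, Subgroup.mem_subgroupOf]
    simpa using hmemP
  exact (Nat.two_dvd_ne_zero.mpr (Nat.odd_iff.mp hm)) (hq ▸ orderOf_dvd_of_pow_eq_one hcZ)

/-- For a central subgroup of odd index, inflation reflects equality of blocks. -/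
theorem blkOf_eq_of_infl {C : Type u} [Group C] [Finite C] (hM : Cfsg.IsPModular 2 M)
    (Z : Subgroup C) [Z.Normal] (hZ : ∀ z ∈ Z, ∀ g : C, g * z = z * g)
    (hodd : Odd (Nat.card (C ⧸ Z))) {η η' : Cfsg.IrrCharacter (C ⧸ Z)}
    (h : blkOf M (BrauerMap.Inflation.infl (QuotientGroup.mk' Z) (QuotientGroup.mk'_surjective Z) η) =
      blkOf M (BrauerMap.Inflation.infl (QuotientGroup.mk' Z) (QuotientGroup.mk'_surjective Z) η')) :
    blkOf M η = blkOf M η' := by
  refine algHom_ext fun q => ?_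
  obtain ⟨c, rfl⟩ := QuotientGroup.mk_surjective q
  have hc := congrArg (fun ψ : Blk (Res M) C => ψ (classSumC (Res M) c)) h
  simp only [blkOf_classSumC] at hc
  rw [blkOf_classSumC, blkOf_classSumC]
  haveI := charP_res hM
  set i := (Subgroup.centralizer ({c} : Set C)).index with hi
  set j := (Subgroup.centralizer ({(c : C ⧸ Z)} : Set (C ⧸ Z))).index with hj
  have key : ∀ ζ : Cfsg.IrrCharacter (C ⧸ Z),
      residue M (ccR M ζ (c : C ⧸ Z)) * (i : Res M) =
      residue M (ccR M (BrauerMap.Inflation.infl (QuotientGroup.mk' Z)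
        (QuotientGroup.mk'_surjective Z) ζ) c) * (j : Res M) := by
    intro ζ
    rw [← map_natCast (residue M) i, ← map_natCast (residue M) j, ← map_mul, ← map_mul]
    refine congrArg (residue M) (Subtype.ext ?_)
    show Cfsg.centralChar (ζ : C ⧸ Z → ℂ) (c : C ⧸ Z) * (i : ℂ) =
      Cfsg.centralChar (fun g : C => (ζ : C ⧸ Z → ℂ) (g : C ⧸ Z)) c * (j : ℂ)
    simp only [Cfsg.centralChar, ← hi, ← hj, QuotientGroup.mk_one]
    ring
  have hi0 : (i : Res M) ≠ 0 := by
    intro e
    rw [CharP.cast_eq_zero_iff (Res M) 2] at e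
    have hle : Z ≤ Subgroup.centralizer ({c} : Set C) := fun z hz =>
      Subgroup.mem_centralizer_singleton_iff.mpr (hZ z hz c).symm
    exact Nat.two_dvd_ne_zero.mpr (Nat.odd_iff.mp hodd) (e.trans (Subgroup.index_dvd_of_le hle))
  have h1 := key η
  rw [hc, ← key η'] at h1
  exact mul_right_cancel₀ hi0 h1

/-- A self-conjugate block whose defect groups are Sylow `2`-subgroups is principal. -/
theorem eq_principal_of_self_conj (hM : Cfsg.IsPModular 2 M) {B : Set (Cfsg.IrrCharacter G)}
    (hB : Cfsg.IsPBlock M B) (P : Sylow 2 G)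
    (hfull : Cfsg.IsDefectGroup 2 M B (P : Subgroup G))
    (hreal : ∃ χ ∈ B, Linear.conjChar χ ∈ B) : B = Cfsg.principalBlock M G := by
  classical
  haveI : Fact (Nat.Prime 2) := ⟨Nat.prime_two⟩
  haveI := charP_res hM
  obtain ⟨χ, hχ, hχ'⟩ := hreal
  have hs : sBlk (blk hB) = blk hB := by
    rw [← blkOf_of_mem hB hχ, ← blkOf_conjChar, blkOf_of_mem hB hχ', blkOf_of_mem hB hχ]
  obtain ⟨ω, hω, hfix⟩ := exists_fixed_pair hs P ((isDefectGroup_iff hB _).mp hfull)
  have hω1 : ω = princ (Res M) _ := by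
    let Z := (P : Subgroup G).subgroupOf (Subgroup.centralizer ((P : Subgroup G) : Set G))
    haveI : Z.Normal := ⟨fun z hz g => by
      have hc : g * z * g⁻¹ = z := by
        refine Subtype.ext ?_
        have := g.2 (z : G) (Subgroup.mem_subgroupOf.mp hz)
        simp only [Subgroup.coe_mul, Subgroup.coe_inv]
        rw [← this, mul_inv_cancel_right]
      rw [hc]; exact hz⟩
    have hker : IsPGroup 2 (QuotientGroup.mk' Z).ker := by
      rw [QuotientGroup.ker_mk']
      exact P.2.comap_of_injective _ (Subgroup.subtype_injective _)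
    obtain ⟨ξ, hξ⟩ := BrauerMap.PKernel.exists_infl_mem hM (QuotientGroup.mk' Z)
      (QuotientGroup.mk'_surjective Z) hker (isPBlock_toSet ω)
    rw [mem_toSet] at hξ
    have h1 : blkOf M (BrauerMap.Inflation.infl (QuotientGroup.mk' Z)
        (QuotientGroup.mk'_surjective Z) (Linear.conjChar ξ)) = ω := by
      have e : BrauerMap.Inflation.infl (QuotientGroup.mk' Z)
          (QuotientGroup.mk'_surjective Z) (Linear.conjChar ξ) =
          Linear.conjChar (BrauerMap.Inflation.infl (QuotientGroup.mk' Z)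
            (QuotientGroup.mk'_surjective Z) ξ) := Subtype.ext (funext fun g => rfl)
      rw [e, blkOf_conjChar, hξ, hfix]
    have hodd := two_dvd_not_quot Z rfl
    have h2 : blkOf M (Linear.conjChar ξ) = blkOf M ξ :=
      blkOf_eq_of_infl hM Z (fun z hz => by
        intro g
        refine Subtype.ext ?_
        exact (g.2 (z : G) (Subgroup.mem_subgroupOf.mp hz)).symm) hodd (h1.trans hξ.symm)
    rw [eq_oneChar_of_sameBlock_conj hM hodd ξ h2] at hξ
    rw [← hξ, show BrauerMap.Inflation.infl (QuotientGroup.mk' Z) (QuotientGroup.mk'_surjective Z)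
      (Basic.oneChar _) = Basic.oneChar _ from Subtype.ext (funext fun g => rfl), blkOf_oneChar]
  have hp := hω1 ▸ hω
  have := (existsUnique_pairOf (⟨(P : Subgroup G), princ (Res M) _⟩ : Idx (Res M) G) P.2).unique hp
    (pairOf_princ P.2)
  rw [← toSet_blk hB, this, ← blk_principalBlock, toSet_blk]

end Main

end Cfsg.Agent.Lib.BC77.RealBlock
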