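import Cfsg.Agent.Lib.Characters.Indicator
import Cfsg.Agent.Lib.Clifford.Rep
import Mathlib.Algebra.Polynomial.Roots

/-!
# Invariant bilinear forms and real forms of irreducible representations
-/

set_option autoImplicit false

namespace Cfsg.Agent.Lib.BC77.RealForm

open Matrix Representation
open scoped Kronecker ComplexConjugate
open Cfsg.Agent.Lib.Induced.Basic Cfsg.Agent.Lib.Characters

universe u

variable {G : Type u} [Group G] {n : ℕ} (ρ : Representation ℂ G (Fin n → ℂ))

/-- The matrices of a representation. -/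
noncomputable def mat : G →* Matrix (Fin n) (Fin n) ℂ :=
  (LinearMap.toMatrixAlgEquiv' (R := ℂ) (n := Fin n)).toAlgHom.toMonoidHom.comp ρ

theorem mat_apply (g : G) : mat ρ g = LinearMap.toMatrix' (ρ g) := rfl

theorem toLin'_mat (g : G) : Matrix.toLin' (mat ρ g) = ρ g := by
  rw [mat_apply, Matrix.toLin'_toMatrix']

theorem char_eq_trace (g : G) : ρ.character g = (mat ρ g).trace :=
  LinearMap.trace_eq_matrix_trace ℂ (Pi.basisFun ℂ (Fin n)) (ρ g)

/-- Invariant bilinear forms. -/
def IsInv (M : Matrix (Fin n) (Fin n) ℂ) : Prop :=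
  ∀ g : G, (mat ρ g)ᵀ * M * mat ρ g = M

/-- The Frobenius-Schur indicator. -/
noncomputable def ind [Fintype G] : ℂ := (Nat.card G : ℂ)⁻¹ * ∑ s : G, ρ.character (s * s)

/-- Invariant forms of a real irreducible character: existence, symmetry given by the indicator. -/
theorem exists_form [Fintype G] [ρ.IsIrreducible] (hreal : ∀ g : G, (ρ.character g).im = 0) :
    (∃ M, M ≠ 0 ∧ IsInv ρ M) ∧ ∀ M, IsInv ρ M → Mᵀ = ind ρ • M := by
  classical
  set P : Matrix (Fin n × Fin n) (Fin n × Fin n) ℂ :=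
    (Nat.card G : ℂ)⁻¹ • ∑ g : G, mat ρ g ⊗ₖ mat ρ g with hP
  have hcard : (Nat.card G : ℂ) ≠ 0 := natCard_ne_zero
  have hfix : ∀ g : G, P * (mat ρ g ⊗ₖ mat ρ g) = P := by
    intro g
    rw [hP, smul_mul_assoc, Finset.sum_mul]
    congr 1
    exact Fintype.sum_equiv (Equiv.mulRight g) _ _ fun h => by simp [← Matrix.mul_kronecker_mul]
  have hidem : P * P = P := by
    nth_rewrite 2 [hP]
    rw [mul_smul_comm, Finset.mul_sum, Finset.sum_congr rfl fun g _ => hfix g, Finset.sum_const,
      Finset.card_univ, ← Nat.cast_smul_eq_nsmul ℂ, smul_smul, Fintype.card_eq_nat_card,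
      inv_mul_cancel₀ hcard, one_smul]
  have htr : P.trace = 1 := by
    rw [← Basic.classInner_self_irr (Basic.irrChar ρ), Basic.coe_irrChar, Cfsg.classInner, hP,
      Matrix.trace_smul, Matrix.trace_sum, smul_eq_mul]
    congr 1
    refine Finset.sum_congr rfl fun g _ => ?_
    rw [Matrix.trace_kronecker, ← char_eq_trace, Complex.conj_eq_iff_im.2 (hreal g)]
  obtain ⟨u, v, huv⟩ := (Indicator.rank_one_of_idempotent P hidem).2 htr
  have huv1 : ∑ a, u a * v a = 1 := by
    rw [← htr, Matrix.trace]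
    exact Finset.sum_congr rfl fun a _ => (huv a a).symm
  have hswap : ∑ a, P a a.swap = ind ρ := by
    simp only [ind, hP, Matrix.smul_apply, Matrix.sum_apply, smul_eq_mul, ← Finset.mul_sum]
    rw [Finset.sum_comm]
    congr 1
    refine Finset.sum_congr rfl fun g _ => ?_
    rw [char_eq_trace, map_mul, Matrix.trace, Fintype.sum_prod_type]
    simp [Matrix.kronecker_apply, Matrix.mul_apply]
  have hsP : ∀ a b, P a.swap b.swap = P a b := by
    intro a b
    simp [hP, Matrix.sum_apply, Matrix.kronecker_apply, mul_comm]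
  have hvswap : ∀ b, v b.swap = ind ρ * v b := by
    intro b
    rw [← hswap, Finset.sum_mul]
    have h : ∀ a, P a a.swap * v b = v b.swap * (u a.swap * v a.swap) := fun a => by
      have h1 := hsP a b
      rw [huv, huv] at h1
      rw [huv]
      linear_combination (-v a.swap) * h1
    rw [Finset.sum_congr rfl fun a _ => h a, ← Finset.mul_sum,
      Fintype.sum_equiv (Equiv.prodComm _ _) (fun a => u a.swap * v a.swap) (fun a => u a * v a)
        (fun a => rfl), huv1, mul_one]
  have hvfix : ∀ (g : G) b, ∑ a, v a * (mat ρ g ⊗ₖ mat ρ g) a b = v b := by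
    intro g b
    obtain ⟨a, -, ha⟩ : ∃ a ∈ Finset.univ, u a * v a ≠ 0 :=
      Finset.exists_ne_zero_of_sum_ne_zero (by rw [huv1]; exact one_ne_zero)
    refine mul_left_cancel₀ (left_ne_zero_of_mul ha) ?_
    have h := congrFun (congrFun (hfix g) a) b
    rw [Matrix.mul_apply, huv] at h
    rw [Finset.mul_sum, ← h]
    exact Finset.sum_congr rfl fun c _ => by rw [huv, mul_assoc]
  have hentry : ∀ (g : G) (M : Matrix (Fin n) (Fin n) ℂ) (i j : Fin n),
      ((mat ρ g)ᵀ * M * mat ρ g) i j =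
        ∑ a : Fin n × Fin n, M a.1 a.2 * (mat ρ g ⊗ₖ mat ρ g) a (i, j) := by
    intro g M i j
    simp only [Matrix.mul_apply, Matrix.transpose_apply, Matrix.kronecker_apply,
      Fintype.sum_prod_type, Finset.sum_mul]
    rw [Finset.sum_comm]
    exact Finset.sum_congr rfl fun k _ => Finset.sum_congr rfl fun l _ => by ring
  refine ⟨⟨Matrix.of fun i j => v (i, j), ?_, fun g => ?_⟩, fun M hM => ?_⟩
  · intro h0
    have hv0 : ∀ a, v a = 0 := fun a => congrFun (congrFun h0 a.1) a.2
    simp [hv0] at huv1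
  · ext i j
    rw [hentry]
    exact hvfix g (i, j)
  · have hM' : ∀ b : Fin n × Fin n, M b.1 b.2 = (∑ a : Fin n × Fin n, M a.1 a.2 * u a) * v b := by
      intro b
      have h : ∀ g : G, ∑ a : Fin n × Fin n, M a.1 a.2 * (mat ρ g ⊗ₖ mat ρ g) a b = M b.1 b.2 :=
        fun g => by rw [← hentry g M b.1 b.2, hM g]
      rw [Finset.sum_mul]
      simp only [mul_assoc, ← huv, hP, Matrix.smul_apply, Matrix.sum_apply, smul_eq_mul,
        Finset.mul_sum]
      rw [Finset.sum_comm]
      simp only [mul_left_comm _ ((Nat.card G : ℂ)⁻¹), ← Finset.mul_sum, h, Finset.sum_const,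
        Finset.card_univ, nsmul_eq_mul, Fintype.card_eq_nat_card]
      rw [← mul_assoc, inv_mul_cancel₀ hcard, one_mul]
    ext i j
    rw [Matrix.transpose_apply, Matrix.smul_apply, smul_eq_mul, hM' (j, i), hM' (i, j),
      show v (j, i) = ind ρ * v (i, j) from hvswap (i, j)]
    ring

/-- A real representation with irreducible character forces indicator one. -/
theorem ind_eq_one_of_real [Fintype G] [ρ.IsIrreducible] (R : G →* Matrix (Fin n) (Fin n) ℝ)
    (hn : 0 < n) (hR : ∀ g, mat ρ g = (R g).map Complex.ofReal) : ind ρ = 1 := by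
  classical
  have hreal : ∀ g, (ρ.character g).im = 0 := fun g => by
    rw [char_eq_trace, hR, Matrix.trace, Complex.im_sum]
    exact Finset.sum_eq_zero fun i _ => Complex.ofReal_im _
  set S : Matrix (Fin n) (Fin n) ℝ := ∑ g : G, (R g)ᵀ * R g with hS
  have hinv : IsInv ρ (S.map Complex.ofReal) := by
    intro g
    have h : (R g)ᵀ * S * R g = S := by
      rw [hS, Finset.mul_sum, Finset.sum_mul]
      refine Fintype.sum_equiv (Equiv.mulRight g) _ _ fun h => ?_
      rw [Equiv.coe_mulRight, map_mul, Matrix.transpose_mul]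
      simp only [mul_assoc]
    rw [hR, ← Matrix.transpose_map]
    change (R g)ᵀ.map Complex.ofRealHom * S.map Complex.ofRealHom * (R g).map Complex.ofRealHom
      = S.map Complex.ofRealHom
    rw [← Matrix.map_mul, ← Matrix.map_mul, h]
  have hsym : (S.map Complex.ofReal)ᵀ = S.map Complex.ofReal := by
    rw [← Matrix.transpose_map]
    congr 1
    rw [hS, Matrix.transpose_sum]
    simp [Matrix.transpose_mul]
  have hpos : 0 < S ⟨0, hn⟩ ⟨0, hn⟩ := by
    simp only [hS, Matrix.sum_apply, Matrix.mul_apply, Matrix.transpose_apply]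
    refine Finset.sum_pos' (fun g _ => Finset.sum_nonneg fun k _ => mul_self_nonneg _)
      ⟨1, Finset.mem_univ _, ?_⟩
    rw [map_one]
    simp [Matrix.one_apply]
  have h := ((exists_form ρ hreal).2 _ hinv)
  rw [hsym] at h
  have h' := congrFun (congrFun h ⟨0, hn⟩) ⟨0, hn⟩
  rw [Matrix.smul_apply, Matrix.map_apply, smul_eq_mul] at h'
  exact (mul_eq_right₀ (Complex.ofReal_ne_zero.2 hpos.ne')).1 h'.symm

theorem cmap_mul (A B : Matrix (Fin n) (Fin n) ℂ) :
    (A * B).map (starRingEnd ℂ) = A.map (starRingEnd ℂ) * B.map (starRingEnd ℂ) := Matrix.map_mul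

theorem cmap_cmap (A : Matrix (Fin n) (Fin n) ℂ) :
    (A.map (starRingEnd ℂ)).map (starRingEnd ℂ) = A := by ext i j; simp

/-- Indicator one gives a real form. -/
theorem exists_real [Fintype G] [ρ.IsIrreducible] (h1 : ind ρ = 1) :
    ∃ R : G →* Matrix (Fin n) (Fin n) ℝ, ∀ g, ((R g).trace : ℂ) = ρ.character g := by
  classical
  have hreal : ∀ g, (ρ.character g).im = 0 := by
    by_contra hno
    have h := (Indicator.indicator_spec (Basic.irrChar ρ)).2 hno
    rw [Basic.coe_irrChar] at h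
    exact one_ne_zero (h1 ▸ h : (1 : ℂ) = 0)
  obtain ⟨⟨M, hM0, hM⟩, hsym⟩ := exists_form ρ hreal
  have hMsym : Mᵀ = M := by rw [hsym M hM, h1, one_smul]
  set X := mat ρ with hX
  have hXinv : ∀ g, X g * X g⁻¹ = 1 := fun g => by rw [← map_mul, mul_inv_cancel, map_one]
  set H : Matrix (Fin n) (Fin n) ℂ := ∑ g : G, (X g)ᴴ * X g with hH
  have hHinv : ∀ g, (X g)ᴴ * H * X g = H := by
    intro g
    rw [hH, Finset.mul_sum, Finset.sum_mul]
    refine Fintype.sum_equiv (Equiv.mulRight g) _ _ fun h => ?_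
    rw [Equiv.coe_mulRight, map_mul, Matrix.conjTranspose_mul]
    simp only [mul_assoc]
  have hHpos : ∀ w : Fin n → ℂ, w ≠ 0 → ∃ r : ℝ, 0 < r ∧ star w ⬝ᵥ (H *ᵥ w) = (r : ℂ) := by
    intro w hw
    refine ⟨∑ g : G, ∑ i, Complex.normSq ((X g *ᵥ w) i), ?_, ?_⟩
    · refine Finset.sum_pos' (fun g _ => Finset.sum_nonneg fun i _ => Complex.normSq_nonneg _)
        ⟨1, Finset.mem_univ _, ?_⟩
      rw [map_one, Matrix.one_mulVec]
      obtain ⟨i, hi⟩ := Function.ne_iff.1 hw
      exact Finset.sum_pos' (fun i _ => Complex.normSq_nonneg _)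
        ⟨i, Finset.mem_univ _, Complex.normSq_pos.2 hi⟩
    · rw [hH, Matrix.sum_mulVec, dotProduct_sum]
      push_cast
      refine Finset.sum_congr rfl fun g _ => ?_
      rw [← Matrix.mulVec_mulVec, Matrix.dotProduct_mulVec, ← Matrix.star_mulVec]
      exact Finset.sum_congr rfl fun i _ => (Complex.normSq_eq_conj_mul_self).symm
  have hHdet : IsUnit H.det := by
    rw [← Matrix.isUnit_iff_isUnit_det, ← Matrix.mulVec_injective_iff_isUnit]
    intro a b hab
    by_contra hne
    obtain ⟨r, hr, hr'⟩ := hHpos (a - b) (sub_ne_zero.2 hne)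
    rw [Matrix.mulVec_sub, hab, sub_self, dotProduct_zero] at hr'
    exact hr.ne' (Complex.ofReal_eq_zero.1 hr'.symm)
  have hHT : Hᴴ = H := by
    rw [hH, Matrix.conjTranspose_sum]
    simp [Matrix.conjTranspose_mul]
  set Hc : Matrix (Fin n) (Fin n) ℂ := H.map (starRingEnd ℂ) with hHc
  have hHcdet : IsUnit Hc.det := by
    have h := hHdet.map (starRingEnd ℂ)
    rwa [RingHom.map_det] at h
  have hXT : ∀ g, ((X g).map (starRingEnd ℂ))ᴴ = (X g)ᵀ := fun g => by
    ext i j; simp
  have hHcinv : ∀ g, (X g)ᵀ * Hc * (X g).map (starRingEnd ℂ) = Hc := fun g => by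
    have h := congrArg (fun A : Matrix (Fin n) (Fin n) ℂ => A.map (starRingEnd ℂ)) (hHinv g)
    simp only [cmap_mul] at h
    rwa [show ((X g)ᴴ).map (starRingEnd ℂ) = (X g)ᵀ by ext i j; simp] at h
  set K := Hc⁻¹ * M with hK
  clear_value K
  have hKX : ∀ g, (X g).map (starRingEnd ℂ) * K = K * X g := by
    intro g
    have hT : IsUnit ((X g)ᵀ) := ⟨⟨(X g)ᵀ, (X g⁻¹)ᵀ, by
      rw [← Matrix.transpose_mul, ← map_mul, inv_mul_cancel, map_one, Matrix.transpose_one], by
      rw [← Matrix.transpose_mul, hXinv, Matrix.transpose_one]⟩, rfl⟩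
    have h : (X g)ᵀ * Hc * ((X g).map (starRingEnd ℂ) * K) = (X g)ᵀ * Hc * (K * X g) := by
      rw [← mul_assoc, hHcinv, hK, ← mul_assoc, Matrix.mul_nonsing_inv _ hHcdet, one_mul,
        mul_assoc, ← mul_assoc Hc, ← mul_assoc Hc, Matrix.mul_nonsing_inv _ hHcdet, one_mul,
        ← mul_assoc, hM]
    exact (hT.mul ((Matrix.isUnit_iff_isUnit_det _).2 hHcdet)).mul_left_cancel h
  -- Schur
  have hcomm : ∀ g, K.map (starRingEnd ℂ) * K * X g = X g * (K.map (starRingEnd ℂ) * K) := by
    intro g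
    have h := congrArg (fun A : Matrix (Fin n) (Fin n) ℂ => A.map (starRingEnd ℂ)) (hKX g)
    simp only [cmap_mul, cmap_cmap] at h
    rw [mul_assoc, ← hKX, ← mul_assoc, ← h, mul_assoc]
  obtain ⟨c, hc⟩ := Clifford.Rep.schur ρ (Matrix.toLin' (K.map (starRingEnd ℂ) * K)) (fun g => by
    rw [← toLin'_mat ρ g]
    show Matrix.toLin' _ ∘ₗ Matrix.toLin' _ = Matrix.toLin' _ ∘ₗ Matrix.toLin' _
    rw [← Matrix.toLin'_mul, ← Matrix.toLin'_mul, hcomm g])
  have hKK : K.map (starRingEnd ℂ) * K = c • 1 := by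
    refine Matrix.toLin'.injective ?_
    rw [hc, map_smul, Matrix.toLin'_one]
    rfl
  -- kernel of the form
  have hMdet : IsUnit M.det := by
    rw [← Matrix.isUnit_iff_isUnit_det, ← Matrix.mulVec_injective_iff_isUnit]
    let T : Subrepresentation ρ :=
      ⟨LinearMap.ker (Matrix.toLin' M), fun g w hw => by
        rw [LinearMap.mem_ker, Matrix.toLin'_apply] at hw ⊢
        have h := hM g⁻¹
        have h2 : M * X g = (X g⁻¹)ᵀ * M := by
          nth_rewrite 1 [← h]
          rw [mul_assoc, ← map_mul, inv_mul_cancel, map_one, mul_one]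
        rw [← toLin'_mat ρ g, Matrix.toLin'_apply, Matrix.mulVec_mulVec, h2,
          ← Matrix.mulVec_mulVec, hw, Matrix.mulVec_zero]⟩
    rcases eq_bot_or_eq_top T with hT | hT
    · exact LinearMap.ker_eq_bot.1 (congrArg Subrepresentation.toSubmodule hT)
    · refine absurd ?_ hM0
      have h : LinearMap.ker (Matrix.toLin' M) = ⊤ := congrArg Subrepresentation.toSubmodule hT
      exact (LinearEquiv.map_eq_zero_iff _).1 (LinearMap.ker_eq_top.1 h)
  have hc0 : c ≠ 0 := by
    rintro rfl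
    rw [zero_smul] at hKK
    have hKdet : IsUnit K.det := by
      rw [hK, Matrix.det_mul]
      exact (Matrix.isUnit_nonsing_inv_det _ hHcdet).mul hMdet
    have hK0 : (K.map (starRingEnd ℂ)) = 0 :=
      ((Matrix.isUnit_iff_isUnit_det _).2 hKdet).mul_left_eq_zero.1 hKK
    have hK00 : K = 0 := by rw [← cmap_cmap K, hK0]; simp
    rcases Nat.eq_zero_or_pos n with rfl | hn
    · exact hM0 (Subsingleton.elim _ _)
    · haveI : Nonempty (Fin n) := ⟨⟨0, hn⟩⟩
      rw [hK00, Matrix.det_zero] at hKdet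
      exact not_isUnit_zero hKdet
  -- the scalar is positive
  obtain ⟨l, hl, rfl⟩ : ∃ l : ℝ, 0 < l ∧ c = (l : ℂ) := by
    rcases Nat.eq_zero_or_pos n with rfl | hn
    · exact absurd (Subsingleton.elim _ _) hM0
    let e : Fin n → ℂ := Pi.single ⟨0, hn⟩ 1
    have he : e ≠ 0 := fun h => by simpa [e] using congrFun h ⟨0, hn⟩
    set w : Fin n → ℂ := fun i => conj ((K *ᵥ e) i) with hw
    have hswap : ∀ a b : Fin n → ℂ,
        star (fun i => conj ((K *ᵥ a) i)) ⬝ᵥ (H *ᵥ b) = a ⬝ᵥ (M *ᵥ b) := by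
      intro a b
      have h1 : star (fun i => conj ((K *ᵥ a) i)) = K *ᵥ a := by
        funext i; simp
      have h2 : Kᵀ * H = M := by
        have h3 : Hcᵀ = H := by
          rw [hHc, show (H.map (starRingEnd ℂ))ᵀ = Hᴴ by ext i j; simp, hHT]
        rw [hK, Matrix.transpose_mul, Matrix.transpose_nonsing_inv, h3, hMsym, mul_assoc,
          Matrix.nonsing_inv_mul _ hHdet, mul_one]
      rw [h1, Matrix.dotProduct_mulVec a M, ← congrArg (fun Z => a ᵥ* Z) h2, ← Matrix.vecMul_vecMul,
        Matrix.vecMul_transpose, ← Matrix.dotProduct_mulVec]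
    have hw0 : w ≠ 0 := by
      intro h0
      have h2 : K *ᵥ e = 0 := funext fun i => by
        have := congrFun h0 i
        simpa [hw] using this
      have h3 : (K.map (starRingEnd ℂ) * K) *ᵥ e = 0 := by
        rw [← Matrix.mulVec_mulVec, h2, Matrix.mulVec_zero]
      rw [hKK, Matrix.smul_mulVec, Matrix.one_mulVec] at h3
      exact smul_ne_zero hc0 he h3
    obtain ⟨r, hr, hr'⟩ := hHpos w hw0
    obtain ⟨s, hs, hs'⟩ := hHpos e he
    have hJw : (fun i => conj ((K *ᵥ w) i)) = c • e := by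
      funext i
      have h2 : (K.map (starRingEnd ℂ) * K) *ᵥ e = c • e := by
        rw [hKK, Matrix.smul_mulVec, Matrix.one_mulVec]
      have hc' : ∀ (B : Matrix (Fin n) (Fin n) ℂ) (q : Fin n → ℂ),
          conj ((B *ᵥ fun j => conj (q j)) i) = (B.map (starRingEnd ℂ) *ᵥ q) i := by
        intro B q
        simp [Matrix.mulVec, dotProduct]
      rw [← congrFun h2 i, ← Matrix.mulVec_mulVec]
      exact hc' K (K *ᵥ e)
    have hsymd : e ⬝ᵥ (M *ᵥ w) = w ⬝ᵥ (M *ᵥ e) := by
      rw [Matrix.dotProduct_mulVec, ← Matrix.mulVec_transpose, hMsym, dotProduct_comm]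
    have hkey : (r : ℂ) = conj c * (s : ℂ) := by
      rw [← hr', ← hs', hw, hswap e, ← hw, hsymd, ← hswap w e, hJw, star_smul, smul_dotProduct,
        smul_eq_mul]
      rfl
    refine ⟨r / s, div_pos hr hs, ?_⟩
    have hs0 : (s : ℂ) ≠ 0 := Complex.ofReal_ne_zero.2 hs.ne'
    have hkey' : conj c = ((r / s : ℝ) : ℂ) := by
      push_cast
      rw [eq_div_iff hs0, hkey]
    rw [← Complex.conj_conj c, hkey', Complex.conj_ofReal]
  -- rescale
  set L : Matrix (Fin n) (Fin n) ℂ := ((Real.sqrt l)⁻¹ : ℂ) • K with hL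
  set Lc := L.map (starRingEnd ℂ) with hLc
  have hLL : Lc * L = 1 := by
    rw [hLc, hL, show ((((Real.sqrt l)⁻¹ : ℂ) • K).map (starRingEnd ℂ)) =
      ((Real.sqrt l)⁻¹ : ℂ) • K.map (starRingEnd ℂ) by ext i j; simp, smul_mul_smul_comm, hKK,
      smul_smul]
    convert one_smul ℂ (1 : Matrix (Fin n) (Fin n) ℂ) using 2
    rw [← Complex.ofReal_inv, ← Complex.ofReal_mul, ← Complex.ofReal_mul,
      ← mul_inv, Real.mul_self_sqrt hl.le, inv_mul_cancel₀ hl.ne', Complex.ofReal_one]
  have hLL' : L * Lc = 1 := mul_eq_one_comm.1 hLL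
  have hLX : ∀ g, (X g).map (starRingEnd ℂ) * L = L * X g := fun g => by
    rw [hL, Matrix.mul_smul, Matrix.smul_mul, hKX]
  -- Hilbert 90
  obtain ⟨S, hSdet, hSS⟩ : ∃ S : Matrix (Fin n) (Fin n) ℂ, IsUnit S.det ∧
      L * S = S.map (starRingEnd ℂ) := by
    let A : Matrix (Fin n) (Fin n) (Polynomial ℂ) :=
      (1 + Lc).map Polynomial.C + (Polynomial.X : Polynomial ℂ) • (Complex.I • (1 - Lc)).map Polynomial.C
    have hev : ∀ z : ℂ, A.det.eval z = ((1 + Lc) + z • (Complex.I • (1 - Lc))).det := by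
      intro z
      rw [← Polynomial.coe_evalRingHom, RingHom.map_det]
      congr 1
      ext i j
      simp [A]
    have hA : A.det ≠ 0 := by
      intro h0
      have h := hev (-Complex.I)
      rw [h0, Polynomial.eval_zero, smul_smul, neg_mul, Complex.I_mul_I, neg_neg, one_smul,
        show (1 + Lc) + (1 - Lc) = (2 : ℂ) • (1 : Matrix (Fin n) (Fin n) ℂ) by
          rw [two_smul]; abel, Matrix.det_smul, Matrix.det_one, mul_one] at h
      exact pow_ne_zero _ two_ne_zero h.symm
    obtain ⟨t, ht⟩ : ∃ t : ℕ, A.det.eval (t : ℂ) ≠ 0 := by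
      by_contra hno
      push Not at hno
      exact hA (Polynomial.eq_zero_of_infinite_isRoot _ ((Set.infinite_range_of_injective
        Nat.cast_injective).mono (by rintro _ ⟨t, rfl⟩; exact hno t)))
    set a : ℂ := 1 + (t : ℂ) * Complex.I with ha
    refine ⟨a • 1 + conj a • Lc, ?_, ?_⟩
    · rw [isUnit_iff_ne_zero]
      convert ht using 1
      rw [hev]
      congr 1
      rw [ha, map_add, map_one, map_mul, Complex.conj_I, Complex.conj_natCast]
      simp only [smul_sub, smul_smul, add_smul, one_smul, mul_neg, neg_smul]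
      abel
    · rw [mul_add, Matrix.mul_smul, Matrix.mul_smul, mul_one, hLL',
        show (a • (1 : Matrix (Fin n) (Fin n) ℂ) + conj a • Lc).map (starRingEnd ℂ) =
          conj a • 1 + a • L by
          ext i j
          simp [hLc, Matrix.one_apply, apply_ite (starRingEnd ℂ)]]
      abel
  let Sc := S.map (starRingEnd ℂ)
  have hScdet : IsUnit Sc.det := by
    have h := hSdet.map (starRingEnd ℂ)
    rwa [RingHom.map_det] at h
  let Y : G → Matrix (Fin n) (Fin n) ℂ := fun g => S⁻¹ * X g * S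
  have hYreal : ∀ g, (Y g).map (starRingEnd ℂ) = Y g := by
    intro g
    refine ((Matrix.isUnit_iff_isUnit_det _).2 hScdet).mul_left_cancel ?_
    have h1 : Sc * (Y g).map (starRingEnd ℂ) = (X g).map (starRingEnd ℂ) * Sc := by
      rw [← cmap_mul, ← cmap_mul]
      congr 1
      show S * (S⁻¹ * X g * S) = _
      rw [← mul_assoc, ← mul_assoc, Matrix.mul_nonsing_inv _ hSdet, one_mul]
    rw [h1]
    show _ = Sc * (S⁻¹ * X g * S)
    rw [show Sc = L * S from hSS.symm, ← mul_assoc, hLX, ← mul_assoc (L * S),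
      mul_assoc L S, ← mul_assoc L, ← mul_assoc, mul_assoc (L * S) S⁻¹]
    rw [mul_assoc L S, ← mul_assoc S, Matrix.mul_nonsing_inv _ hSdet, one_mul]
  have hYre : ∀ g, ((Y g).map Complex.re).map Complex.ofRealHom = Y g := fun g => by
    ext i j
    exact Complex.conj_eq_iff_re.1 (congrFun (congrFun (hYreal g) i) j)
  have hinj : Function.Injective fun A : Matrix (Fin n) (Fin n) ℝ => A.map Complex.ofRealHom :=
    fun A B h => by
      ext i j
      exact Complex.ofReal_injective (congrFun (congrFun h i) j)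
  refine ⟨
    { toFun := fun g => (Y g).map Complex.re
      map_one' := hinj (by
        simp only [hYre]
        show S⁻¹ * X 1 * S = _
        rw [map_one, mul_one, Matrix.nonsing_inv_mul _ hSdet, Matrix.map_one _ (map_zero _) (map_one _)])
      map_mul' := fun g h => hinj (by
        simp only [Matrix.map_mul, hYre]
        show S⁻¹ * X (g * h) * S = S⁻¹ * X g * S * (S⁻¹ * X h * S)
        rw [map_mul]
        simp only [mul_assoc]
        rw [← mul_assoc S, Matrix.mul_nonsing_inv _ hSdet, one_mul]) }, fun g => ?_⟩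
  show (((Y g).map Complex.re).trace : ℂ) = _
  calc (((Y g).map Complex.re).trace : ℂ) = (Y g).trace := by
        conv_rhs => rw [← hYre g]
        simp [Matrix.trace]
    _ = ρ.character g := by
        rw [char_eq_trace, Matrix.trace_mul_cycle, Matrix.mul_nonsing_inv _ hSdet, one_mul]

end Cfsg.Agent.Lib.BC77.RealForm
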