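import Cfsg.Agent.Lib.Blocks.ContribBound
import Cfsg.Agent.Lib.Blocks.ContribRank

/-!
# Small complements to `Lib/Blocks/Contrib`
-/

set_option autoImplicit false

namespace Cfsg.Agent.Lib.BC77.Reg

open Cfsg.Agent.Lib.Characters Cfsg.Agent.Lib.Blocks.Contrib
open scoped ComplexConjugate

variable {G : Type*} [Group G] [Finite G]

/-- An integral combination of irreducible characters is a generalized character. -/
theorem isGeneralized_intComb [Fintype (Cfsg.IrrCharacter G)] (n : Cfsg.IrrCharacter G → ℤ) :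
    Cfsg.IsGeneralizedCharacter G (fun g => ∑ φ : Cfsg.IrrCharacter G, (n φ : ℂ) * (φ : G → ℂ) g) := by
  classical
  refine ⟨∑ φ : Cfsg.IrrCharacter G, (n φ).toNat • (φ : G → ℂ),
    ∑ φ : Cfsg.IrrCharacter G, (-n φ).toNat • (φ : G → ℂ),
    Basic.isCharacter_sum _ fun φ _ => Basic.isCharacter_nsmul (Basic.isCharacter_irr φ) _,
    Basic.isCharacter_sum _ fun φ _ => Basic.isCharacter_nsmul (Basic.isCharacter_irr φ) _, ?_⟩
  funext g
  simp only [Pi.sub_apply, Finset.sum_apply, Pi.smul_apply, nsmul_eq_mul, ← Finset.sum_sub_distrib]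
  refine Finset.sum_congr rfl fun φ _ => ?_
  have h := congrArg (fun z : ℤ => (z : ℂ)) (Int.toNat_sub_toNat_neg (n φ))
  push_cast at h
  simp only [Pi.mul_apply, Pi.natCast_apply]
  rw [← sub_mul, h]

variable {p : ℕ} [Fact p.Prime]

theorem scaled_regular_eq_sum [Fintype (Cfsg.IrrCharacter G)] (χ : Cfsg.IrrCharacter G) (x : G) :
    (if p ∣ orderOf x then (0 : ℂ) else ((p ^ (Nat.card G).factorization p : ℕ) : ℂ) * (χ : G → ℂ) x) =
      ∑ φ : Cfsg.IrrCharacter G, (contribN p χ φ : ℂ) * (φ : G → ℂ) x := by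
  rw [Blocks.Contrib.sum_contribN_apply]
  split_ifs <;> simp

theorem classInner_scaled_regular [Fintype G] (χ ξ : Cfsg.IrrCharacter G) :
    Cfsg.classInner (fun x : G => if p ∣ orderOf x then (0 : ℂ) else
        ((p ^ (Nat.card G).factorization p : ℕ) : ℂ) * (χ : G → ℂ) x) (ξ : G → ℂ) =
      (contribN p χ ξ : ℂ) := by
  classical
  letI := Fintype.ofFinite (Cfsg.IrrCharacter G)
  simp only [scaled_regular_eq_sum]
  have h := Complete.classInner_irr_sum (fun φ => (contribN p χ φ : ℂ)) ξ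
  refine (congrArg (fun f : G → ℂ => Cfsg.classInner f (ξ : G → ℂ)) ?_).trans h
  funext x
  simp [Finset.sum_apply]

/-- A generalized character vanishing on nontrivial `p`-elements has value at `1` divisible by
the order of a Sylow subgroup. -/
theorem dvd_apply_one {f : G → ℂ} (hf : Cfsg.IsGeneralizedCharacter G f)
    (h0 : ∀ x : G, p ∣ orderOf x → f x = 0) :
    ∃ k : ℤ, f 1 = ((p ^ (Nat.card G).factorization p : ℕ) : ℂ) * k := by
  classical
  obtain ⟨a, b, ha, hb, rfl⟩ := hf
  obtain ⟨P⟩ : Nonempty (Sylow p G) := inferInstance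
  letI := Fintype.ofFinite (P : Subgroup G)
  obtain ⟨ka, hka⟩ := Basic.exists_classInner_nat
    (Basic.isCharacter_comp (P : Subgroup G).subtype ha) (Basic.isCharacter_one (G := (P : Subgroup G)))
  obtain ⟨kb, hkb⟩ := Basic.exists_classInner_nat
    (Basic.isCharacter_comp (P : Subgroup G).subtype hb) (Basic.isCharacter_one (G := (P : Subgroup G)))
  refine ⟨(ka : ℤ) - kb, ?_⟩
  push_cast
  rw [← hka, ← hkb]
  simp only [Cfsg.classInner, Pi.one_apply, map_one, mul_one, Function.comp_apply, ← mul_sub,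
    ← Finset.sum_sub_distrib]
  rw [Finset.sum_eq_single (1 : (P : Subgroup G))]
  · rw [P.card_eq_multiplicity, Nat.cast_pow, ← mul_assoc,
      mul_inv_cancel₀ (pow_ne_zero _ (Nat.cast_ne_zero.mpr (Fact.out : p.Prime).ne_zero)), one_mul]
    simp
  · intro x _ hx
    refine h0 ((x : (P : Subgroup G)) : G) ?_
    rw [Subgroup.orderOf_coe]
    obtain ⟨k, hk⟩ := IsPGroup.iff_orderOf.mp P.2 x
    rcases k with _ | k
    · exact absurd (orderOf_eq_one_iff.mp (by simpa using hk)) hx
    · exact hk ▸ dvd_pow_self p k.succ_ne_zero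
  · simp

end Cfsg.Agent.Lib.BC77.Reg
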