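import Cfsg.Agent.Lib.BC77.WideArc
import Cfsg.Agent.Lib.BC77.ArcBox
import Cfsg.Agent.Lib.Blocks.Orthogonality
import Cfsg.Agent.Lib.Induced.Burnside
import Cfsg.Agent.Lib.Induced.Integral
import Cfsg.Agent.Lib.BlocksChars5.Basic
import Cfsg.Agent.Lib.Characters.Degree

/-!
# Simple groups of order `p ^ a * q ^ b * g₀`

The principal `p`-block has a non-principal character of degree prime to `q`; the eigenvalues of
a central `p`-element take at most `g₀` values in it, so a power of that element has all of them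
in a short arc.
-/

set_option autoImplicit false

namespace Cfsg.Agent.Lib.BC77.SimpleBound

open scoped ComplexConjugate
open Cfsg.Agent.Lib.Blocks
open Cfsg.Agent.Lib.Characters.Basic (isCharacter_irr oneChar apply_inv isIntegral_apply)

universe u

/-- A rational algebraic integer. -/
theorem exists_int {z : ℂ} (hz : IsIntegral ℤ z) {d : ℤ} (hd : d ≠ 0) {m : ℤ}
    (h : (d : ℂ) * z = m) : ∃ j : ℤ, z = j := by
  have hq : z = (((m : ℚ) / (d : ℚ)) : ℚ) := by
    have : (d : ℂ) ≠ 0 := Int.cast_ne_zero.2 hd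
    push_cast
    rw [eq_div_iff this, mul_comm, h]
  have hi : IsIntegral ℤ ((m : ℚ) / (d : ℚ)) := by
    rw [hq] at hz
    exact (isIntegral_algebraMap_iff (R := ℤ) (A := ℚ) (B := ℂ) (algebraMap ℚ ℂ).injective).1 hz
  obtain ⟨j, hj⟩ := (IsIntegrallyClosed.isIntegral_iff (R := ℤ) (K := ℚ)).1 hi
  exact ⟨j, by rw [hq, ← hj]; simp⟩

theorem isIntegral_natCast (n : ℕ) : IsIntegral ℤ (n : ℂ) := by
  simpa using isIntegral_algebraMap (R := ℤ) (A := ℂ) (x := (n : ℤ))

theorem mem_localRing_of_isIntegral {M : Ideal Cfsg.AlgInt} [M.IsMaximal] {z : ℂ}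
    (hz : IsIntegral ℤ z) : z ∈ localRing M :=
  ⟨⟨z, hz⟩, 1, one_notMem_ideal, by simp⟩

variable {p : ℕ} [Fact p.Prime] {M : Ideal Cfsg.AlgInt} [M.IsMaximal]

theorem isIntegral_std (j : ZMod p) : IsIntegral ℤ (ZMod.stdAddChar j : ℂ) :=
  IsIntegral.of_pow (Fact.out : p.Prime).pos (by
    rw [← AddChar.map_nsmul_eq_pow, nsmul_eq_mul, ZMod.natCast_self, zero_mul,
      AddChar.map_zero_eq_one]
    exact isIntegral_one)

/-- A `p`-th root of unity is congruent to one. -/
theorem std_sub_one_mem (hM : Cfsg.IsPModular p M) (j : ZMod p) :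
    Cfsg.MemLocalIdeal M ((ZMod.stdAddChar j : ℂ) - 1) := by
  haveI := charP_residue hM
  let z : Cfsg.AlgInt := ⟨_, isIntegral_std j⟩
  have hzp : z ^ p = 1 := Subtype.ext (by
    push_cast
    show (ZMod.stdAddChar j : ℂ) ^ p = 1
    rw [← AddChar.map_nsmul_eq_pow, nsmul_eq_mul, ZMod.natCast_self, zero_mul,
      AddChar.map_zero_eq_one])
  have h : Ideal.Quotient.mk M (z - 1) = 0 := by
    have h1 : (Ideal.Quotient.mk M (z - 1)) ^ p = 0 := by
      rw [map_sub, sub_pow_char, ← map_pow, hzp, map_one, one_pow, sub_self]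
    letI := Ideal.Quotient.field M
    exact pow_eq_zero_iff (Fact.out : p.Prime).ne_zero |>.mp h1
  have h2 := (memLocalIdeal_algInt_iff (M := M)).mpr (Ideal.Quotient.eq_zero_iff_mem.mp h)
  simpa [z] using h2

variable {G : Type u} [Group G] [Finite G]

/-- In the principal block a central `p`-element has at most `d` eigenvalues, where `d` is the
`p'`-part of the degree, if that is less than `p`. -/
theorem card_eigen_le (hM : Cfsg.IsPModular p M) (χ : Cfsg.IrrCharacter G)
    (hB : χ ∈ Cfsg.principalBlock M G) {x : G} (hx : x ^ p = 1)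
    (hK : ¬ p ∣ (Subgroup.centralizer ({x} : Set G)).index) {c d : ℕ}
    (hdeg : (χ : G → ℂ) 1 = ((p ^ c * d : ℕ) : ℂ)) (hd : d < p) {ι : Type} [Fintype ι]
    (e : ι → ZMod p) (he : ∀ k : ℕ, (χ : G → ℂ) (x ^ k) = ∑ i, (ZMod.stdAddChar ((k : ZMod p) * e i) : ℂ)) :
    (Finset.univ.image e).card ≤ d := by
  classical
  have hp : p.Prime := Fact.out
  set P : ℂ := (p : ℂ) ^ c with hP
  have hP0 : P ≠ 0 := pow_ne_zero _ (Nat.cast_ne_zero.mpr hp.ne_zero)
  have hd0 : (d : ℂ) ≠ 0 := fun h => Characters.Basic.apply_one_ne_zero χ (by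
    rw [hdeg, Nat.cast_mul, h, mul_zero])
  -- divisibility of the values at the powers
  have hdiv : ∀ k : ZMod p, k ≠ 0 → IsIntegral ℤ ((χ : G → ℂ) (x ^ k.val) / P) := by
    intro k hk
    set y := x ^ k.val
    set K := (Subgroup.centralizer ({y} : Set G)).index
    have hKy : ¬ p ∣ K := fun h => hK (h.trans (Subgroup.index_dvd_of_le fun g hg => by
      rw [Subgroup.mem_centralizer_singleton_iff] at hg ⊢
      exact (Commute.pow_right hg k.val)))
    obtain ⟨n, ρ, hρ, hχ⟩ := χ.2
    haveI := hρ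
    have h1 := Induced.Integral.isIntegral_centralCharacter ρ y
    rw [← Representation.char_one ρ, hχ, hdeg] at h1
    have h2 : IsIntegral ℤ ((K : ℂ) * (χ : G → ℂ) y / P) := by
      have h3 := (isIntegral_natCast d).mul h1
      rw [Nat.cast_mul, Nat.cast_pow, ← hP, mul_comm P (d : ℂ), ← mul_div_assoc,
        mul_div_mul_left _ _ hd0] at h3
      exact h3
    obtain ⟨u, v, huv⟩ : ∃ u v : ℤ, (K : ℤ) * u + ((p ^ c : ℕ) : ℤ) * v = 1 :=
      ⟨Nat.gcdA K (p ^ c), Nat.gcdB K (p ^ c), by
        rw [← Nat.gcd_eq_gcd_ab,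
          Nat.Coprime.gcd_eq_one ((hp.coprime_iff_not_dvd.mpr hKy).symm.pow_right c)]
        rfl⟩
    have huv' : (K : ℂ) * u + P * v = 1 := by
      rw [hP]
      exact_mod_cast huv
    have e1 : (χ : G → ℂ) y / P =
        (u : ℂ) * ((K : ℂ) * (χ : G → ℂ) y / P) + (v : ℂ) * (χ : G → ℂ) y := by
      field_simp
      linear_combination -(χ : G → ℂ) y * huv'
    rw [e1]
    exact ((isIntegral_algebraMap (R := ℤ) (A := ℂ) (x := u)).mul h2).add
      ((isIntegral_algebraMap (R := ℤ) (A := ℂ) (x := v)).mul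
        (isIntegral_apply (isCharacter_irr χ) _))
  -- multiplicities
  let m : ZMod p → ℕ := fun j => (Finset.univ.filter fun i => e i = j).card
  have hmsum : ∀ f : ZMod p → ℂ, ∑ i, f (e i) = ∑ j, (m j : ℂ) * f j := by
    intro f
    rw [← Finset.sum_fiberwise Finset.univ e fun i => f (e i)]
    refine Finset.sum_congr rfl fun j _ => ?_
    rw [Finset.sum_congr rfl fun i hi => by rw [(Finset.mem_filter.mp hi).2],
      Finset.sum_const, nsmul_eq_mul]
  have hinv : ∀ j : ZMod p, (p : ℂ) * m j =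
      ∑ k : ZMod p, (ZMod.stdAddChar (-(k * j)) : ℂ) * (χ : G → ℂ) (x ^ k.val) := by
    intro j
    simp only [he, ZMod.natCast_zmod_val, Finset.mul_sum, ← AddChar.map_add_eq_mul]
    rw [Finset.sum_comm]
    have : ∀ i, ∑ k : ZMod p, (ZMod.stdAddChar (-(k * j) + k * e i) : ℂ) =
        if e i = j then (p : ℂ) else 0 := by
      intro i
      simp only [show ∀ k : ZMod p, -(k * j) + k * e i = k * (e i - j) from fun k => by ring]
      rw [AddChar.sum_mulShift _ (ZMod.isPrimitive_stdAddChar p), ZMod.card]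
      simp only [sub_eq_zero]
      split_ifs <;> simp
    simp only [this, Finset.sum_ite, Finset.sum_const_zero, add_zero, Finset.sum_const,
      nsmul_eq_mul]
    ring
  have hcong : ∀ j l : ZMod p, ((p ^ c : ℕ) : ℤ) ∣ (m j : ℤ) - m l := by
    intro j l
    set z : ℂ := ∑ k ∈ (Finset.univ : Finset (ZMod p)).erase 0,
      ((ZMod.stdAddChar (-(k * j)) : ℂ) - ZMod.stdAddChar (-(k * l))) *
        ((χ : G → ℂ) (x ^ k.val) / P) with hz
    have h1 : (p : ℂ) * (((m j : ℤ) - m l : ℤ) : ℂ) = P * z := by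
      push_cast
      rw [mul_sub, hinv, hinv, ← Finset.sum_sub_distrib,
        ← Finset.add_sum_erase _ _ (Finset.mem_univ (0 : ZMod p)), hz, Finset.mul_sum]
      simp only [zero_mul, neg_zero, sub_self, zero_add]
      refine Finset.sum_congr rfl fun k _ => ?_
      field_simp
    rcases Nat.eq_zero_or_pos c with hc | hc
    · simp [hc]
    obtain ⟨c', rfl⟩ := Nat.exists_eq_add_of_le hc
    have hzint : IsIntegral ℤ z := IsIntegral.sum _ fun k hk =>
      ((isIntegral_std _).sub (isIntegral_std _)).mul (hdiv k (Finset.ne_of_mem_erase hk))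
    have hp0 : (p : ℂ) ≠ 0 := Nat.cast_ne_zero.mpr hp.ne_zero
    have h1' : (((p ^ c' : ℕ) : ℤ) : ℂ) * z = (((m j : ℤ) - m l : ℤ) : ℂ) := by
      apply mul_left_cancel₀ hp0
      rw [h1, hP, pow_add, pow_one]
      push_cast
      ring
    obtain ⟨w, hw⟩ := exists_int hzint
      (Int.natCast_ne_zero.mpr (pow_ne_zero _ hp.ne_zero)) h1'
    have hwM : Cfsg.MemLocalIdeal M z := memLocalIdeal_sum _ fun k hk =>
      memLocalIdeal_mul_right (by
        have h := memLocalIdeal_sub (std_sub_one_mem hM (-(k * j))) (std_sub_one_mem hM (-(k * l)))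
        simpa using h)
        (mem_localRing_of_isIntegral (hdiv k (Finset.ne_of_mem_erase hk)))
    rw [hw, memLocalIdeal_intCast_iff hM] at hwM
    obtain ⟨t, rfl⟩ := hwM
    refine ⟨t, ?_⟩
    rw [hw] at h1'
    have h2 : ((p ^ c' : ℕ) : ℤ) * ((p : ℤ) * t) = (m j : ℤ) - m l := by exact_mod_cast h1'
    rw [← h2, pow_add, pow_one]
    push_cast
    ring
  -- the least multiplicity
  obtain ⟨j1, -, hj1⟩ := Finset.exists_min_image Finset.univ m Finset.univ_nonempty
  set r := m j1 with hr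
  have hn : ∀ j, ∃ n : ℕ, m j = r + p ^ c * n := by
    intro j
    have h1 := hj1 j (Finset.mem_univ j)
    have h2 : p ^ c ∣ m j - r := by
      have := hcong j j1
      rw [← Nat.cast_sub h1] at this
      exact_mod_cast this
    obtain ⟨n, hn⟩ := h2
    exact ⟨n, by rw [← hn]; omega⟩
  choose n hn using hn
  set N := ∑ j, n j with hNdef
  have hchi : ∀ k : ℕ, (χ : G → ℂ) (x ^ k) =
      (r : ℂ) * ∑ j : ZMod p, (ZMod.stdAddChar ((k : ZMod p) * j) : ℂ) +
        P * ∑ j, (n j : ℂ) * ZMod.stdAddChar ((k : ZMod p) * j) := by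
    intro k
    rw [he, hmsum fun j => (ZMod.stdAddChar ((k : ZMod p) * j) : ℂ), Finset.mul_sum, Finset.mul_sum,
      ← Finset.sum_add_distrib]
    refine Finset.sum_congr rfl fun j _ => ?_
    rw [hn j, hP]
    push_cast
    ring
  have h0 : r * p + p ^ c * N = p ^ c * d := by
    have h := hchi 0
    simp only [pow_zero, Nat.cast_zero, zero_mul, AddChar.map_zero_eq_one, Finset.sum_const,
      Finset.card_univ, ZMod.card, nsmul_eq_mul, mul_one, hdeg, hP] at h
    rw [hNdef]
    exact_mod_cast h.symm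
  have hNd : N ≤ d := Nat.le_of_mul_le_mul_left (show p ^ c * N ≤ p ^ c * d by omega) (pow_pos hp.pos c)
  -- the congruence at `x`
  set S : ℂ := ∑ j, (n j : ℂ) * ZMod.stdAddChar (j : ZMod p) with hS
  have hx1 : (χ : G → ℂ) x = P * S := by
    have h := hchi 1
    rw [pow_one, Nat.cast_one] at h
    simp only [one_mul] at h
    rw [h, AddChar.sum_eq_zero_of_ne_one, mul_zero, zero_add]
    intro h1
    have := ZMod.isPrimitive_stdAddChar p (one_ne_zero (α := ZMod p))
    exact this (by rw [AddChar.mulShift_one]; exact h1)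
  set K := (Subgroup.centralizer ({x} : Set G)).index
  have hω : Cfsg.MemLocalIdeal M (Cfsg.centralChar (fun _ : G => (1 : ℂ)) x -
      Cfsg.centralChar (χ : G → ℂ) x) := hB x
  have hω2 : Cfsg.MemLocalIdeal M ((K : ℂ) * ((d : ℂ) - S)) := by
    have h := memLocalIdeal_mul_left (mem_localRing_of_isIntegral (isIntegral_natCast d)) hω
    convert h using 1
    simp only [Cfsg.centralChar, hdeg, hx1]
    push_cast
    rw [← hP]
    field_simp
    ring
  have hSN : Cfsg.MemLocalIdeal M ((N : ℂ) - S) := by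
    rw [hNdef, hS, Nat.cast_sum, ← Finset.sum_sub_distrib]
    refine memLocalIdeal_sum _ fun j _ => ?_
    have h := memLocalIdeal_neg (memLocalIdeal_mul_left
      (mem_localRing_of_isIntegral (isIntegral_natCast (n j))) (std_sub_one_mem hM j))
    convert h using 1
    ring
  have hKd : Cfsg.MemLocalIdeal M (((K * (d - N) : ℕ)) : ℂ) := by
    have h := memLocalIdeal_sub hω2
      (memLocalIdeal_mul_left (mem_localRing_of_isIntegral (isIntegral_natCast K)) hSN)
    convert h using 1
    rw [Nat.cast_mul, Nat.cast_sub hNd]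
    ring
  rw [memLocalIdeal_natCast_iff hM, hp.dvd_mul] at hKd
  have hdN : d = N := by
    rcases hKd with h | h
    · exact absurd h hK
    · have := Nat.eq_zero_of_dvd_of_lt h (by omega)
      omega
  have hr0 : r = 0 := by
    have : r * p = 0 := by rw [← hdN] at h0; omega
    exact (mul_eq_zero.mp this).resolve_right hp.ne_zero
  refine (Finset.card_eq_sum_ones _).trans_le (le_trans ?_ hdN.ge)
  refine le_trans (Finset.sum_le_sum fun j hj => ?_) (Finset.sum_le_sum_of_subset (Finset.subset_univ _))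
  obtain ⟨i, -, rfl⟩ := Finset.mem_image.mp hj
  have hpos : 0 < m (e i) := Finset.card_pos.mpr ⟨i, by simp⟩
  rw [hn, hr0, zero_add] at hpos
  exact Nat.pos_of_mul_pos_left hpos

/-- The main bound. -/
theorem main [IsSimpleGroup G] {q a b g₀ : ℕ} (hq : q.Prime) (hpq : p ≠ q) (ha : 0 < a)
    (hg : Nat.card G = p ^ a * q ^ b * g₀) (hcop : ¬ p ∣ g₀) (hne : Nat.card G ≠ p) :
    p < 6 ^ (g₀ - 1) := by
  classical
  have := Fintype.ofFinite G
  have := Fintype.ofFinite (Cfsg.IrrCharacter G)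
  have hp : p.Prime := Fact.out
  have hpdvd : p ∣ Nat.card G := by
    rw [hg]
    exact Dvd.dvd.mul_right (Dvd.dvd.mul_right (dvd_pow_self p ha.ne') _) _
  have hnc : ¬ ∀ u v : G, u * v = v * u := by
    intro hcomm
    letI : CommGroup G := { (inferInstance : Group G) with mul_comm := hcomm }
    exact hne ((Nat.prime_dvd_prime_iff_eq hp IsSimpleGroup.prime_card).mp hpdvd).symm
  have hg0 : g₀ ≠ 0 := fun h => hcop (h ▸ dvd_zero p)
  have hg1 : g₀ ≠ 1 := fun h => hnc
    (IsSimpleGroup.comm_iff_isSolvable.mpr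
      (Induced.Burnside.isSolvable_of_card_eq p q a b hp hq (by rw [hg, h, mul_one])))
  by_contra hle
  rw [not_lt] at hle
  have hlt : 6 ^ (g₀ - 1) < p := by
    refine lt_of_le_of_ne hle fun h => ?_
    obtain ⟨n, hn⟩ : ∃ n, g₀ - 1 = n + 1 := ⟨g₀ - 2, by omega⟩
    rw [hn, pow_succ] at h
    have h2 : 2 ∣ p := h ▸ Dvd.dvd.mul_left (by norm_num) _
    have h3 : 3 ∣ p := h ▸ Dvd.dvd.mul_left (by norm_num) _
    have := (Nat.prime_dvd_prime_iff_eq Nat.prime_two hp).mp h2
    have := (Nat.prime_dvd_prime_iff_eq Nat.prime_three hp).mp h3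
    omega
  have hgp : g₀ < p := by
    have : g₀ - 1 < 6 ^ (g₀ - 1) := Nat.lt_pow_self (by norm_num)
    omega
  -- a central element of a Sylow subgroup
  let P : Sylow p G := default
  have hPne : (P : Subgroup G) ≠ ⊥ := by
    intro h
    have := P.not_dvd_index
    rw [h, Subgroup.index_bot] at this
    exact this hpdvd
  haveI : Nontrivial (P : Subgroup G) := (Subgroup.nontrivial_iff_ne_bot _).mpr hPne
  haveI := P.2.center_nontrivial
  obtain ⟨x0, hx0⟩ := exists_prime_orderOf_dvd_card' (G := Subgroup.center (P : Subgroup G)) p (by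
    obtain ⟨k, hk⟩ := IsPGroup.iff_card.mp (P.2.to_subgroup (Subgroup.center (P : Subgroup G)))
    rw [hk]
    refine dvd_pow_self p ?_
    rintro rfl
    exact absurd hk (Finite.one_lt_card.ne'))
  set x : G := ((x0 : (P : Subgroup G)) : G) with hxdef
  have hxord : orderOf x = p := by rw [hxdef, Subgroup.orderOf_coe, Subgroup.orderOf_coe, hx0]
  have hK : ¬ p ∣ (Subgroup.centralizer ({x} : Set G)).index := fun h =>
    P.not_dvd_index (h.trans (Subgroup.index_dvd_of_le fun g hgP => by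
      rw [Subgroup.mem_centralizer_singleton_iff]
      exact congrArg Subtype.val (Subgroup.mem_center_iff.mp x0.2 ⟨g, hgP⟩)))
  -- the character
  obtain ⟨M, hM⟩ := exists_isPModular p hp
  haveI : M.IsMaximal := hM.2.1
  obtain ⟨χ, hχB, hχ1, hχq⟩ : ∃ χ : Cfsg.IrrCharacter G, χ ∈ Cfsg.principalBlock M G ∧
      χ ≠ oneChar G ∧ ¬ q ∣ Cfsg.charDegree (χ : G → ℂ) := by
    by_contra! hall
    have h := weak_orthogonality hM (isPBlock_principalBlock (M := M) (G := G))
      (x := (1 : G)) (y := x) (by simp [hp.ne_one]) (by rw [hxord])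
    rw [finsum_mem_eq_toFinset_sum] at h
    rw [← Finset.add_sum_erase _ _ (Set.mem_toFinset.mpr oneChar_mem_principalBlock)] at h
    simp only [Characters.Basic.oneChar_apply, map_one, mul_one] at h
    set rest := ((Cfsg.principalBlock M G).toFinset.erase (oneChar G)) with hrest
    set w : ℂ := ∑ χ ∈ rest, ((Cfsg.charDegree (χ : G → ℂ) / q : ℕ) : ℂ) *
      conj ((χ : G → ℂ) x) with hw
    have hwi : IsIntegral ℤ w := IsIntegral.sum _ fun χ _ => (isIntegral_natCast _).mul
      (by rw [← apply_inv (isCharacter_irr χ)]; exact isIntegral_apply (isCharacter_irr χ) _)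
    have hqw : ((q : ℤ) : ℂ) * w = ((-1 : ℤ) : ℂ) := by
      push_cast
      rw [hw, Finset.mul_sum, eq_neg_iff_add_eq_zero, add_comm]
      convert h using 2
      refine Finset.sum_congr rfl fun χ hχ => ?_
      obtain ⟨hχne, hχm⟩ := Finset.mem_erase.mp hχ
      rw [BlocksChars5.Basic.apply_one χ, ← mul_assoc, ← Nat.cast_mul,
        Nat.mul_div_cancel' (hall χ (Set.mem_toFinset.mp hχm) hχne)]
    obtain ⟨j, hj⟩ := exists_int hwi (by exact_mod_cast hq.ne_zero) hqw
    rw [hj] at hqw
    have hqj : (q : ℤ) * j = -1 := by exact_mod_cast hqw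
    have := Int.eq_one_or_neg_one_of_mul_eq_neg_one hqj
    have := hq.one_lt
    omega
  -- its degree
  obtain ⟨n, hn0, hndvd, hnv⟩ := Characters.Degree.exists_degree_dvd χ
  have hnq : ¬ q ∣ n := by
    intro h
    apply hχq
    rwa [Cfsg.charDegree, hnv, Complex.natCast_re, Nat.floor_natCast]
  have hn1 : n ∣ p ^ a * g₀ := by
    rw [hg, mul_right_comm] at hndvd
    exact ((hq.coprime_iff_not_dvd.mpr hnq).symm.pow_right b).dvd_of_dvd_mul_right hndvd
  obtain ⟨n1, d, hn1a, hdg, rfl⟩ := exists_dvd_and_dvd_of_dvd_mul hn1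
  obtain ⟨c, -, rfl⟩ := (Nat.dvd_prime_pow hp).mp hn1a
  have hdg' : d ≤ g₀ := Nat.le_of_dvd (Nat.pos_of_ne_zero hg0) hdg
  -- the representation
  obtain ⟨N, ρ, hρ, hρχ⟩ := χ.2
  haveI := hρ
  obtain ⟨ι, hι, bs, μ, hμ, -, hchar⟩ :=
    Characters.Diag.exists_eigenbasis ρ x hp.ne_zero (by rw [← hxord, pow_orderOf_eq_one])
  have hprim : IsPrimitiveRoot (ZMod.stdAddChar (1 : ZMod p) : ℂ) p := by
    rw [IsPrimitiveRoot.iff_def]
    refine ⟨by rw [← AddChar.map_nsmul_eq_pow, nsmul_eq_mul, ZMod.natCast_self, zero_mul,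
      AddChar.map_zero_eq_one], fun l hl => ?_⟩
    rw [← AddChar.map_nsmul_eq_pow, nsmul_eq_mul, mul_one,
      ← AddChar.map_zero_eq_one (ZMod.stdAddChar (N := p))] at hl
    exact (ZMod.natCast_eq_zero_iff _ _).mp (ZMod.injective_stdAddChar hl)
  have hex : ∀ i, ∃ j : ZMod p, (ZMod.stdAddChar j : ℂ) = μ i := by
    intro i
    obtain ⟨l, -, hl⟩ := hprim.eq_pow_of_pow_eq_one (hμ i).2
    exact ⟨(l : ZMod p), by rw [← hl, ← AddChar.map_nsmul_eq_pow, nsmul_eq_mul, mul_one]⟩
  choose e he using hex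
  have hpowk : ∀ (k : ℕ) i, ρ (x ^ k) (bs i) = (ZMod.stdAddChar ((k : ZMod p) * e i) : ℂ) • bs i := by
    intro k i
    induction k with
    | zero => simp
    | succ k ih =>
      rw [pow_succ', map_mul, Module.End.mul_apply, ih, map_smul, (hμ i).1, smul_smul, ← he i,
        ← AddChar.map_add_eq_mul]
      congr 2
      push_cast
      ring
  have hvals : ∀ k : ℕ, (χ : G → ℂ) (x ^ k) =
      ∑ i, (ZMod.stdAddChar ((k : ZMod p) * e i) : ℂ) := by
    intro k
    rw [← hρχ, Representation.character]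
    exact Characters.Diag.trace_eq_sum_eigenvalues bs (ρ (x ^ k)) _ (hpowk k)
  have hcard := card_eigen_le hM χ hχB (x := x) (by rw [← hxord, pow_orderOf_eq_one]) hK
    (c := c) (d := d) hnv (hdg'.trans_lt hgp) e hvals
  -- the power in a short arc
  have hne' : Nonempty ι := by
    by_contra hemp
    rw [not_nonempty_iff] at hemp
    have h := hvals 0
    rw [pow_zero, hnv, Finset.univ_eq_empty, Finset.sum_empty, Nat.cast_eq_zero] at h
    exact hn0.ne' h
  obtain ⟨i0⟩ := hne'
  obtain ⟨k, hk0, hkd⟩ := ArcBox.exists_mult (Finset.univ.image e)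
    (Finset.mem_image_of_mem e (Finset.mem_univ i0))
    (lt_of_le_of_lt (Nat.pow_le_pow_right (by norm_num) (by omega)) hlt)
  set y := x ^ k.val with hy
  set α : ℂ := ZMod.stdAddChar (k * e i0) with hα
  have hunit : ∀ j : ZMod p, conj (ZMod.stdAddChar j : ℂ) * ZMod.stdAddChar j = 1 := fun j =>
    DegreeBounds.Jordan.conj_mul_self_of_pow hp.ne_zero (by
      rw [← AddChar.map_nsmul_eq_pow, nsmul_eq_mul, ZMod.natCast_self, zero_mul,
        AddChar.map_zero_eq_one])
  have hact : ∀ i, ρ y (bs i) = (ZMod.stdAddChar (k * e i) : ℂ) • bs i := fun i => by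
    rw [hy, hpowk, ZMod.natCast_zmod_val]
  haveI : Nonempty ι := ⟨i0⟩
  set r : ℝ := Finset.univ.sup' Finset.univ_nonempty
    fun i => ‖(ZMod.stdAddChar (k * e i) : ℂ) - α‖ with hr
  have hr1 : r < 1 := by
    rw [hr, Finset.sup'_lt_iff]
    intro i _
    obtain ⟨δ, hδ, hδ6⟩ := hkd (e i) (Finset.mem_image_of_mem e (Finset.mem_univ i))
    have h1 : (ZMod.stdAddChar (k * e i) : ℂ) - α = α * ((ZMod.stdAddChar (δ : ZMod p) : ℂ) - 1) := by
      rw [hα, hδ, mul_sub, mul_one, ← AddChar.map_add_eq_mul]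
      congr 2
      ring
    have hnα : ‖α‖ = 1 := by
      have h2 := congrArg (fun z : ℂ => ‖z‖) (hunit (k * e i0))
      simp only [norm_mul, Complex.norm_conj, norm_one] at h2
      rw [hα]
      nlinarith [norm_nonneg (ZMod.stdAddChar (k * e i0) : ℂ)]
    rw [h1, norm_mul, hnα, one_mul]
    exact ArcBox.norm_sub_one_lt hδ6
  have hr0 : 0 ≤ r := le_trans (norm_nonneg _)
    (Finset.le_sup' (fun i => ‖(ZMod.stdAddChar (k * e i) : ℂ) - α‖) (Finset.mem_univ i0))
  have hclose := DegreeBounds.Jordan.close_of_eigen ρ y α r bs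
    (fun i => (ZMod.stdAddChar (k * e i) : ℂ)) hact (fun i => hunit _) hr0
    (fun i => Finset.le_sup' (fun i => ‖(ZMod.stdAddChar (k * e i) : ℂ) - α‖) (Finset.mem_univ i))
  have hy1 : y ≠ 1 := by
    intro h
    have := orderOf_dvd_of_pow_eq_one h
    rw [hxord] at this
    exact hk0 ((ZMod.val_eq_zero k).mp (Nat.eq_zero_of_dvd_of_lt this (ZMod.val_lt k)))
  have hscal := WideArc.scalar_of_close ρ hy1 (hunit _) hr0 hr1 hclose (bs.ne_zero i0) (hact i0)
  -- faithfulness
  have hinj : ∀ g : G, ρ g = 1 → g = 1 := by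
    intro g hg1'
    let Kr : Subgroup G := MonoidHom.ker ρ
    rcases (inferInstance : Kr.Normal).eq_bot_or_eq_top with h | h
    · have hgK : g ∈ Kr := hg1'
      rw [h] at hgK
      exact Subgroup.mem_bot.mp hgK
    · exfalso
      have htriv : ∀ u : G, (χ : G → ℂ) u = (χ : G → ℂ) 1 := fun u => by
        have hu : u ∈ Kr := h ▸ Subgroup.mem_top u
        change ρ u = 1 at hu
        rw [← hρχ, Representation.character, Representation.character, hu, map_one ρ]
      apply hχ1
      have h2 := Characters.Basic.classInner_irr χ (oneChar G)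
      by_contra hne2
      rw [if_neg hne2, Cfsg.classInner] at h2
      simp only [htriv, Characters.Basic.oneChar_apply, map_one, mul_one, Finset.sum_const,
        Finset.card_univ, nsmul_eq_mul] at h2
      rcases mul_eq_zero.mp h2 with h3 | h3
      · exact inv_ne_zero (Nat.cast_ne_zero.mpr Nat.card_pos.ne') h3
      · rcases mul_eq_zero.mp h3 with h4 | h4
        · exact Nat.cast_ne_zero.mpr Fintype.card_ne_zero h4
        · exact Characters.Basic.apply_one_ne_zero χ h4
  have hcen : y ∈ Subgroup.center G := by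
    rw [Subgroup.mem_center_iff]
    intro g
    have h : ρ (g * y) = ρ (y * g) := LinearMap.ext fun w => by
      rw [map_mul, map_mul, Module.End.mul_apply, Module.End.mul_apply, hscal, hscal, map_smul]
    have h2 : ρ ((y * g)⁻¹ * (g * y)) = 1 := by
      rw [map_mul, h, ← map_mul, inv_mul_cancel, map_one]
    exact (inv_mul_eq_one.mp (hinj _ h2)).symm
  rcases (inferInstance : (Subgroup.center G).Normal).eq_bot_or_eq_top with h | h
  · rw [h] at hcen
    exact hy1 (Subgroup.mem_bot.mp hcen)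
  · exact hnc fun u v => (Subgroup.mem_center_iff.mp (h ▸ Subgroup.mem_top v) u)

end Cfsg.Agent.Lib.BC77.SimpleBound
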