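import Cfsg.Agent.Lib.BC77.PSolvBound
import Cfsg.Agent.Lib.Cores.InvariantSylow
import Cfsg.Agent.Lib.Clifford.Monomial

/-!
# p-solvable linear groups of degree at most p - 1
-/

set_option autoImplicit false

namespace Cfsg.Agent.Lib.BC77.SmallDegree

open Cfsg.Agent.Lib.Characters.Basic

universe u

variable (p : ℕ) [Fact p.Prime]

theorem schurSum_eq_zero {N n : ℕ} (hn : n + 1 < p) : SchurBound.schurSum p N n = 0 := by
  refine Finset.sum_eq_zero fun i _ => Nat.div_eq_of_lt ?_
  calc n < p - 1 := by omega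
    _ ≤ (p - 1) * p ^ i := Nat.le_mul_of_pos_right _ (pow_pos (Fact.out : p.Prime).pos i)

variable {G : Type u} [Group G] [Finite G]

/-- Below degree `p - 1` the Sylow p-subgroup is normal. -/
theorem normal_of_lt (hsolv : Cfsg.IsPSolvable p G) {χ : G → ℂ} (hχ : Cfsg.IsCharacter G χ)
    (hf : ∀ g : G, χ g = χ 1 → g = 1) {n : ℕ} (hn : χ 1 = n) (hlt : n + 1 < p) (P : Sylow p G) :
    (P : Subgroup G).Normal := by
  have hp : p.Prime := Fact.out
  have h := PSolvBound.main p hsolv hχ hf hn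
  rw [schurSum_eq_zero p hlt, Nat.le_zero] at h
  have hidx : ¬ p ∣ (Cfsg.pCore p G).index := by
    intro hd
    have hpos := hp.factorization_pos_of_dvd Subgroup.index_ne_zero_of_finite hd
    omega
  have hS : (IsPGroup.toSylow (Cores.pCore_isPGroup p) hidx : Sylow p G).1 = Cfsg.pCore p G := rfl
  have hle := Cores.pCore_le_sylow P
  have he : (P : Subgroup G) = Cfsg.pCore p G :=
    ((IsPGroup.toSylow (Cores.pCore_isPGroup p) hidx).is_maximal' P.2 (hS.symm ▸ hle))
  rw [he]
  infer_instance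

/-- A split faithful character of degree at most `p - 1` forces a normal Sylow subgroup. -/
theorem normal_of_split (hsolv : Cfsg.IsPSolvable p G) {u w : G → ℂ}
    (hu : Cfsg.IsCharacter G u) (hw : Cfsg.IsCharacter G w)
    (hf : ∀ g : G, (u + w) g = (u + w) 1 → g = 1) {a b : ℕ} (ha : u 1 = a) (hb : w 1 = b)
    (hla : a + 1 < p) (hlb : b + 1 < p) (P : Sylow p G) : (P : Subgroup G).Normal := by
  classical
  have hp : p.Prime := Fact.out
  -- the preimage of the normal Sylow subgroup of each quotient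
  have key : ∀ {v : G → ℂ} (hv : Cfsg.IsCharacter G v) {d : ℕ}, v 1 = d → d + 1 < p →
      ∃ M : Subgroup G, M.Normal ∧ (P : Subgroup G) ≤ M ∧
        ∀ m ∈ M, ∃ k : ℕ, v (m ^ p ^ k) = v 1 := by
    intro v hv d hd hld
    set K := Characters.Kernel.charKer hv
    haveI : K.Normal := Characters.Kernel.charKer_normal hv
    obtain ⟨v', hv', hve, -⟩ := Characters.Kernel.exists_descend K hv
      fun g hg => (Characters.Kernel.mem_charKer hv g).mp hg
    have hv'f : ∀ x : G ⧸ K, v' x = v' 1 → x = 1 := by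
      intro x hx
      obtain ⟨g, rfl⟩ := QuotientGroup.mk_surjective x
      exact (QuotientGroup.eq_one_iff g).mpr
        ((Characters.Kernel.mem_charKer hv g).mpr (by
          rw [show v g = v' (g : G ⧸ K) from (congrFun hve g).symm, hx,
            show v 1 = v' ((1 : G) : G ⧸ K) from (congrFun hve 1).symm, QuotientGroup.mk_one]))
    have hv'1 : v' 1 = d := by
      rw [← QuotientGroup.mk_one, show v' ((1 : G) : G ⧸ K) = v 1 from congrFun hve 1, hd]
    let S := P.mapSurjective (QuotientGroup.mk'_surjective K)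
    have hSn : (S : Subgroup (G ⧸ K)).Normal :=
      normal_of_lt p (PSolvable.isPSolvable_quotient hsolv K) hv' hv'f hv'1 hld S
    refine ⟨(S : Subgroup (G ⧸ K)).comap (QuotientGroup.mk' K), Subgroup.Normal.comap hSn _,
      fun x hx => ⟨x, hx, rfl⟩, fun m hm => ?_⟩
    obtain ⟨k, hk⟩ := S.2 ⟨_, hm⟩
    refine ⟨k, ?_⟩
    have h1 : ((m ^ p ^ k : G) : G ⧸ K) = 1 := by
      have h := congrArg Subtype.val hk
      rw [QuotientGroup.mk_pow]
      exact h
    exact (Characters.Kernel.mem_charKer hv _).mp ((QuotientGroup.eq_one_iff _).mp h1)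
  obtain ⟨M1, hM1, hP1, h1⟩ := key hu ha hla
  obtain ⟨M2, hM2, hP2, h2⟩ := key hw hb hlb
  haveI := hM1
  haveI := hM2
  have hM : IsPGroup p (M1 ⊓ M2 : Subgroup G) := by
    intro m
    obtain ⟨k1, e1⟩ := h1 m m.2.1
    obtain ⟨k2, e2⟩ := h2 m m.2.2
    refine ⟨k1 + k2, Subtype.ext ?_⟩
    rw [SubgroupClass.coe_pow, OneMemClass.coe_one]
    refine hf _ ?_
    have e1' : (m : G) ^ p ^ (k1 + k2) ∈ Characters.Kernel.charKer hu := by
      rw [pow_add, pow_mul]
      exact Subgroup.pow_mem _ ((Characters.Kernel.mem_charKer hu _).mpr e1) _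
    have e2' : (m : G) ^ p ^ (k1 + k2) ∈ Characters.Kernel.charKer hw := by
      rw [add_comm, pow_add, pow_mul]
      exact Subgroup.pow_mem _ ((Characters.Kernel.mem_charKer hw _).mpr e2) _
    rw [Pi.add_apply, Pi.add_apply, (Characters.Kernel.mem_charKer hu _).mp e1',
      (Characters.Kernel.mem_charKer hw _).mp e2']
  have he : (M1 ⊓ M2 : Subgroup G) = P := P.is_maximal' hM (le_inf hP1 hP2)
  rw [← he]
  exact Subgroup.normal_inf_normal M1 M2

/-- A faithful character of degree at most `p - 1` is irreducible unless a Sylow is normal. -/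
theorem irr_of_not_normal (hsolv : Cfsg.IsPSolvable p G) {χ : G → ℂ}
    (hχ : Cfsg.IsCharacter G χ) (hf : ∀ g : G, χ g = χ 1 → g = 1) {n : ℕ} (hn : χ 1 = n)
    (hle : n + 1 ≤ p) (P : Sylow p G) (hP : ¬ (P : Subgroup G).Normal) :
    n + 1 = p ∧ Cfsg.IsIrrCharacter G χ := by
  classical
  have := Fintype.ofFinite G
  have hnp : n + 1 = p := by
    by_contra h
    exact hP (normal_of_lt p hsolv hχ hf hn (by omega) P)
  refine ⟨hnp, ?_⟩
  have hne : χ ≠ 0 := by
    intro h0
    rw [h0, Pi.zero_apply] at hn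
    have : (n : ℂ) = 0 := hn.symm
    rw [Nat.cast_eq_zero] at this
    have := (Fact.out : p.Prime).two_le
    omega
  obtain ⟨a, ha⟩ := Clifford.Basic.exists_constituent hχ hne
  obtain ⟨m, r, hr, hm, -, hχe⟩ := Clifford.Basic.exists_eq_nsmul_add hχ a
  have hm0 : m ≠ 0 := fun h0 => ha (by rw [hm, h0, Nat.cast_zero])
  obtain ⟨k, rfl⟩ := Nat.exists_eq_succ_of_ne_zero hm0
  set w := k • (a : G → ℂ) + r with hwdef
  have hw : Cfsg.IsCharacter G w := isCharacter_add (isCharacter_nsmul (isCharacter_irr a) k) hr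
  have he : χ = (a : G → ℂ) + w := by rw [hwdef, hχe, succ_nsmul]; abel
  obtain ⟨da, hda0, hda⟩ := exists_degree_pos a
  obtain ⟨db, hdb⟩ := exists_degree hw
  rcases Nat.eq_zero_or_pos db with rfl | hdb0
  · rw [he, Clifford.Basic.eq_zero_of_apply_one_eq_zero hw (by rw [hdb, Nat.cast_zero]),
      add_zero]
    exact a.2
  · refine absurd (normal_of_split p hsolv (isCharacter_irr a) hw (fun g hg => hf g ?_) hda hdb
      ?_ ?_ P) hP
    · rw [he]; exact hg
    all_goals
      have hsum : (n : ℂ) = ((da + db : ℕ) : ℂ) := by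
        rw [← hn, he, Pi.add_apply, hda, hdb, Nat.cast_add]
      rw [Nat.cast_inj] at hsum
      omega

/-- A degree `p - 1` is then a power of 2. -/
theorem degree_two_pow (hsolv : Cfsg.IsPSolvable p G) {χ : G → ℂ} (hχ : Cfsg.IsCharacter G χ)
    (hf : ∀ g : G, χ g = χ 1 → g = 1) {n : ℕ} (hn : χ 1 = n) (hle : n + 1 ≤ p) (P : Sylow p G)
    (hP : ¬ (P : Subgroup G).Normal) : ∃ k : ℕ, n = 2 ^ k := by
  classical
  have hp : p.Prime := Fact.out
  obtain ⟨hnp, -⟩ := irr_of_not_normal p hsolv hχ hf hn hle P hP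
  rcases Nat.lt_or_ge p 3 with h3 | h3
  · exact ⟨0, by have := hp.two_le; rw [pow_zero]; omega⟩
  obtain ⟨K, Q, hK, hQ, hQK, hC⟩ := PSolvBound.exists_action p hsolv
  -- some element acts non-trivially
  obtain ⟨q, hq⟩ : ∃ q : Q, ∃ k ∈ K, (q : G) * k ≠ k * q := by
    by_contra! hc
    have h := hC ⊤ fun x _ => hc x
    rw [Subgroup.index_top] at h
    apply hP
    have hidx : ¬ p ∣ (Cfsg.pCore p G).index := by
      intro hd
      have hpos := hp.factorization_pos_of_dvd Subgroup.index_ne_zero_of_finite hd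
      exact absurd h (not_le.mpr (Nat.one_lt_pow hpos.ne' hp.one_lt))
    have hS : (IsPGroup.toSylow (Cores.pCore_isPGroup p) hidx : Sylow p G).1 = Cfsg.pCore p G :=
      rfl
    rw [(IsPGroup.toSylow (Cores.pCore_isPGroup p) hidx).is_maximal' P.2
      (hS.symm ▸ Cores.pCore_le_sylow P)]
    show (Cfsg.pCore p G).Normal
    infer_instance
  obtain ⟨a, haQ⟩ := IsPGroup.iff_card.mp hQ
  have hcop : (Nat.card Q).Coprime (Nat.card K) := by
    rw [haQ]; exact PRational.coprime_of_not_dvd p hK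
  -- an invariant subgroup of prime power order which is not centralized
  obtain ⟨l, hl, S, hSK, hSl, hQS, hnc⟩ : ∃ l : ℕ, l.Prime ∧ ∃ S : Subgroup G, S ≤ K ∧
      IsPGroup l S ∧ Q ≤ Subgroup.normalizer (S : Set G) ∧
      ∃ s ∈ S, (q : G) * s ≠ s * q := by
    by_contra hc
    push Not at hc
    obtain ⟨k, hk, hne⟩ := hq
    apply hne
    let C : Subgroup G := K ⊓ Subgroup.centralizer ({(q : G)} : Set G)
    have hCK : C = K := by
      refine Subgroup.eq_of_le_of_card_ge inf_le_left (Nat.le_of_dvd Nat.card_pos ?_)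
      refine (Nat.dvd_iff_prime_pow_dvd_dvd _ _).mpr fun l k hl hdvd => ?_
      have := Fact.mk hl
      obtain ⟨S, hSK, hSl, hSidx, hQS⟩ := Cores.InvariantSylow.exists_invariant hQK hcop
        (Or.inl (by have := hQ.isNilpotent; infer_instance)) l
      have hSC : S ≤ C := le_inf hSK fun s hs =>
        Subgroup.mem_centralizer_singleton_iff.mpr (hc l hl S hSK hSl hQS s hs).symm
      refine dvd_trans ?_ (Subgroup.card_dvd_of_le hSC)
      have h1 := Subgroup.relIndex_mul_relIndex ⊥ S K bot_le hSK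
      rw [Subgroup.relIndex_bot_left, Subgroup.relIndex_bot_left] at h1
      rw [← h1] at hdvd
      exact ((hl.coprime_iff_not_dvd.mpr hSidx).pow_left k).dvd_of_dvd_mul_right hdvd
    have hkC : k ∈ C := hCK.symm ▸ hk
    exact (Subgroup.mem_centralizer_singleton_iff.mp hkC.2).symm
  have := Fact.mk hl
  obtain ⟨b, hb⟩ := IsPGroup.iff_card.mp hSl
  have hlp : l ≠ p := by
    rintro rfl
    obtain ⟨s, hs, hne⟩ := hnc
    have hdvd : Nat.card S ∣ Nat.card K := Subgroup.card_dvd_of_le hSK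
    rcases Nat.eq_zero_or_pos b with rfl | hb0
    · rw [pow_zero, Subgroup.card_eq_one] at hb
      rw [hb, Subgroup.mem_bot] at hs
      exact hne (by rw [hs, mul_one, one_mul])
    · exact hK ((hb ▸ dvd_pow_self l hb0.ne').trans hdvd)
  set H := Q ⊔ S
  have hHc : Nat.card H = p ^ a * l ^ b := by
    rw [← haQ, ← hb]
    refine Coprime.card_sup_of_disjoint hQS (disjoint_iff.mpr (Coprime.inf_eq_bot_of_coprime ?_))
    exact hcop.of_dvd_right (Subgroup.card_dvd_of_le hSK)
  have hχH : Cfsg.IsCharacter H fun x : H => χ x := isCharacter_comp H.subtype hχ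
  let PH : Sylow p H := default
  have hPH : ¬ (PH : Subgroup H).Normal := by
    intro hPn
    obtain ⟨s, hs, hne⟩ := hnc
    apply hne
    set s' : H := ⟨s, le_sup_right (a := Q) hs⟩
    set q' : H := ⟨q, le_sup_left (b := S) q.2⟩
    haveI := hPn
    haveI : (S.subgroupOf H).Normal :=
      (Subgroup.normal_subgroupOf_iff_le_normalizer le_sup_right).mpr
        (sup_le hQS Subgroup.le_normalizer)
    have hq' : q' ∈ (PH : Subgroup H) := by
      obtain ⟨j, hj⟩ := hQ q
      have hz : IsPGroup p (Subgroup.zpowers q') := IsPGroup.of_card_dvd_pow (n := j) (by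
        rw [Nat.card_zpowers]
        exact orderOf_dvd_of_pow_eq_one (Subtype.ext (congrArg Subtype.val hj :)))
      exact (PH.is_maximal' (hz.to_sup_of_normal_right PH.2) le_sup_right).le
        (Subgroup.mem_sup_left (Subgroup.mem_zpowers q'))
    have hdisj : Disjoint (PH : Subgroup H) (S.subgroupOf H) := by
      refine disjoint_iff.mpr (Coprime.inf_eq_bot_of_coprime ?_)
      obtain ⟨j, hj⟩ := IsPGroup.iff_card.mp PH.2
      rw [hj, Nat.card_congr (Subgroup.subgroupOfEquivOfLe le_sup_right).toEquiv, hb]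
      exact Nat.Coprime.pow _ _ ((Nat.coprime_primes hp hl).mpr hlp.symm)
    have h := Subgroup.commute_of_normal_of_disjoint _ _ hPn inferInstance hdisj q' s' hq'
      (Subgroup.mem_subgroupOf.mpr hs)
    exact congrArg Subtype.val h.eq
  obtain ⟨-, hirr⟩ := irr_of_not_normal p (PSolvable.isPSolvable_subgroup hsolv H) hχH
    (fun x hx => Subtype.ext (hf x hx)) (n := n) (by simpa using hn) hle PH hPH
  obtain ⟨d, -, hdvd, hd⟩ := Characters.Degree.exists_degree_dvd (⟨_, hirr⟩ : Cfsg.IrrCharacter H)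
  have hdn : d = n := by
    have h : (d : ℂ) = n := by rw [← hd]; simpa using hn
    exact_mod_cast h
  rw [hdn, hHc] at hdvd
  have hcp : n.Coprime (p ^ a) :=
    (Nat.Coprime.pow_right a (Nat.coprime_comm.mp (hp.coprime_iff_not_dvd.mpr fun h => by
      have := Nat.le_of_dvd (by omega) h
      omega)))
  obtain ⟨j, -, hj⟩ := (Nat.dvd_prime_pow hl).mp (hcp.dvd_of_dvd_mul_left hdvd)
  -- `n` is even
  have heven : 2 ∣ n := by
    rcases hp.eq_two_or_odd with h | h
    · omega
    · omega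
  rw [hj] at heven
  obtain rfl : 2 = l := (Nat.prime_dvd_prime_iff_eq Nat.prime_two hl).mp
    (Nat.prime_two.dvd_of_dvd_pow heven)
  exact ⟨j, hj⟩

end Cfsg.Agent.Lib.BC77.SmallDegree
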