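import Cfsg.Agent.Lib.DegreeBounds.Jordan

/-!
# Blichfeldt's sixty degree lemma for simple linear groups

If a unitary element `y` moves every vector by less than its length away from the multiple by one
of its eigenvalues, then every conjugate of `y` preserves that eigenspace.
-/

set_option autoImplicit false

namespace Cfsg.Agent.Lib.BC77.WideArc

open scoped ComplexConjugate
open Cfsg.Agent.Lib.DegreeBounds.Jordan

universe u

variable {G : Type u} [Group G] [Fintype G] {m : ℕ} (ρ : Representation ℂ G (Fin m → ℂ))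

/-- One step of the commutator iteration on the eigenspace. -/
theorem step_le {y : G} {a : ℂ} {r : ℝ} (ha : conj a * a = 1) (hy : Close ρ y a r) (e : G)
    (s : ℂ) {v : Fin m → ℂ} (hv : ρ y v = a • v) :
    ‖orbitEmb ρ (ρ (e⁻¹ * y * e * y⁻¹) v - v)‖ ≤ r * ‖orbitEmb ρ (ρ e v - s • v)‖ := by
  have ha0 : a ≠ 0 := right_ne_zero_of_mul_eq_one ha
  have hinv : ρ y⁻¹ v = a⁻¹ • v := by
    have h1 : ρ y⁻¹ (ρ y v) = v := by
      rw [← Module.End.mul_apply, ← map_mul, inv_mul_cancel, map_one, Module.End.one_apply]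
    rw [hv, map_smul] at h1
    rw [← h1, smul_smul, inv_mul_cancel₀ ha0, one_smul, h1]
  have hee : v = ρ e⁻¹ (ρ e v) := by
    rw [← Module.End.mul_apply, ← map_mul, inv_mul_cancel, map_one, Module.End.one_apply]
  have key : ρ (e⁻¹ * y * e * y⁻¹) v - v =
      a⁻¹ • ρ e⁻¹ (ρ y (ρ e v) - a • ρ e v) := by
    rw [map_sub, map_smul, ← hee, smul_sub, smul_smul, inv_mul_cancel₀ ha0, one_smul, map_mul,
      map_mul, map_mul, Module.End.mul_apply, Module.End.mul_apply, Module.End.mul_apply, hinv]
    simp only [map_smul]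
  have key2 : ρ y (ρ e v) - a • ρ e v = ρ y (ρ e v - s • v) - a • (ρ e v - s • v) := by
    rw [map_sub, map_smul, hv, smul_sub, smul_comm a s]
    abel
  have hna : ‖a⁻¹‖ = 1 := by
    have h := congrArg (fun z : ℂ => ‖z‖) ha
    simp only [norm_mul, Complex.norm_conj, norm_one] at h
    rw [norm_inv, inv_eq_one]
    nlinarith [norm_nonneg a]
  rw [key, map_smul, norm_smul, hna, one_mul, norm_invariant, key2]
  exact hy _

/-- If `e⁻¹ y e y⁻¹` preserves the eigenspace and `e` moves it little, so does `e`. -/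
theorem descend {y : G} {a : ℂ} {r : ℝ} (ha : conj a * a = 1) (hr : 0 ≤ r) (hr1 : r < 1)
    {e : G} {s : ℂ} (hs : conj s * s = 1)
    (hclose : ∀ v, ρ y v = a • v → ‖orbitEmb ρ (ρ e v - s • v)‖ ≤ r * ‖orbitEmb ρ v‖)
    (hnext : ∀ v, ρ y v = a • v →
      ρ y (ρ (e⁻¹ * y * e * y⁻¹) v) = a • ρ (e⁻¹ * y * e * y⁻¹) v)
    (v : Fin m → ℂ) (hv : ρ y v = a • v) : ρ y (ρ e v) = a • ρ e v := by
  set y' := e⁻¹ * y * e with hy'
  have hfix : ρ y (ρ y' v) = a • ρ y' v := by
    have h := hnext (a • v) (by rw [map_smul, hv])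
    have e1 : ρ (e⁻¹ * y * e * y⁻¹) (a • v) = ρ y' v := by
      rw [← hv, ← Module.End.mul_apply, ← map_mul, inv_mul_cancel_right]
    rwa [e1] at h
  set z := ρ y' v - a • v with hz
  have hzW : ρ y z = a • z := by
    rw [hz, map_sub, map_smul, hfix, hv, smul_sub]
  set w := ρ e⁻¹ z with hw
  have hww : ρ y' w = a • w := by
    rw [hw, ← Module.End.mul_apply, ← map_mul, hy', mul_assoc, mul_inv_cancel, mul_one, map_mul,
      Module.End.mul_apply, hzW, map_smul]
  have h1 : inner ℂ (orbitEmb ρ z) (orbitEmb ρ w) = (0 : ℂ) := by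
    have h := inner_invariant ρ y' v w
    rw [hww, map_smul, inner_smul_right] at h
    rw [hz, map_sub, map_smul, inner_sub_left, inner_smul_left, ← h, ← mul_assoc, ha, one_mul,
      sub_self]
  have h2 : inner ℂ (orbitEmb ρ (ρ e z)) (orbitEmb ρ z) = (0 : ℂ) := by
    have h := inner_invariant ρ e z w
    rw [h1] at h
    have e1 : ρ e w = z := by
      rw [hw, ← Module.End.mul_apply, ← map_mul, mul_inv_cancel, map_one, Module.End.one_apply]
    rwa [e1] at h
  have hz0 : orbitEmb ρ z = 0 := by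
    by_contra hne
    have hp : 0 < ‖orbitEmb ρ z‖ := norm_pos_iff.mpr hne
    have h3 := hclose z hzW
    rw [map_sub, map_smul] at h3
    have h4 := norm_sub_sq (𝕜 := ℂ) (orbitEmb ρ (ρ e z)) (s • orbitEmb ρ z)
    rw [inner_smul_right, h2, mul_zero, map_zero, mul_zero, sub_zero, norm_invariant] at h4
    have h5 := pow_le_pow_left₀ (norm_nonneg _) h3 2
    rw [h4, mul_pow] at h5
    have h6 := mul_lt_mul_of_pos_right (show r ^ 2 < 1 by nlinarith) (pow_pos hp 2)
    nlinarith [sq_nonneg ‖s • orbitEmb ρ z‖]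
  have hzz : z = 0 := orbitEmb_injective ρ (by rw [hz0, map_zero])
  have hyv : ρ y' v = a • v := sub_eq_zero.mp hzz
  have e2 : ρ y (ρ e v) = ρ e (ρ y' v) := by
    simp only [hy', ← Module.End.mul_apply, ← map_mul]
    simp [mul_assoc]
  rw [e2, hyv, map_smul]

/-- Every conjugate of a wide-arc element preserves the eigenspace. -/
theorem conj_preserves {y : G} {a : ℂ} {r : ℝ} (ha : conj a * a = 1) (hr : 0 ≤ r) (hr1 : r < 1)
    (hy : Close ρ y a r) (c : G) (v : Fin m → ℂ) (hv : ρ y v = a • v) :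
    ρ y (ρ (c * y * c⁻¹) v) = a • ρ (c * y * c⁻¹) v := by
  set b := c * y * c⁻¹
  let f : G → G := fun e => e⁻¹ * y * e * y⁻¹
  let E : ℕ → G := fun n => f^[n] (f b)
  have hEs : ∀ n, E (n + 1) = f (E n) := fun n => Function.iterate_succ_apply' f n (f b)
  have hE0 : ∀ w, ρ y w = a • w →
      ‖orbitEmb ρ (ρ (E 0) w - w)‖ ≤ r * ‖orbitEmb ρ w‖ := by
    intro w hw
    refine (step_le ρ ha hy b a hw).trans ?_
    refine mul_le_mul_of_nonneg_left ((close_conj ρ hy c w).trans ?_) hr
    exact mul_le_of_le_one_left (norm_nonneg _) hr1.le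
  have hstep : ∀ n w, ρ y w = a • w →
      ‖orbitEmb ρ (ρ (E (n + 1)) w - w)‖ ≤ r * ‖orbitEmb ρ (ρ (E n) w - w)‖ := by
    intro n w hw
    have h := step_le ρ ha hy (E n) 1 hw
    rw [one_smul] at h
    rw [hEs n]
    exact h
  have hbound : ∀ n w, ρ y w = a • w →
      ‖orbitEmb ρ (ρ (E n) w - w)‖ ≤ r * ‖orbitEmb ρ w‖ := by
    intro n
    induction n with
    | zero => exact hE0
    | succ n ih =>
      intro w hw
      refine (hstep n w hw).trans (mul_le_mul_of_nonneg_left ((ih w hw).trans ?_) hr)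
      exact mul_le_of_le_one_left (norm_nonneg _) hr1.le
  -- some term fixes the eigenspace
  obtain ⟨i, j, hne, hij⟩ := Finite.exists_ne_map_eq_of_infinite E
  wlog hlt : i < j generalizing i j
  · exact this j i hne.symm hij.symm (lt_of_le_of_ne (not_lt.mp hlt) hne.symm)
  obtain ⟨d, rfl⟩ := Nat.exists_eq_add_of_lt hlt
  have hfix : ∀ w, ρ y w = a • w → ρ (E i) w = w := by
    intro w hw
    have hpow : ∀ k, ‖orbitEmb ρ (ρ (E (i + k)) w - w)‖ ≤
        r ^ k * ‖orbitEmb ρ (ρ (E i) w - w)‖ := by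
      intro k
      induction k with
      | zero => simp
      | succ k ih =>
        refine (hstep (i + k) w hw).trans ?_
        rw [pow_succ', mul_assoc]
        exact mul_le_mul_of_nonneg_left ih hr
    have h := hpow (d + 1)
    rw [← add_assoc, ← hij] at h
    have h2 : r ^ (d + 1) < 1 := pow_lt_one₀ hr hr1 (Nat.succ_ne_zero d)
    have h3 : ‖orbitEmb ρ (ρ (E i) w - w)‖ = 0 := by
      nlinarith [norm_nonneg (orbitEmb ρ (ρ (E i) w - w))]
    exact sub_eq_zero.mp (orbitEmb_injective ρ (by rw [norm_eq_zero.mp h3, map_zero]))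
  -- descend to the first term
  have hdown : ∀ k, k ≤ i → ∀ w, ρ y w = a • w → ρ y (ρ (E k) w) = a • ρ (E k) w := by
    intro k hk
    induction hn : i - k generalizing k with
    | zero =>
      intro w hw
      rw [show k = i by omega, hfix w hw, hw]
    | succ n ih =>
      intro w hw
      refine descend ρ ha hr hr1 (s := 1) (by simp) (fun u hu => ?_) (fun u hu => ?_) w hw
      · rw [one_smul]; exact hbound k u hu
      · have h := ih (k + 1) (by omega) (by omega) u hu
        rwa [hEs k] at h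
  exact descend ρ ha hr hr1 (s := a) ha (fun u _ => close_conj ρ hy c u)
    (fun u hu => hdown 0 (Nat.zero_le _) u hu) v hv

/-- A wide-arc element of an irreducible simple linear group acts as a scalar. -/
theorem scalar_of_close [IsSimpleGroup G] [hρ : ρ.IsIrreducible] {y : G} (hy1 : y ≠ 1) {a : ℂ}
    {r : ℝ} (ha : conj a * a = 1) (hr : 0 ≤ r) (hr1 : r < 1) (hy : Close ρ y a r)
    {v : Fin m → ℂ} (hv0 : v ≠ 0) (hv : ρ y v = a • v) (w : Fin m → ℂ) : ρ y w = a • w := by
  set W : Submodule ℂ (Fin m → ℂ) := LinearMap.ker (ρ y - a • LinearMap.id) with hWdef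
  have hW : ∀ u, u ∈ W ↔ ρ y u = a • u := fun u => by
    rw [hWdef, LinearMap.mem_ker, LinearMap.sub_apply, LinearMap.smul_apply, LinearMap.id_apply,
      sub_eq_zero]
  let S : Subgroup G :=
    { carrier := {g | ∀ u, ρ y u = a • u ↔ ρ y (ρ g u) = a • ρ g u}
      one_mem' := fun u => by simp
      mul_mem' := fun {g h} hg hh u => by
        rw [map_mul, Module.End.mul_apply]
        exact (hh u).trans (hg _)
      inv_mem' := fun {g} hg u => by
        have e : ρ g (ρ g⁻¹ u) = u := by
          rw [← Module.End.mul_apply, ← map_mul, mul_inv_cancel, map_one, Module.End.one_apply]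
        have h := hg (ρ g⁻¹ u)
        rw [e] at h
        exact h.symm }
  have hconj : ∀ c : G, c * y * c⁻¹ ∈ S := by
    intro c u
    refine ⟨conj_preserves ρ ha hr hr1 hy c u, fun hu => ?_⟩
    have hall : ∀ k : ℕ, ρ y (ρ ((c * y * c⁻¹) ^ (k + 1)) u) =
        a • ρ ((c * y * c⁻¹) ^ (k + 1)) u := by
      intro k
      induction k with
      | zero => simpa using hu
      | succ k ih =>
        rw [pow_succ', map_mul, Module.End.mul_apply]
        exact conj_preserves ρ ha hr hr1 hy c _ ih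
    have h := hall (orderOf (c * y * c⁻¹) - 1)
    rw [Nat.sub_add_cancel (orderOf_pos (c * y * c⁻¹)), pow_orderOf_eq_one, map_one] at h
    simpa using h
  have hN : Subgroup.normalClosure ({y} : Set G) = ⊤ := by
    refine (Subgroup.normalClosure_normal.eq_bot_or_eq_top).resolve_left fun h => hy1 ?_
    have := Subgroup.subset_normalClosure (Set.mem_singleton y)
    rw [h] at this
    exact Subgroup.mem_bot.mp this
  have hS : ∀ g : G, g ∈ S := by
    intro g
    have hle : Subgroup.normalClosure ({y} : Set G) ≤ S := by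
      refine (Subgroup.closure_le S).mpr fun z hz => ?_
      obtain ⟨y0, hy0, hyz⟩ := Group.mem_conjugatesOfSet_iff.mp hz
      rw [Set.mem_singleton_iff] at hy0
      subst hy0
      obtain ⟨c, rfl⟩ := isConj_iff.mp hyz
      exact hconj c
    exact hle (hN ▸ Subgroup.mem_top g)
  let σ : Subrepresentation ρ :=
    ⟨W, fun g u hu => (hW _).mpr ((hS g u).mp ((hW u).mp hu))⟩
  have htop : W = ⊤ := by
    rcases IsSimpleOrder.eq_bot_or_eq_top σ with h | h
    · exfalso
      have h' : W = ⊥ := congrArg Subrepresentation.toSubmodule h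
      have := (hW v).mpr hv
      rw [h'] at this
      exact hv0 ((Submodule.mem_bot ℂ).mp this)
    · exact congrArg Subrepresentation.toSubmodule h
  exact (hW w).mp (htop ▸ Submodule.mem_top)

end Cfsg.Agent.Lib.BC77.WideArc
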