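import Cfsg.Agent.Lib.BC77.ThreePrime.Sylow
import Cfsg.Agent.Lib.BC77.WideArc
import Cfsg.Agent.Lib.Clifford.Basic
import Cfsg.Agent.Lib.PGroups.Omega
import Cfsg.Agent.Lib.PSolvable.Basic
import Cfsg.Agent.Lib.Characters.Degree

/-!
# Irreducible linear groups of degree less than `2 p` with non-abelian Sylow `p`-subgroup

A central commutator of a Sylow subgroup has `p` eigenvalues `ξ` and the others `1`; its conjugates
commute, so the group permutes the linear constituents of an abelian normal subgroup.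
-/

set_option autoImplicit false

namespace Cfsg.Agent.Lib.BC77.SmallTwoP

open scoped ComplexConjugate commutatorElement
open Cfsg.Agent.Lib.Characters.Basic
open Cfsg.Agent.Lib.DegreeBounds.Jordan (close_of_eigen conj_mul_self_of_pow Close)
open Cfsg.Agent.Lib.Characters.Linear (degOneHom degOneHom_apply degree_eq_one_of_comm
  apply_mul_of_degree_one)

universe u

section General

variable {G : Type u} [Group G] [Finite G]

/-- A central element acts by a root of unity in an irreducible character. -/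
theorem central_value (χ : Cfsg.IrrCharacter G) {z : G} (hz : ∀ g : G, z * g = g * z) :
    ∃ c : ℂ, (∀ N : ℕ, z ^ N = 1 → c ^ N = 1) ∧
      ∀ l : ℕ, (χ : G → ℂ) (z ^ l) = (χ : G → ℂ) 1 * c ^ l := by
  obtain ⟨n, ρ, hρ, hχ⟩ := χ.2
  haveI := hρ
  obtain ⟨c, hc⟩ := Clifford.Rep.schur ρ (ρ z) fun g => by rw [← map_mul, ← map_mul, hz g]
  have hl : ∀ l : ℕ, ρ (z ^ l) = c ^ l • (1 : Module.End ℂ (Fin n → ℂ)) := fun l => by
    rw [map_pow, hc, smul_pow, one_pow]
  refine ⟨c, fun N hN => ?_, fun l => ?_⟩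
  · have h := hl N
    rw [hN, map_one] at h
    have := Clifford.Rep.nontrivial_of_irreducible ρ
    obtain ⟨v, hv⟩ := exists_ne (0 : Fin n → ℂ)
    have h1 := LinearMap.congr_fun h v
    rw [LinearMap.smul_apply, Module.End.one_apply] at h1
    by_contra hne
    have : (c ^ N - 1) • v = 0 := by rw [sub_smul, one_smul, ← h1, sub_self]
    rcases smul_eq_zero.mp this with h0 | h0
    · exact hne (sub_eq_zero.mp h0)
    · exact hv h0
  · rw [← hχ, Representation.character, hl, map_smul, Representation.character, map_one ρ,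
      smul_eq_mul, mul_comm]

theorem multiset_apply {H : Type u} (m : Multiset (H → ℂ)) (h : H) :
    m.sum h = (m.map fun f => f h).sum := by
  induction m using Multiset.induction_on with
  | empty => simp
  | cons a s ih => simp [ih]

/-- Members of a decomposition are constituents. -/
theorem classInner_ne_zero_of_mem [Fintype G] {m : Multiset (Cfsg.IrrCharacter G)}
    {ψ : Cfsg.IrrCharacter G} (h : ψ ∈ m) :
    Cfsg.classInner (m.map fun a : Cfsg.IrrCharacter G => (a : G → ℂ)).sum ψ ≠ 0 := by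
  classical
  have key : ∀ s : Multiset (Cfsg.IrrCharacter G),
      Cfsg.classInner (s.map fun a : Cfsg.IrrCharacter G => (a : G → ℂ)).sum ψ = (s.count ψ : ℂ) := by
    intro s
    induction s using Multiset.induction_on with
    | empty => simp [classInner_zero_left]
    | cons a s ih =>
      rw [Multiset.map_cons, Multiset.sum_cons, Induced.Basic.classInner_add_left, ih,
        classInner_irr, Multiset.count_cons]
      rcases eq_or_ne a ψ with rfl | hne
      · rw [if_pos rfl, if_pos rfl]
        push_cast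
        ring
      · rw [if_neg hne, if_neg hne.symm, zero_add, add_zero]
  rw [key, Nat.cast_ne_zero, Multiset.count_ne_zero]
  exact h

theorem charDegree_eq {χ : G → ℂ} {n : ℕ} (h : χ 1 = (n : ℂ)) : Cfsg.charDegree χ = n := by
  rw [Cfsg.charDegree, h, Complex.natCast_re, Nat.floor_natCast]

/-- An element with `p` eigenvalues `ξ` and the others `1` from a non-abelian Sylow subgroup. -/
theorem exists_elt {p : ℕ} [Fact p.Prime] {χ : G → ℂ} (hχ : Cfsg.IsCharacter G χ)
    (hf : ∀ g : G, χ g = χ 1 → g = 1) {n : ℕ} (hn : χ 1 = (n : ℂ)) (hn2 : n < 2 * p) (hnp : n ≠ p)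
    (P : Sylow p G) (hP : ∃ x ∈ (P : Subgroup G), ∃ y ∈ (P : Subgroup G), x * y ≠ y * x) :
    p < n ∧ ∃ y : G, y ≠ 1 ∧ y ^ p = 1 ∧
      ∀ l : ℕ, χ (y ^ l) = (p : ℂ) * (ZMod.stdAddChar (1 : ZMod p) : ℂ) ^ l + ((n : ℂ) - p) := by
  classical
  have hp : p.Prime := Fact.out
  set Q : Subgroup G := (P : Subgroup G)
  obtain ⟨m, hm⟩ := exists_multiset_sum (isCharacter_comp Q.subtype hχ)
  have hval : ∀ g : Q, χ g = (m.map fun a : Cfsg.IrrCharacter Q => (a : Q → ℂ) g).sum := by
    intro g
    have h := congrFun hm g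
    rw [Function.comp_apply, multiset_apply, Multiset.map_map] at h
    exact h
  choose d hd0 hdvd hd1 using fun a : Cfsg.IrrCharacter Q => Characters.Degree.exists_degree_dvd a
  have hsum : n = (m.map d).sum := by
    have h := hval 1
    rw [Subgroup.coe_one, hn] at h
    simp only [hd1] at h
    rw [← Nat.cast_inj (R := ℂ), h, Nat.cast_multiset_sum, Multiset.map_map]
    rfl
  have hpd : ∀ a, d a = 1 ∨ p ≤ d a := by
    intro a
    obtain ⟨k, hk⟩ := IsPGroup.iff_card.mp P.2
    obtain ⟨i, -, hi⟩ := (Nat.dvd_prime_pow hp).mp (hk ▸ hdvd a)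
    rcases Nat.eq_zero_or_pos i with rfl | hi0
    · exact Or.inl (by rw [hi, pow_zero])
    · exact Or.inr (hi ▸ Nat.le_self_pow hi0.ne' p)
  -- a constituent of degree `p`
  obtain ⟨θ, hθ, hθ1⟩ : ∃ θ ∈ m, d θ ≠ 1 := by
    by_contra! hall
    obtain ⟨x, hx, y, hy, hxy⟩ := hP
    apply hxy
    have hc : ∀ a ∈ m, ∀ u v : Q, (a : Q → ℂ) (u * v * u⁻¹ * v⁻¹) = 1 := fun a ha u v => by
      have h1 : (a : Q → ℂ) 1 = 1 := by rw [hd1, hall a ha, Nat.cast_one]
      rw [← degOneHom_apply (isCharacter_irr a) h1, map_mul, map_mul, map_mul, map_inv, map_inv,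
        mul_right_comm _ _ ((degOneHom (isCharacter_irr a) h1) u)⁻¹, mul_inv_cancel, one_mul,
        mul_inv_cancel, Units.val_one]
    have h := hval (⟨x, hx⟩ * ⟨y, hy⟩ * ⟨x, hx⟩⁻¹ * ⟨y, hy⟩⁻¹)
    rw [Multiset.map_congr rfl fun a ha => (hc a ha _ _).trans
      (show (1 : ℂ) = (a : Q → ℂ) (1 : Q) by rw [hd1, hall a ha, Nat.cast_one]), ← hval,
      Subgroup.coe_one] at h
    have h1 := hf _ h
    simp only [Subgroup.coe_mul, Subgroup.coe_inv] at h1
    rw [mul_inv_eq_one, mul_inv_eq_iff_eq_mul] at h1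
    exact h1
  have hθp : p ≤ d θ := (hpd θ).resolve_left hθ1
  have hsplit : d θ + ((m.erase θ).map d).sum = n := by
    rw [hsum, ← Multiset.sum_cons, ← Multiset.map_cons d, Multiset.cons_erase hθ]
  have hrest : ∀ a ∈ m.erase θ, d a = 1 := by
    intro a ha
    refine (hpd a).resolve_right fun h => ?_
    have := Multiset.le_sum_of_mem (Multiset.mem_map_of_mem d ha)
    omega
  have hθeq : d θ = p := by
    obtain ⟨k, hk⟩ := IsPGroup.iff_card.mp P.2
    obtain ⟨i, -, hi⟩ := (Nat.dvd_prime_pow hp).mp (hk ▸ hdvd θ)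
    rcases Nat.lt_or_ge i 2 with h | h
    · interval_cases i
      · exact absurd (hi.trans (pow_zero p)) hθ1
      · rw [hi, pow_one]
    · have h2 : p ^ 2 ≤ d θ := hi ▸ Nat.pow_le_pow_right hp.pos h
      have := hp.two_le
      have : d θ ≤ n := by omega
      nlinarith
  refine ⟨by omega, ?_⟩
  -- a central commutator of order `p`
  have hne : commutator Q ≠ ⊥ := by
    intro hbot
    obtain ⟨x, hx, y, hy, hxy⟩ := hP
    have hmem : ⁅(⟨x, hx⟩ : Q), ⟨y, hy⟩⁆ ∈ commutator Q :=
      Subgroup.commutator_mem_commutator (Subgroup.mem_top _) (Subgroup.mem_top _)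
    rw [hbot, Subgroup.mem_bot, commutatorElement_eq_one_iff_mul_comm] at hmem
    exact hxy (congrArg Subtype.val hmem)
  set C : Subgroup Q := commutator Q ⊓ Subgroup.center Q
  have hC : C ≠ ⊥ := PGroups.normal_inf_center_ne_bot P.2 _ hne
  haveI : Nontrivial C := (Subgroup.nontrivial_iff_ne_bot C).mpr hC
  obtain ⟨w0, hw0⟩ := exists_prime_orderOf_dvd_card' (G := C) p (by
    obtain ⟨k, hk0, hk⟩ := (P.2.to_subgroup C).nontrivial_iff_card.mp inferInstance
    rw [hk]
    exact dvd_pow_self p (by omega))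
  set w : Q := (w0 : Q)
  have hword : orderOf (w : G) = p := by rw [Subgroup.orderOf_coe, Subgroup.orderOf_coe, hw0]
  obtain ⟨c, hcN, hcval⟩ := central_value θ (z := w)
    fun g => (Subgroup.mem_center_iff.mp w0.2.2 g).symm
  have hlinval : ∀ a ∈ m.erase θ, ∀ l : ℕ, (a : Q → ℂ) (w ^ l) = 1 := by
    intro a ha l
    have h1 : (a : Q → ℂ) 1 = 1 := by rw [hd1, hrest a ha, Nat.cast_one]
    have hker := Abelianization.commutator_subset_ker (degOneHom (isCharacter_irr a) h1)
      (pow_mem w0.2.1 l)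
    rw [MonoidHom.mem_ker] at hker
    rw [← degOneHom_apply (isCharacter_irr a) h1, hker, Units.val_one]
  have hcnt : (Multiset.card (m.erase θ) : ℂ) = (n : ℂ) - p := by
    have : Multiset.card (m.erase θ) + p = n := by
      rw [← hsplit, hθeq, Multiset.map_congr rfl hrest, Multiset.map_const',
        Multiset.sum_replicate, smul_eq_mul, mul_one, add_comm]
    rw [← this]
    push_cast
    ring
  have hchi : ∀ l : ℕ, χ ((w : G) ^ l) = (p : ℂ) * c ^ l + ((n : ℂ) - p) := by
    intro l
    rw [← Subgroup.coe_pow, hval, ← Multiset.cons_erase hθ, Multiset.map_cons, Multiset.sum_cons,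
      hcval, hd1, hθeq, Multiset.map_congr rfl fun a ha => hlinval a ha l, Multiset.map_const',
      Multiset.sum_replicate, nsmul_one, hcnt]
  have hwp : w ^ p = 1 := Subtype.ext (by
    rw [Subgroup.coe_pow, ← hword, pow_orderOf_eq_one, Subgroup.coe_one])
  have hcp : c ^ p = 1 := hcN p hwp
  have hprim : IsPrimitiveRoot c p := by
    rw [IsPrimitiveRoot.iff_def]
    refine ⟨hcp, fun l hl => ?_⟩
    rw [← hword]
    refine orderOf_dvd_of_pow_eq_one (hf _ ?_)
    rw [hchi, hl, hn]
    ring
  obtain ⟨k, -, hk⟩ := hprim.eq_pow_of_pow_eq_one (ξ := (ZMod.stdAddChar (1 : ZMod p) : ℂ)) (by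
    rw [← AddChar.map_nsmul_eq_pow, nsmul_eq_mul, ZMod.natCast_self, zero_mul,
      AddChar.map_zero_eq_one])
  refine ⟨(w : G) ^ k, fun h1 => ?_, ?_, fun l => ?_⟩
  · have h2 : c ^ k = 1 := by
      have h3 := hchi k
      rw [h1, hn] at h3
      have h4 : (p : ℂ) * (c ^ k - 1) = 0 := by linear_combination -h3
      rcases mul_eq_zero.mp h4 with h5 | h5
      · exact absurd h5 (Nat.cast_ne_zero.mpr hp.ne_zero)
      · exact sub_eq_zero.mp h5
    rw [hk, ← AddChar.map_zero_eq_one (ZMod.stdAddChar (N := p))] at h2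
    exact one_ne_zero (ZMod.injective_stdAddChar h2)
  · rw [← pow_mul, mul_comm, pow_mul, ← hword, pow_orderOf_eq_one, one_pow]
  · rw [← pow_mul, hchi, pow_mul, hk]

/-- Conjugates of such an element commute. -/
theorem commute_conj {p : ℕ} [Fact p.Prime] (h7 : 7 ≤ p) {n : ℕ}
    (ρ : Representation ℂ G (Fin n → ℂ)) (hinj : ∀ g : G, ρ g = 1 → g = 1) (hpn : p ≤ n) {y : G}
    (hy : ∀ l : ℕ, ρ.character (y ^ l) =
      (p : ℂ) * (ZMod.stdAddChar (1 : ZMod p) : ℂ) ^ l + ((n : ℂ) - p)) (c : G) :
    Commute (c * y * c⁻¹) y := by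
  classical
  have := Fintype.ofFinite G
  have hp : p.Prime := Fact.out
  set ξ : ℂ := (ZMod.stdAddChar (1 : ZMod p) : ℂ) with hξ
  have hξp : ξ ^ p = 1 := by
    rw [hξ, ← AddChar.map_nsmul_eq_pow, nsmul_eq_mul, ZMod.natCast_self, zero_mul,
      AddChar.map_zero_eq_one]
  obtain ⟨ι, hι, b, ζ, hb, hcard, -⟩ := Characters.Diag.exists_eigenbasis_card ρ y
  have hN : (Nat.card G * p) ≠ 0 := Nat.mul_ne_zero Nat.card_pos.ne' hp.ne_zero
  have hms : Finset.univ.val.map ζ = Multiset.replicate p ξ + Multiset.replicate (n - p) 1 := by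
    refine ThreePrime.multiset_eq_of_powerSums hN _ _ ?_ ?_ fun l => ?_
    · simp only [Multiset.mem_map, Finset.mem_val, Finset.mem_univ, true_and]
      rintro _ ⟨i, rfl⟩
      rw [pow_mul, (hb i).2, one_pow]
    · intro z hz
      rcases Multiset.mem_add.mp hz with h | h <;> rw [Multiset.eq_of_mem_replicate h]
      · rw [mul_comm, pow_mul, hξp, one_pow]
      · rw [one_pow]
    · rw [Multiset.map_map, ← Finset.sum_eq_multiset_sum]
      have h1 : ρ.character (y ^ l) = ∑ i, ζ i ^ l :=
        Characters.Diag.trace_eq_sum_eigenvalues b _ _ fun i => by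
          induction l with
          | zero => simp
          | succ l ih =>
            rw [pow_succ, map_mul, Module.End.mul_apply, (hb i).1, map_smul, ih, smul_smul, pow_succ']
      simp only [Function.comp_apply]
      rw [← h1, hy, Multiset.map_add, Multiset.map_replicate, Multiset.map_replicate,
        Multiset.sum_add, Multiset.sum_replicate, Multiset.sum_replicate, one_pow, nsmul_eq_mul,
        nsmul_eq_mul, mul_one, Nat.cast_sub hpn]
  have hζ : ∀ i, ζ i = ξ ∨ ζ i = 1 := fun i => by
    have h : ζ i ∈ Finset.univ.val.map ζ := Multiset.mem_map_of_mem ζ (Finset.mem_univ_val i)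
    rw [hms] at h
    rcases Multiset.mem_add.mp h with h | h
    · exact Or.inl (Multiset.eq_of_mem_replicate h)
    · exact Or.inr (Multiset.eq_of_mem_replicate h)
  set r : ℝ := ‖ξ - 1‖ with hr
  have hr1 : r < 1 := by
    have h := ThreePrime.norm_std_sub_one_lt (N := p) (d := 1) (by norm_num; omega)
    rw [Int.cast_one] at h
    exact h
  have hr0 : 0 ≤ r := norm_nonneg _
  have hclose : ∀ i, Close ρ y (ζ i) r := fun i => by
    refine close_of_eigen ρ y (ζ i) r b ζ (fun j => (hb j).1)
      (fun j => conj_mul_self_of_pow Nat.card_pos.ne' (hb j).2) hr0 fun j => ?_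
    rcases hζ i with h | h <;> rcases hζ j with h' | h' <;> rw [h, h']
    · simpa using hr0
    · rw [norm_sub_rev]
    · simpa using hr0
  have heq : ρ (y * (c * y * c⁻¹)) = ρ (c * y * c⁻¹ * y) := by
    refine b.ext fun i => ?_
    have h := WideArc.conj_preserves ρ (conj_mul_self_of_pow Nat.card_pos.ne' (hb i).2) hr0 hr1
      (hclose i) c (b i) (hb i).1
    rw [map_mul ρ y, map_mul ρ (c * y * c⁻¹) y, Module.End.mul_apply, Module.End.mul_apply, h,
      (hb i).1, map_smul]
  have h1 : (y * (c * y * c⁻¹))⁻¹ * (c * y * c⁻¹ * y) = 1 := hinj _ (by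
    rw [map_mul, ← heq, ← map_mul, inv_mul_cancel, map_one])
  exact (inv_mul_eq_one.mp h1).symm

/-- `p ^ 2` does not divide `n!` for `n < 2 p`. -/
theorem not_sq_dvd_factorial {p n : ℕ} (hp : p.Prime) (hn : n < 2 * p) : ¬ p ^ 2 ∣ n.factorial := by
  intro h
  rcases Nat.lt_or_ge n p with hlt | hge
  · exact absurd (hp.dvd_factorial.mp ((dvd_pow_self p two_ne_zero).trans h)) (not_le.mpr hlt)
  have key : ∀ k, p ≤ k → k < 2 * p → ¬ p ^ 2 ∣ k.factorial := by
    intro k hk
    induction k, hk using Nat.le_induction with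
    | base =>
      intro _ hd
      rw [← Nat.mul_factorial_pred hp.ne_zero, pow_two] at hd
      have h' := hp.dvd_factorial.mp (Nat.dvd_of_mul_dvd_mul_left hp.pos hd)
      have := hp.two_le
      omega
    | succ k hk ih =>
      intro hlt hd
      rw [Nat.factorial_succ] at hd
      have hndvd : ¬ p ∣ k + 1 := by
        rintro ⟨c, hc⟩
        rcases Nat.lt_or_ge c 2 with hc2 | hc2
        · interval_cases c <;> omega
        · have := Nat.mul_le_mul_left p hc2
          omega
      exact ih (by omega)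
        (((hp.coprime_iff_not_dvd.mpr hndvd).pow_left 2).dvd_of_dvd_mul_left hd)
  exact key n hge hn h

/-- An abelian normal subgroup of index not divisible by `p ^ 2` bounds the index of the core. -/
theorem not_sq_dvd_index_pCore {p : ℕ} [Fact p.Prime] (K : Subgroup G) [K.Normal]
    (hK : ∀ a ∈ K, ∀ b ∈ K, a * b = b * a) (hidx : ¬ p ^ 2 ∣ K.index) :
    ¬ p ^ 2 ∣ (Cfsg.pCore p G).index := by
  have hp : p.Prime := Fact.out
  haveI : IsMulCommutative K := ⟨⟨fun a b => Subtype.ext (hK a a.2 b b.2)⟩⟩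
  let S : Sylow p K := default
  haveI : (S : Subgroup K).Normal := Subgroup.normal_of_isMulCommutative _
  haveI : (S : Subgroup K).Characteristic := S.characteristic_of_normal inferInstance
  set T := (S : Subgroup K).map K.subtype
  have hle : T ≤ Cfsg.pCore p G := PSolvable.le_pCore inferInstance (S.2.map K.subtype)
  intro hd
  have h1 : p ^ 2 ∣ T.index := hd.trans (Subgroup.index_dvd_of_le hle)
  rw [Subgroup.index_map_subtype] at h1
  exact hidx (((hp.coprime_iff_not_dvd.mpr S.not_dvd_index).pow_left 2).dvd_of_dvd_mul_left h1)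

end General

section Main

variable {G : Type u} [Group G] [Finite G]

/-- The main theorem. -/
theorem main {p : ℕ} [Fact p.Prime] (h7 : 7 ≤ p) (χ : Cfsg.IrrCharacter G)
    (hf : ∀ g : G, (χ : G → ℂ) g = (χ : G → ℂ) 1 → g = 1) {n : ℕ}
    (hn : (χ : G → ℂ) 1 = (n : ℂ)) (hn2 : n < 2 * p) (hnp : n ≠ p) (P : Sylow p G)
    (hP : ∃ x ∈ (P : Subgroup G), ∃ y ∈ (P : Subgroup G), x * y ≠ y * x) :
    ¬ p ^ 2 ∣ (Cfsg.pCore p G).index := by
  classical
  have := Fintype.ofFinite G
  have hp : p.Prime := Fact.out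
  obtain ⟨hpn, y, hy1, hyp, hy⟩ := exists_elt (isCharacter_irr χ) hf hn hn2 hnp P hP
  obtain ⟨d, ρ, hρ, hρχ⟩ := χ.2
  obtain rfl : d = n := by
    rw [← hρχ, Representation.char_one, Module.finrank_fin_fun, Nat.cast_inj] at hn
    exact hn
  have hinj : ∀ g : G, ρ g = 1 → g = 1 := fun g hg => hf g (by
    rw [← hρχ]
    exact (Characters.Kernel.rep_eq_one_iff ρ g).mp hg)
  have hconj := commute_conj h7 ρ hinj hpn.le (y := y) (fun l => by rw [hρχ, hy])
  -- the normal closure
  set N := Subgroup.normalClosure ({y} : Set G)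
  have hset : ∀ a ∈ Group.conjugatesOfSet ({y} : Set G), ∀ b ∈ Group.conjugatesOfSet ({y} : Set G),
      a * b = b * a := by
    intro a ha b hb
    obtain ⟨y1, hy1', hca⟩ := Group.mem_conjugatesOfSet_iff.mp ha
    obtain ⟨y2, hy2', hcb⟩ := Group.mem_conjugatesOfSet_iff.mp hb
    rw [Set.mem_singleton_iff] at hy1' hy2'
    subst hy1'
    subst hy2'
    obtain ⟨s, rfl⟩ := isConj_iff.mp hca
    obtain ⟨t, rfl⟩ := isConj_iff.mp hcb
    have h := (hconj (t⁻¹ * s)).map (MulAut.conj t).toMonoidHom
    simp only [MulEquiv.coe_toMonoidHom, MulAut.conj_apply] at h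
    have e : t * (t⁻¹ * s * y2 * (t⁻¹ * s)⁻¹) * t⁻¹ = s * y2 * s⁻¹ := by group
    rw [e] at h
    exact h.eq
  haveI hNc : IsMulCommutative N := Subgroup.isMulCommutative_closure hset
  have hNcomm : ∀ a ∈ N, ∀ b ∈ N, a * b = b * a := fun a ha b hb =>
    congrArg Subtype.val (mul_comm' (⟨a, ha⟩ : N) ⟨b, hb⟩)
  set K := Subgroup.centralizer (N : Set G)
  have hNK : N ≤ K := fun a ha b hb => hNcomm b hb a ha
  haveI : K.Normal := Subgroup.normal_centralizer
  have hyN : y ∈ N := Subgroup.subset_normalClosure rfl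
  set yK : K := ⟨y, hNK hyN⟩
  have hcen : ∀ g : K, yK * g = g * yK := fun g => Subtype.ext (g.2 y hyN)
  -- the constituents on the centralizer
  have := Fintype.ofFinite K
  have hres : Cfsg.IsCharacter K (fun k : K => (χ : G → ℂ) k) :=
    isCharacter_comp K.subtype (isCharacter_irr χ)
  obtain ⟨m, hm⟩ := exists_multiset_sum hres
  have hval : ∀ k : K, (χ : G → ℂ) k = (m.map fun a : Cfsg.IrrCharacter K => (a : K → ℂ) k).sum := by
    intro k
    have h := congrFun hm k
    rw [multiset_apply, Multiset.map_map] at h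
    exact h
  have hcons : ∀ a ∈ m, Cfsg.classInner (fun k : K => (χ : G → ℂ) k) a ≠ 0 := fun a ha => by
    rw [hm]
    exact classInner_ne_zero_of_mem ha
  have hm0 : m ≠ 0 := by
    rintro rfl
    have h := hval 1
    rw [Multiset.map_zero, Multiset.sum_zero, Subgroup.coe_one, hn, Nat.cast_eq_zero] at h
    omega
  obtain ⟨θ, hθ⟩ := Multiset.exists_mem_of_ne_zero hm0
  obtain ⟨e, he0, -, he⟩ := Characters.Degree.exists_degree_dvd θ
  have hdeg : ∀ a ∈ m, (a : K → ℂ) 1 = (e : ℂ) := by
    intro a ha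
    obtain ⟨g, hg⟩ := Clifford.Basic.exists_conj_of_constituents K χ.2 (hcons θ hθ) (hcons a ha)
    rw [← hg, ← he]
    simp [Clifford.Basic.conjC]
    rfl
  choose c hcN hcval using fun a : Cfsg.IrrCharacter K => central_value a hcen
  have hyKp : yK ^ p = 1 := Subtype.ext (by rw [Subgroup.coe_pow, Subgroup.coe_one]; exact hyp)
  set ξ : ℂ := (ZMod.stdAddChar (1 : ZMod p) : ℂ)
  have hξp : ξ ^ p = 1 := by
    simp only [ξ]
    rw [← AddChar.map_nsmul_eq_pow, nsmul_eq_mul, ZMod.natCast_self, zero_mul,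
      AddChar.map_zero_eq_one]
  have hξ1 : ξ ≠ 1 := fun h => by
    rw [← AddChar.map_zero_eq_one (ZMod.stdAddChar (N := p))] at h
    exact one_ne_zero (ZMod.injective_stdAddChar h)
  have hms : e • m.map c = Multiset.replicate p ξ + Multiset.replicate (d - p) 1 := by
    refine ThreePrime.multiset_eq_of_powerSums hp.ne_zero _ _ ?_ ?_ fun l => ?_
    · intro z hz
      obtain ⟨a, -, rfl⟩ := Multiset.mem_map.mp (Multiset.mem_of_mem_nsmul hz)
      exact hcN a p hyKp
    · intro z hz
      rcases Multiset.mem_add.mp hz with h | h <;> rw [Multiset.eq_of_mem_replicate h]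
      · exact hξp
      · exact one_pow p
    · have h : (χ : G → ℂ) (y ^ l) = (e : ℂ) * ((m.map c).map fun z => z ^ l).sum := by
        have h := hval (yK ^ l)
        rw [Subgroup.coe_pow] at h
        rw [h, Multiset.map_map, ← Multiset.sum_map_mul_left]
        refine congrArg Multiset.sum (Multiset.map_congr rfl fun a ha => ?_)
        rw [hcval, hdeg a ha]
        rfl
      rw [hy] at h
      rw [Multiset.map_nsmul, Multiset.sum_nsmul, nsmul_eq_mul, ← h, Multiset.map_add,
        Multiset.map_replicate, Multiset.map_replicate, Multiset.sum_add, Multiset.sum_replicate,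
        Multiset.sum_replicate, one_pow, nsmul_eq_mul, nsmul_eq_mul, mul_one,
        Nat.cast_sub hpn.le]
  have he1 : e = 1 := by
    have h1 := congrArg (Multiset.count ξ) hms
    rw [Multiset.count_nsmul, Multiset.count_add, Multiset.count_replicate_self,
      Multiset.count_eq_zero.mpr (fun h => hξ1 (Multiset.eq_of_mem_replicate h)), add_zero] at h1
    have h2 := congrArg Multiset.card hms
    rw [Multiset.card_nsmul, Multiset.card_add, Multiset.card_replicate, Multiset.card_replicate]
      at h2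
    rcases (Nat.dvd_prime hp).mp (Dvd.intro _ h1) with h | h
    · exact h
    · exfalso
      have hcard : Multiset.card (m.map c) * p = d := by rw [mul_comm, ← h]; omega
      rcases Nat.lt_or_ge (Multiset.card (m.map c)) 2 with h3 | h3
      · interval_cases hk : Multiset.card (m.map c) <;> omega
      · have := Nat.mul_le_mul_right p h3
        omega
  have hlin : ∀ a ∈ m, (a : K → ℂ) 1 = 1 := fun a ha => by rw [hdeg a ha, he1, Nat.cast_one]
  have hKc : ∀ a ∈ K, ∀ b ∈ K, a * b = b * a := by
    intro a ha b hb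
    have h := hval (⟨a, ha⟩ * ⟨b, hb⟩ * ⟨a, ha⟩⁻¹ * ⟨b, hb⟩⁻¹)
    rw [Multiset.map_congr rfl (g := fun l : Cfsg.IrrCharacter K => (l : K → ℂ) 1) fun l hl => by
      rw [hlin l hl, ← degOneHom_apply (isCharacter_irr l) (hlin l hl), map_mul, map_mul, map_mul,
        map_inv, map_inv, mul_right_comm _ _ ((degOneHom (isCharacter_irr l) (hlin l hl)) ⟨a, ha⟩)⁻¹,
        mul_inv_cancel, one_mul, mul_inv_cancel, Units.val_one], ← hval, Subgroup.coe_one] at h
    have h1 := hf _ h
    simp only [Subgroup.coe_mul, Subgroup.coe_inv] at h1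
    rw [mul_inv_eq_one, mul_inv_eq_iff_eq_mul] at h1
    exact h1
  -- the permutation action
  let S := {a : Cfsg.IrrCharacter K // Cfsg.classInner (fun k : K => (χ : G → ℂ) k) a ≠ 0}
  have hSm : ∀ a : S, (a : Cfsg.IrrCharacter K) ∈ m := by
    intro a
    by_contra hnot
    apply a.2
    have key : ∀ s : Multiset (Cfsg.IrrCharacter K), a.1 ∉ s →
        Cfsg.classInner (s.map fun b : Cfsg.IrrCharacter K => (b : K → ℂ)).sum a.1 = 0 := by
      intro s
      induction s using Multiset.induction_on with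
      | empty => intro _; simp [classInner_zero_left]
      | cons b s ih =>
        intro hs
        rw [Multiset.mem_cons, not_or] at hs
        rw [Multiset.map_cons, Multiset.sum_cons, Induced.Basic.classInner_add_left, ih hs.2,
          classInner_irr, if_neg (Ne.symm hs.1), add_zero]
    exact (congrArg (fun f => Cfsg.classInner f (a.1 : K → ℂ)) hm).trans (key m hnot)
  haveI : Finite S := Finite.of_injective (fun a : S => (⟨a.1, Multiset.mem_toFinset.mpr (hSm a)⟩ : m.toFinset))
    fun a b h => Subtype.ext (congrArg (fun z : m.toFinset => (z : Cfsg.IrrCharacter K)) h)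
  have hScard : Nat.card S ≤ d := by
    refine (Nat.card_le_card_of_injective
      (fun a : S => (⟨a.1, Multiset.mem_toFinset.mpr (hSm a)⟩ : m.toFinset))
      fun a b h => Subtype.ext (congrArg (fun z : m.toFinset => (z : Cfsg.IrrCharacter K)) h)).trans ?_
    rw [Nat.card_eq_fintype_card, Fintype.card_coe]
    refine (Multiset.toFinset_card_le m).trans (le_of_eq ?_)
    have h2 := congrArg Multiset.card hms
    rw [Multiset.card_nsmul, Multiset.card_add, Multiset.card_replicate, Multiset.card_replicate,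
      Multiset.card_map, he1, one_mul] at h2
    omega
  letI : MulAction G S :=
    { smul := fun g a => ⟨⟨_, Clifford.Basic.isIrrCharacter_conjC K g⁻¹ a.1.2⟩, by
        show Cfsg.classInner (fun k : K => (χ : G → ℂ) k) (Clifford.Basic.conjC K g⁻¹ a.1) ≠ 0
        rw [Clifford.Basic.classInner_restrict_conjC K (isClassFunction_irr χ)]
        exact a.2⟩
      one_smul := fun a => Subtype.ext (Subtype.ext (by
        show Clifford.Basic.conjC K (1 : G)⁻¹ a.1 = _
        rw [inv_one, Clifford.Basic.conjC_one]))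
      mul_smul := fun g h a => Subtype.ext (Subtype.ext (by
        show Clifford.Basic.conjC K (g * h)⁻¹ a.1 = Clifford.Basic.conjC K g⁻¹ (Clifford.Basic.conjC K h⁻¹ a.1)
        rw [mul_inv_rev, Clifford.Basic.conjC_mul])) }
  have hker : (MulAction.toPermHom G S).ker ≤ K := by
    intro g hg
    have hfix : ∀ a ∈ m, Clifford.Basic.conjC K g⁻¹ a = (a : K → ℂ) := fun a ha =>
      congrArg (fun z : S => ((z.1 : Cfsg.IrrCharacter K) : K → ℂ))
        (DFunLike.congr_fun (MonoidHom.mem_ker.mp hg : MulAction.toPermHom G S g = 1)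
          (⟨a, hcons a ha⟩ : S))
    refine Subgroup.mem_centralizer_iff.mpr fun x hx => ?_
    set u : K := ⟨x, hNK hx⟩
    set v : K := ⟨g⁻¹ * x * g, by simpa using (inferInstance : K.Normal).conj_mem x (hNK hx) g⁻¹⟩
    have h : ∀ a ∈ m, (a : K → ℂ) (v * u⁻¹) = (a : K → ℂ) 1 := by
      intro a ha
      have h1 : (a : K → ℂ) v = (a : K → ℂ) u := by
        have := congrFun (hfix a ha) u
        rw [Clifford.Basic.conjC_apply] at this
        rw [← this]
        exact congrArg (a : K → ℂ) (Subtype.ext (by simp [u, v]))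
      rw [apply_mul_of_degree_one (isCharacter_irr a) (hlin a ha), h1,
        ← apply_mul_of_degree_one (isCharacter_irr a) (hlin a ha), mul_inv_cancel]
    have h2 := hval (v * u⁻¹)
    rw [Multiset.map_congr rfl h, ← hval, Subgroup.coe_one] at h2
    have h3 := hf _ h2
    simp only [Subgroup.coe_mul, Subgroup.coe_inv, u, v] at h3
    rw [mul_inv_eq_one, mul_assoc, inv_mul_eq_iff_eq_mul] at h3
    exact h3
  refine not_sq_dvd_index_pCore K hKc fun hd => not_sq_dvd_factorial hp
    (lt_of_le_of_lt hScard hn2) (hd.trans ((Subgroup.index_dvd_of_le hker).trans ?_))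
  rw [Subgroup.index_ker, ← Nat.card_perm]
  exact Subgroup.card_subgroup_dvd_card _

end Main

end Cfsg.Agent.Lib.BC77.SmallTwoP
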