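import Cfsg.Agent.Lib.BC77.DualStab
import Cfsg.Agent.Lib.BC78.Clifford
import Cfsg.Agent.Lib.BlocksChars5.Restrict
import Cfsg.Agent.Lib.Clifford.Monomial
import Cfsg.Agent.Lib.Characters.Kernel
import Mathlib.GroupTheory.PGroup
import Mathlib.GroupTheory.Sylow
import Mathlib.GroupTheory.SpecificGroups.Cyclic
import Mathlib.Data.ZMod.Basic

/-!
# Degrees of solvable linear groups with a non-normal Sylow subgroup

A minimal counterexample has a normal subgroup `M` of index `p` and a non-trivial abelian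
`l`-quotient `M / E` on which a `p`-element acts without fixed points.
-/

set_option autoImplicit false

namespace Cfsg.Agent.Lib.BC77.SolvDegree

open scoped ComplexConjugate commutatorElement
open Cfsg.Agent.Lib.Induced.Basic Cfsg.Agent.Lib.Characters.Basic
open Cfsg.Agent.Lib.BlocksChars5.Basic (apply_one)
open Cfsg.Agent.Lib.Clifford.Basic (conjC inertia conjC_mul conjC_one mem_inertia)

universe u

variable {G : Type u} [Group G]

/-- The elements of p-power order. -/
def IsPElt (p : ℕ) (g : G) : Prop := ∃ k : ℕ, g ^ p ^ k = 1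

theorem isPElt_conj {p : ℕ} {g : G} (h : IsPElt p g) (a : G) : IsPElt p (a * g * a⁻¹) := by
  obtain ⟨k, hk⟩ := h
  exact ⟨k, by rw [conj_pow, hk, mul_one, mul_inv_cancel]⟩

theorem isPElt_of_mem {p : ℕ} {P : Subgroup G} (hP : IsPGroup p P) {g : G} (hg : g ∈ P) :
    IsPElt p g := by
  obtain ⟨k, hk⟩ := hP ⟨g, hg⟩
  exact ⟨k, congrArg Subtype.val hk⟩

/-- The Sylow subgroup is normal iff the p-elements are closed under products. -/
theorem normal_iff_closed [Finite G] {p : ℕ} [Fact p.Prime] (P : Sylow p G) :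
    (P : Subgroup G).Normal ↔ ∀ a b : G, IsPElt p a → IsPElt p b → IsPElt p (a * b) := by
  constructor
  · intro hn a b ha hb
    have hmem : ∀ g : G, IsPElt p g → g ∈ (P : Subgroup G) := by
      intro g hg
      obtain ⟨k, hk⟩ := hg
      have hz : IsPGroup p (Subgroup.zpowers g) := IsPGroup.of_card_dvd_pow (n := k) (by
        rw [Nat.card_zpowers]; exact orderOf_dvd_of_pow_eq_one hk)
      exact (P.is_maximal' (hz.to_sup_of_normal_right P.2) le_sup_right).le
        (Subgroup.mem_sup_left (Subgroup.mem_zpowers g))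
    exact isPElt_of_mem P.2 (mul_mem (hmem a ha) (hmem b hb))
  · intro hcl
    let S : Subgroup G :=
      { carrier := {g | IsPElt p g}
        one_mem' := ⟨0, one_pow _⟩
        mul_mem' := fun {a b} ha hb => hcl a b ha hb
        inv_mem' := fun {a} ⟨k, hk⟩ => ⟨k, by rw [inv_pow, hk, inv_one]⟩ }
    have hS : IsPGroup p S := fun g => by
      obtain ⟨k, hk⟩ := g.2
      exact ⟨k, Subtype.ext hk⟩
    have hSn : S.Normal := ⟨fun g hg a => isPElt_conj hg a⟩
    have he : S = P := P.is_maximal' hS fun g hg => isPElt_of_mem P.2 hg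
    rw [← he]
    exact hSn

/-- The subgroup containing one Sylow subgroup and normal contains every p-element. -/
theorem mem_of_normal [Finite G] {p : ℕ} [Fact p.Prime] (P : Sylow p G) {N : Subgroup G}
    [hN : N.Normal] (hPN : (P : Subgroup G) ≤ N) {g : G} (hg : IsPElt p g) : g ∈ N := by
  obtain ⟨k, hk⟩ := hg
  have hz : IsPGroup p (Subgroup.zpowers g) := IsPGroup.of_card_dvd_pow (n := k) (by
    rw [Nat.card_zpowers]; exact orderOf_dvd_of_pow_eq_one hk)
  obtain ⟨Q, hQ⟩ := hz.exists_le_sylow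
  obtain ⟨a, rfl⟩ := MulAction.exists_smul_eq G P Q
  have hmem := hQ (Subgroup.mem_zpowers g)
  rw [Sylow.coe_subgroup_smul, Subgroup.mem_pointwise_smul_iff_inv_smul_mem] at hmem
  have h2 := hN.conj_mem _ (hPN hmem) a
  simpa [mul_assoc] using h2

/-- A normal subgroup of index prime to `p` contains every p-element. -/
theorem mem_of_index [Finite G] {p : ℕ} [Fact p.Prime] {N : Subgroup G} [N.Normal]
    (hN : ¬ p ∣ N.index) {g : G} (hg : IsPElt p g) : g ∈ N := by
  obtain ⟨k, hk⟩ := hg
  have h1 : (g : G ⧸ N) ^ p ^ k = 1 := by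
    rw [← QuotientGroup.mk_pow, hk, QuotientGroup.mk_one]
  have h2 : (g : G ⧸ N) ^ N.index = 1 := pow_card_eq_one'
  exact (QuotientGroup.eq_one_iff g).mp (orderOf_eq_one_iff.mp (Nat.eq_one_of_dvd_coprimes
    (((Fact.out : p.Prime).coprime_iff_not_dvd.mpr hN).pow_left k)
    (orderOf_dvd_of_pow_eq_one h1) (orderOf_dvd_of_pow_eq_one h2)))

/-- A supplement of a normal subgroup meets it with unchanged index. -/
theorem relIndex_of_sup [Finite G] {H M : Subgroup G} [M.Normal] (h : H ⊔ M = ⊤) :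
    H.relIndex M = H.index := by
  have h1 : M.relIndex H = M.index := by
    rw [← Subgroup.relIndex_sup_right, h, Subgroup.relIndex_top_right]
  have h2 := Subgroup.relIndex_mul_index (H := H ⊓ M) (K := H) inf_le_left
  have h3 := Subgroup.relIndex_mul_index (H := H ⊓ M) (K := M) inf_le_right
  rw [Subgroup.inf_relIndex_left, h1, ← h3, Subgroup.inf_relIndex_right,
    mul_comm (H.relIndex M)] at h2
  exact (Nat.eq_of_mul_eq_mul_left (Nat.pos_of_ne_zero Subgroup.index_ne_zero_of_finite) h2).symm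

/-- A constituent of a normal subgroup with non-normal Sylow subgroup keeps it modulo its kernel. -/
theorem exists_quotient [Fintype G] {p : ℕ} [Fact p.Prime] (χ : Cfsg.IrrCharacter G)
    (hf : ∀ g : G, (χ : G → ℂ) g = (χ : G → ℂ) 1 → g = 1) (N : Subgroup G) [hN : N.Normal]
    [Fintype N] (Q : Sylow p N) (hQ : ¬ (Q : Subgroup N).Normal) :
    ∃ (K : Subgroup N) (_ : K.Normal) (φ : Cfsg.IrrCharacter (N ⧸ K)) (S : Sylow p (N ⧸ K)),
      (∀ x : N ⧸ K, (φ : N ⧸ K → ℂ) x = (φ : N ⧸ K → ℂ) 1 → x = 1) ∧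
      ¬ (S : Subgroup (N ⧸ K)).Normal ∧
      Cfsg.charDegree (φ : N ⧸ K → ℂ) ∣ Cfsg.charDegree (χ : G → ℂ) := by
  classical
  obtain ⟨θ, hθ⟩ := Clifford.Basic.exists_constituent_restrict N χ.2
  have hθc := isCharacter_irr θ
  set K := Characters.Kernel.charKer hθc with hKdef
  haveI hKn : K.Normal := Characters.Kernel.charKer_normal hθc
  obtain ⟨φ, -, hφe, hφi⟩ := Characters.Kernel.exists_descend K hθc
    fun g hg => (Characters.Kernel.mem_charKer hθc g).mp hg
  have hv : ∀ n : N, φ (n : N ⧸ K) = (θ : N → ℂ) n := fun n => congrFun hφe n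
  refine ⟨K, hKn, ⟨φ, hφi θ.2⟩, default, fun x hx => ?_, fun hn => hQ ?_, ?_⟩
  · obtain ⟨n, rfl⟩ := QuotientGroup.mk_surjective x
    change φ _ = φ 1 at hx
    rw [← QuotientGroup.mk_one, hv, hv] at hx
    exact (QuotientGroup.eq_one_iff n).mpr hx
  · rw [normal_iff_closed] at hn ⊢
    intro y z hy hz
    obtain ⟨A, hA⟩ : ∃ A, ∀ x : N ⧸ K, IsPElt p x → x ^ p ^ A = 1 := by
      refine ⟨(Nat.card (N ⧸ K)), fun x ⟨k, hk⟩ => ?_⟩
      obtain ⟨j, -, hj⟩ := (Nat.dvd_prime_pow (Fact.out : p.Prime)).mp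
        (orderOf_dvd_of_pow_eq_one hk)
      rw [← orderOf_dvd_iff_pow_eq_one, hj]
      refine pow_dvd_pow p ?_
      have h1 : p ^ j ≤ Nat.card (N ⧸ K) :=
        Nat.le_of_dvd Nat.card_pos (hj ▸ orderOf_dvd_natCard x)
      exact le_trans (Nat.lt_pow_self (Fact.out : p.Prime).one_lt).le h1
    refine ⟨A, Subtype.ext ?_⟩
    rw [SubgroupClass.coe_pow, OneMemClass.coe_one]
    -- the power lies in all conjugate kernels
    have hall : ∀ g : G, conjC N g (θ : N → ℂ) ((y * z) ^ p ^ A) =
        conjC N g (θ : N → ℂ) 1 := by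
      intro g
      let c : N →* N := (MulAut.conjNormal g).toMonoidHom
      show (θ : N → ℂ) (c ((y * z) ^ p ^ A)) = (θ : N → ℂ) (c 1)
      rw [map_pow, map_mul, map_one]
      refine (Characters.Kernel.mem_charKer hθc _).mp ((QuotientGroup.eq_one_iff _).mp ?_)
      rw [QuotientGroup.mk_pow, QuotientGroup.mk_mul]
      refine hA _ (hn _ _ ?_ ?_)
      · obtain ⟨k, hk⟩ := hy
        exact ⟨k, by rw [← QuotientGroup.mk_pow, ← map_pow, hk, map_one, QuotientGroup.mk_one]⟩
      · obtain ⟨k, hk⟩ := hz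
        exact ⟨k, by rw [← QuotientGroup.mk_pow, ← map_pow, hk, map_one, QuotientGroup.mk_one]⟩
    refine hf _ ?_
    have hcl := Clifford.Basic.clifford N χ.2 θ hθ
    have h1 := congrFun hcl ((y * z) ^ p ^ A)
    have h2 := congrFun hcl 1
    simp only [Pi.smul_apply, Finset.sum_apply, hall] at h1
    simp only [Pi.smul_apply, Finset.sum_apply, OneMemClass.coe_one] at h2
    rw [SubgroupClass.coe_pow] at h1
    rw [h1, h2]
  · obtain ⟨e, he, -⟩ := BlocksChars5.Restrict.ratio_dvd_nat N χ θ hθ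
    refine Dvd.intro_left e ?_
    rw [he]
    congr 1
    rw [Cfsg.charDegree, Cfsg.charDegree]
    show ⌊(φ 1).re⌋₊ = _
    rw [← QuotientGroup.mk_one, hv]

/-- The conclusion. -/
def Good (p n : ℕ) : Prop :=
  ∃ q : ℕ, IsPrimePow q ∧ q ∣ n ∧
    ((q : ℤ) ≡ -1 [ZMOD p] ∨ (q : ℤ) ≡ 0 [ZMOD p] ∨ (q : ℤ) ≡ 1 [ZMOD p])

theorem Good.mono {p m n : ℕ} (h : Good p m) (hd : m ∣ n) : Good p n := by
  obtain ⟨q, h1, h2, h3⟩ := h
  exact ⟨q, h1, h2.trans hd, h3⟩

theorem main (p : ℕ) [Fact p.Prime] [Finite G] [Group.IsSolvable G] (χ : Cfsg.IrrCharacter G)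
    (hf : ∀ g : G, (χ : G → ℂ) g = (χ : G → ℂ) 1 → g = 1) (P : Sylow p G)
    (hP : ¬ (P : Subgroup G).Normal) : Good p (Cfsg.charDegree (χ : G → ℂ)) := by
  classical
  induction hcard : Nat.card G using Nat.strong_induction_on generalizing G with
  | _ m ih =>
  have hp : p.Prime := Fact.out
  have := Fintype.ofFinite G
  set n := Cfsg.charDegree (χ : G → ℂ) with hn
  by_cases hpn : p ∣ n
  · exact ⟨p, hp.isPrimePow, hpn, Or.inr (Or.inl (by simp [Int.ModEq]))⟩
  by_cases hA : ∃ N : Subgroup G, N.Normal ∧ N ≠ ⊤ ∧ ∃ Q : Sylow p N, ¬ (Q : Subgroup N).Normal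
  · obtain ⟨N, hN, hNtop, Q, hQ⟩ := hA
    have := Fintype.ofFinite N
    obtain ⟨K, hK, φ, S, hφ, hS, hd⟩ := exists_quotient χ hf N Q hQ
    have hlt : Nat.card (N ⧸ K) < m := by
      rw [← hcard]
      exact lt_of_le_of_lt (Nat.le_of_dvd Nat.card_pos (Subgroup.card_quotient_dvd_card K))
        (lt_of_le_of_ne (Nat.le_of_dvd Nat.card_pos N.card_subgroup_dvd_card)
          fun h => hNtop ((Subgroup.card_eq_iff_eq_top N).mp h))
    exact (ih _ hlt φ hφ S hS rfl).mono hd
  push Not at hA
  -- no proper normal subgroup contains all p-elements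
  have hno : ∀ N : Subgroup G, N.Normal → (P : Subgroup G) ≤ N → N = ⊤ := by
    intro N hN hPN
    by_contra htop
    apply hP
    rw [normal_iff_closed]
    intro a b ha hb
    have hQ := (normal_iff_closed (default : Sylow p N)).mp (hA N hN htop default)
      ⟨a, mem_of_normal P hPN ha⟩ ⟨b, mem_of_normal P hPN hb⟩
      (by obtain ⟨k, hk⟩ := ha; exact ⟨k, Subtype.ext hk⟩)
      (by obtain ⟨k, hk⟩ := hb; exact ⟨k, Subtype.ext hk⟩)
    obtain ⟨k, hk⟩ := hQ
    exact ⟨k, congrArg Subtype.val hk⟩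
  have hnt : Nontrivial G := by
    by_contra h
    rw [not_nontrivial_iff_subsingleton] at h
    exact hP ⟨fun a ha g => by rwa [Subsingleton.elim (g * a * g⁻¹) a]⟩
  -- a normal subgroup of prime index
  obtain ⟨M, hMc, hcM⟩ := (IsCoatomic.eq_top_or_exists_le_coatom (commutator G)).resolve_left
    (Group.IsSolvable.commutator_lt_top_of_nontrivial G).ne
  have hMn : M.Normal := Subgroup.Normal.of_commutator_le G hcM
  have hMp : M.index = p := by
    have hsimple : Nat.Prime M.index := by
      have : IsSimpleGroup (G ⧸ M) := by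
        refine { exists_pair_ne := ?_, eq_bot_or_eq_top_of_normal := fun H _ => ?_ }
        · exact (QuotientGroup.nontrivial_iff (N := M)).mpr hMc.1 |>.exists_pair_ne
        · rcases (hMc.le_iff).mp (QuotientGroup.le_comap_mk' M H) with h | h
          · right
            rw [← Subgroup.map_comap_eq_self_of_surjective (QuotientGroup.mk'_surjective M) H, h,
              Subgroup.map_top_of_surjective _ (QuotientGroup.mk'_surjective M)]
          · left
            rw [← Subgroup.map_comap_eq_self_of_surjective (QuotientGroup.mk'_surjective M) H, h,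
              QuotientGroup.map_mk'_self]
      letI : CommGroup (G ⧸ M) :=
        { (inferInstance : Group (G ⧸ M)) with
          mul_comm := fun a b => by
            obtain ⟨a, rfl⟩ := QuotientGroup.mk_surjective a
            obtain ⟨b, rfl⟩ := QuotientGroup.mk_surjective b
            rw [← QuotientGroup.mk_mul, ← QuotientGroup.mk_mul, QuotientGroup.eq]
            have : (a * b)⁻¹ * (b * a) = ⁅b⁻¹, a⁻¹⁆ := by rw [commutatorElement_def]; group
            rw [this]
            exact hcM (Subgroup.commutator_mem_commutator (Subgroup.mem_top _)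
              (Subgroup.mem_top _)) }
      exact IsSimpleGroup.prime_card
    by_contra hne
    exact hMc.1 (hno M hMn fun g hg => mem_of_index
      (fun h => hne ((Nat.prime_dvd_prime_iff_eq hp hsimple).mp h).symm) (isPElt_of_mem P.2 hg))
  -- its Sylow subgroup
  set R := (P : Subgroup G) ⊓ M with hRdef
  have hRp : IsPGroup p R := P.2.to_le inf_le_left
  have hPM : R.relIndex M = (P : Subgroup G).index := by
    rw [hRdef, Subgroup.inf_relIndex_right]
    exact relIndex_of_sup (hMc.2 _ (lt_of_le_of_ne le_sup_right fun h =>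
      hMc.1 (hno M hMn (h ▸ le_sup_left))))
  have hpM : ∀ g ∈ M, IsPElt p g → g ∈ R := by
    intro g hg hge
    have hR' : IsPGroup p (R.subgroupOf M) := hRp.comap_subtype
    have hidx : ¬ p ∣ (R.subgroupOf M).index := fun hd => by
      change p ∣ R.relIndex M at hd
      exact P.not_dvd_index (hPM ▸ hd)
    set RS := hR'.toSylow hidx with hRS
    have heq : (RS : Subgroup M) = R.subgroupOf M := rfl
    have hRn := hA M hMn hMc.1 RS
    obtain ⟨k, hk⟩ := hge
    have hz : IsPGroup p (Subgroup.zpowers (⟨g, hg⟩ : M)) := IsPGroup.of_card_dvd_pow (n := k) (by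
      rw [Nat.card_zpowers]; exact orderOf_dvd_of_pow_eq_one (Subtype.ext hk))
    have h := (RS.is_maximal' (hz.to_sup_of_normal_right RS.2) le_sup_right).le
      (Subgroup.mem_sup_left (Subgroup.mem_zpowers (⟨g, hg⟩ : M)))
    change (⟨g, hg⟩ : M) ∈ (RS : Subgroup M) at h
    rw [heq, Subgroup.mem_subgroupOf] at h
    exact h
  haveI hRn : R.Normal := ⟨fun r hr g => hpM _ (hMn.conj_mem r hr.2 g)
    (isPElt_conj (isPElt_of_mem hRp hr) g)⟩
  -- an element outside
  obtain ⟨x, hxP, hxM⟩ : ∃ x ∈ (P : Subgroup G), x ∉ M := by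
    by_contra! h
    exact hMc.1 (hno M hMn h)
  have hgen : ∀ D : Subgroup G, M ≤ D → x ∈ D → D = ⊤ := fun D h1 h2 =>
    hMc.2 D (lt_of_le_of_ne h1 fun h => hxM (h ▸ h2))
  -- an abelian l-quotient
  obtain ⟨l, hl, E, hEn, hRE, hEM, hEne, hEab, hElpow⟩ : ∃ l : ℕ, l.Prime ∧ ∃ E : Subgroup G,
      E.Normal ∧ R ≤ E ∧ E ≤ M ∧ E ≠ M ∧ (∀ a ∈ M, ∀ b ∈ M, (b * a)⁻¹ * (a * b) ∈ E) ∧
      ∀ a ∈ M, ∃ k : ℕ, a ^ l ^ k ∈ E := by
    set D := ⁅M, M⁆ ⊔ R with hD
    have hDn : D.Normal := Subgroup.sup_normal _ _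
    have hDM : D ≤ M := sup_le (Subgroup.commutator_le_right M M) inf_le_right
    have hDne : D ≠ M := by
      intro he
      -- then `M / R` is perfect and solvable, so `G` is a `p`-group
      have hπn : M.map (QuotientGroup.mk' R) = ⁅M.map (QuotientGroup.mk' R),
          M.map (QuotientGroup.mk' R)⁆ := by
        rw [← Subgroup.map_commutator]
        conv_lhs => rw [← he, hD, Subgroup.map_sup, QuotientGroup.map_mk'_self, sup_bot_eq]
      have hbot : M.map (QuotientGroup.mk' R) = ⊥ := by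
        obtain ⟨j, hj⟩ := (Group.isSolvable_def (G ⧸ R)).mp inferInstance
        have hle : ∀ i, M.map (QuotientGroup.mk' R) ≤ derivedSeries (G ⧸ R) i := by
          intro i
          induction i with
          | zero => exact le_top
          | succ i ih =>
            rw [derivedSeries_succ, hπn]
            exact Subgroup.commutator_mono ih ih
        exact le_bot_iff.mp (hj ▸ hle j)
      rw [Subgroup.map_eq_bot_iff, QuotientGroup.ker_mk'] at hbot
      refine hP ?_
      have htop : (P : Subgroup G) = ⊤ := hgen _ (hbot.trans inf_le_left) hxP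
      rw [htop]
      infer_instance
    have hidx : D.relIndex M ≠ 1 := fun h => hDne (le_antisymm hDM (Subgroup.relIndex_eq_one.mp h))
    obtain ⟨l, hl, hld⟩ := Nat.exists_prime_and_dvd hidx
    haveI := Fact.mk hl
    haveI : (D.subgroupOf M).Normal := hDn.subgroupOf M
    set c := (D.relIndex M) / l ^ (D.relIndex M).factorization l with hc
    have hcomm : ∀ a ∈ M, ∀ b ∈ M, (b * a)⁻¹ * (a * b) ∈ D := by
      intro a ha b hb
      have : (b * a)⁻¹ * (a * b) = ⁅a⁻¹, b⁻¹⁆ := by rw [commutatorElement_def]; group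
      rw [this]
      exact le_sup_left (b := R) (Subgroup.commutator_mem_commutator (inv_mem ha) (inv_mem hb))
    have hpow : ∀ a ∈ M, a ^ D.relIndex M ∈ D := fun a ha => by
      have h := (D.subgroupOf M).pow_index_mem ⟨a, ha⟩
      exact Subgroup.mem_subgroupOf.mp h
    have hcommq : ∀ a ∈ M, ∀ b ∈ M, Commute (a : G ⧸ D) (b : G ⧸ D) := by
      intro a ha b hb
      show (a : G ⧸ D) * b = b * a
      rw [← QuotientGroup.mk_mul, ← QuotientGroup.mk_mul, eq_comm, QuotientGroup.eq]
      exact hcomm a ha b hb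
    let E : Subgroup G :=
      { carrier := {g | g ∈ M ∧ (g : G ⧸ D) ^ c = 1}
        one_mem' := ⟨one_mem _, by simp⟩
        mul_mem' := fun {a b} ha hb => ⟨mul_mem ha.1 hb.1, by
          rw [QuotientGroup.mk_mul, (hcommq a ha.1 b hb.1).mul_pow, ha.2, hb.2, one_mul]⟩
        inv_mem' := fun {a} ha => ⟨inv_mem ha.1, by
          rw [QuotientGroup.mk_inv, inv_pow, ha.2, inv_one]⟩ }
    have hDE : D ≤ E := fun d hd => ⟨hDM hd, by
      rw [(QuotientGroup.eq_one_iff d).mpr hd, one_pow]⟩
    refine ⟨l, hl, E, ⟨fun g hg a => ⟨hMn.conj_mem g hg.1 a, ?_⟩⟩,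
      le_sup_right.trans hDE, fun g hg => hg.1, fun he => ?_,
      fun a ha b hb => hDE (hcomm a ha b hb), fun a ha => ⟨(D.relIndex M).factorization l, ?_⟩⟩
    · rw [QuotientGroup.mk_mul, QuotientGroup.mk_mul, QuotientGroup.mk_inv, conj_pow, hg.2,
        mul_one, mul_inv_cancel]
    · obtain ⟨q', hq⟩ := exists_prime_orderOf_dvd_card' (G := M ⧸ D.subgroupOf M) l hld
      obtain ⟨q, rfl⟩ := QuotientGroup.mk_surjective q'
      have hqE : (q : G) ∈ E := he.symm ▸ q.2
      have h1 : (QuotientGroup.mk q : M ⧸ D.subgroupOf M) ^ c = 1 := by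
        rw [← QuotientGroup.mk_pow, QuotientGroup.eq_one_iff, Subgroup.mem_subgroupOf]
        have h := hqE.2
        rwa [← QuotientGroup.mk_pow, QuotientGroup.eq_one_iff] at h
      have h2 := orderOf_dvd_of_pow_eq_one h1
      rw [hq] at h2
      exact Nat.not_dvd_ordCompl hl (by
        intro h0; exact Subgroup.index_ne_zero_of_finite (H := D.subgroupOf M) h0) h2
    · refine ⟨M.pow_mem ha _, ?_⟩
      rw [← QuotientGroup.mk_pow, ← pow_mul, hc, Nat.ordProj_mul_ordCompl_eq_self]
      exact (QuotientGroup.eq_one_iff _).mpr (hpow a ha)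
  haveI := hEn
  -- the quotient
  set E' := E.subgroupOf M with hE'
  haveI : E'.Normal := hEn.subgroupOf M
  letI : CommGroup (M ⧸ E') :=
    { (inferInstance : Group (M ⧸ E')) with
      mul_comm := fun a b => by
        obtain ⟨a, rfl⟩ := QuotientGroup.mk_surjective a
        obtain ⟨b, rfl⟩ := QuotientGroup.mk_surjective b
        rw [← QuotientGroup.mk_mul, ← QuotientGroup.mk_mul, eq_comm, QuotientGroup.eq,
          Subgroup.mem_subgroupOf]
        exact hEab a a.2 b b.2 }
  let π : M →* M ⧸ E' := QuotientGroup.mk' E'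
  have hπ1 : ∀ a : M, π a = 1 ↔ (a : G) ∈ E := fun a =>
    (QuotientGroup.eq_one_iff a).trans Subgroup.mem_subgroupOf
  let cj : M →* M := (MulAut.conjNormal x).toMonoidHom
  have hcj : ∀ a : M, ((cj a : M) : G) = x * a * x⁻¹ := fun a => MulAut.conjNormal_apply x a
  let f : M →* M ⧸ E' :=
    { toFun := fun a => π (a⁻¹ * cj a)
      map_one' := by simp
      map_mul' := fun a b => by
        simp only [map_mul, map_inv, mul_inv_rev]
        ac_rfl }
  have hfker : ∀ a ∈ E', f a = 1 := fun a ha => by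
    show π (a⁻¹ * cj a) = 1
    rw [hπ1, Subgroup.coe_mul, Subgroup.coe_inv, hcj]
    exact mul_mem (inv_mem (Subgroup.mem_subgroupOf.mp ha))
      (hEn.conj_mem _ (Subgroup.mem_subgroupOf.mp ha) x)
  have hfpf : ∀ a : M, f a = 1 → π a = 1 := by
    by_contra hc
    push Not at hc
    obtain ⟨a0, ha0, ha0E⟩ := hc
    -- the range is then proper
    have hker : E' < f.ker := by
      refine lt_of_le_of_ne (fun a ha => hfker a ha) fun h => ha0E ((hπ1 a0).mpr ?_)
      exact Subgroup.mem_subgroupOf.mp (show a0 ∈ E' by rw [h]; exact ha0)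
    have hrange : f.range ≠ ⊤ := by
      intro h
      have h1 := congrArg (fun S : Subgroup (M ⧸ E') => Nat.card S) h
      simp only [Subgroup.card_top] at h1
      rw [← Subgroup.index_ker] at h1
      exact absurd (Subgroup.index_strictAnti hker) (not_lt.mpr (le_of_eq h1.symm))
    set D1 := (f.range.comap π).map M.subtype with hD1
    have hD1M : D1 ≤ M := Subgroup.map_subtype_le _
    have hED1 : E ≤ D1 := fun e he => ⟨⟨e, hEM he⟩, by
      show π _ ∈ f.range
      rw [(hπ1 _).mpr he]; exact one_mem _, rfl⟩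
    have hD1x : ∀ a : M, (a : G)⁻¹ * (x * a * x⁻¹) ∈ D1 := fun a => ⟨a⁻¹ * cj a, ⟨a, rfl⟩, by
      simp [hcj]⟩
    have hcen : ∀ g : G, ∀ a ∈ M, a⁻¹ * (g * a * g⁻¹) ∈ D1 := by
      let C : Subgroup G :=
        { carrier := {g | ∀ a ∈ M, a⁻¹ * (g * a * g⁻¹) ∈ D1}
          one_mem' := fun a _ => by simp
          mul_mem' := fun {g h} hg hh a ha => by
            have e : a⁻¹ * (g * h * a * (g * h)⁻¹) =
                a⁻¹ * (h * a * h⁻¹) * ((h * a * h⁻¹)⁻¹ * (g * (h * a * h⁻¹) * g⁻¹)) := by group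
            rw [e]
            exact mul_mem (hh a ha) (hg _ (hMn.conj_mem a ha h))
          inv_mem' := fun {g} hg a ha => by
            have e : a⁻¹ * (g⁻¹ * a * g⁻¹⁻¹) =
                ((g⁻¹ * a * g)⁻¹ * (g * (g⁻¹ * a * g) * g⁻¹))⁻¹ := by group
            rw [e]
            exact inv_mem (hg _ (by simpa using hMn.conj_mem a ha g⁻¹)) }
      have hC : C = ⊤ := hgen C (fun b hb a ha => hED1 (by
        have e : a⁻¹ * (b * a * b⁻¹) = b * ((a * b)⁻¹ * (b * a)) * b⁻¹ := by group
        rw [e]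
        exact hEn.conj_mem _ (hEab b hb a ha) b)) fun a ha => hD1x ⟨a, ha⟩
      exact fun g a ha => (hC ▸ Subgroup.mem_top g : g ∈ C) a ha
    have hD1n : D1.Normal := ⟨fun d hd g => by
      have h := mul_mem hd (hcen g d (hD1M hd))
      rwa [mul_inv_cancel_left] at h⟩
    haveI := hD1n
    have hsupn : ((P : Subgroup G) ⊔ D1).Normal := by
      rw [← Subgroup.normalizer_eq_top_iff]
      refine hgen _ (fun a ha => ?_) (Subgroup.le_normalizer (Subgroup.mem_sup_left hxP))
      have key : ∀ z ∈ (P : Subgroup G), a * z * a⁻¹ ∈ (P : Subgroup G) ⊔ D1 := by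
        intro z hz
        have h' := hcen z⁻¹ a ha
        have hmem : z⁻¹ * a * z * a⁻¹ ∈ D1 := by
          have := hD1n.conj_mem _ h' a
          simpa [mul_assoc] using this
        have e : a * z * a⁻¹ = z * (z⁻¹ * a * z * a⁻¹) := by group
        rw [e]
        exact mul_mem (Subgroup.mem_sup_left hz) (Subgroup.mem_sup_right hmem)
      refine Subgroup.mem_normalizer_iff_map_conj_eq.mpr ?_
      refine Subgroup.eq_of_le_of_card_ge ?_ ?_
      · rw [Subgroup.map_sup]
        refine sup_le ?_ ?_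
        · rintro _ ⟨z, hz, rfl⟩
          exact key z hz
        · rintro _ ⟨z, hz, rfl⟩
          exact Subgroup.mem_sup_right (hD1n.conj_mem z hz a)
      · exact le_of_eq (Nat.card_congr (Subgroup.equivMapOfInjective _ _
          (MulAut.conj a).injective).toEquiv)
    have htop := hno _ hsupn le_sup_left
    apply hrange
    refine eq_top_iff.mpr fun v _ => ?_
    obtain ⟨b, rfl⟩ := QuotientGroup.mk'_surjective E' v
    have hb : (b : G) ∈ (↑((P : Subgroup G) ⊔ D1) : Set G) := by rw [htop]; trivial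
    rw [Subgroup.mul_normal] at hb
    obtain ⟨z, hz, d, hd, hzd⟩ := hb
    have hzM : z ∈ M := by
      rw [eq_mul_inv_of_mul_eq hzd]
      exact mul_mem b.2 (inv_mem (hD1M hd))
    have hbD : (b : G) ∈ D1 := by
      rw [← hzd]
      exact mul_mem (hED1 (hRE ⟨hz, hzM⟩)) hd
    obtain ⟨b', hb', hbe⟩ := hbD
    rw [Subtype.ext hbe] at hb'
    exact hb'
  -- fixed points
  have hxpow : IsPGroup p (Subgroup.zpowers x) :=
    P.2.to_le (Subgroup.zpowers_le.mpr hxP)
  have hsub : ∀ T : Subgroup (M ⧸ E'), (∀ a : M, π a ∈ T → π (cj a) ∈ T) →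
      Nat.card T ≡ 1 [MOD p] := by
    intro T hT
    have hTz : ∀ z ∈ Subgroup.zpowers x, ∀ a : M, π a ∈ T →
        π ((MulAut.conjNormal z) a) ∈ T := by
      intro z hz
      obtain ⟨k, rfl⟩ := (isOfFinOrder_of_finite x).mem_powers_iff_mem_zpowers.mpr hz
      induction k with
      | zero => intro a ha; simpa using ha
      | succ k ih =>
        intro a ha
        have h := hT _ (ih ((isOfFinOrder_of_finite x).mem_powers_iff_mem_zpowers.mp ⟨k, rfl⟩) a ha)
        simp only [pow_succ', map_mul, MulAut.mul_apply]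
        exact h
    let act : Subgroup.zpowers x → T → T := fun z v =>
      ⟨QuotientGroup.map E' E' (MulAut.conjNormal (z : G)).toMonoidHom
        (fun e he => Subgroup.mem_subgroupOf.mpr (by
          simpa using hEn.conj_mem _ (Subgroup.mem_subgroupOf.mp he) (z : G))) v.1, by
        obtain ⟨a, ha⟩ := QuotientGroup.mk'_surjective E' v.1
        rw [← ha]
        exact hTz z z.2 a (show π a ∈ T from ha.symm ▸ v.2)⟩
    letI : MulAction (Subgroup.zpowers x) T :=
      { smul := act
        one_smul := fun v => Subtype.ext (by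
          obtain ⟨a, ha⟩ := QuotientGroup.mk'_surjective E' v.1
          show QuotientGroup.map E' E' _ _ v.1 = v.1
          rw [← ha]
          show π ((MulAut.conjNormal ((1 : Subgroup.zpowers x) : G)) a) = π a
          simp)
        mul_smul := fun y z v => Subtype.ext (by
          obtain ⟨a, ha⟩ := QuotientGroup.mk'_surjective E' v.1
          show QuotientGroup.map E' E' _ _ v.1 =
            QuotientGroup.map E' E' _ _ (QuotientGroup.map E' E' _ _ v.1)
          rw [← ha]
          show π ((MulAut.conjNormal ((y * z : Subgroup.zpowers x) : G)) a) =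
            π ((MulAut.conjNormal (y : G)) ((MulAut.conjNormal (z : G)) a))
          rw [Subgroup.coe_mul, map_mul, MulAut.mul_apply]) }
    have h := hxpow.card_modEq_card_fixedPoints T
    have hone : Nat.card (MulAction.fixedPoints (Subgroup.zpowers x) T) = 1 := by
      rw [Nat.card_eq_one_iff_unique]
      refine ⟨⟨fun v w => ?_⟩, ⟨⟨1, fun z => Subtype.ext (map_one _)⟩⟩⟩
      have hall : ∀ v : MulAction.fixedPoints (Subgroup.zpowers x) T, (v.1 : M ⧸ E') = 1 := by
        intro v
        obtain ⟨a, ha⟩ := QuotientGroup.mk'_surjective E' (v.1 : M ⧸ E')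
        rw [← ha]
        refine hfpf a ?_
        have h1 := congrArg Subtype.val (v.2 ⟨x, Subgroup.mem_zpowers x⟩)
        change QuotientGroup.map E' E' _ _ (v.1 : M ⧸ E') = (v.1 : M ⧸ E') at h1
        rw [← ha] at h1
        show π (a⁻¹ * cj a) = 1
        rw [map_mul, map_inv, inv_mul_eq_one]
        exact h1.symm
      exact Subtype.ext (Subtype.ext ((hall v).trans (hall w).symm))
    rw [hone] at h
    exact h
  -- restriction to `M` and to `E`
  have := Fintype.ofFinite M
  have := Fintype.ofFinite E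
  have := Fintype.ofFinite E'
  have hθ : Cfsg.IsIrrCharacter M (fun a : M => (χ : G → ℂ) a) :=
    BlocksChars5.Restrict.restrict_irr_of_coprime M χ
      (by rw [hMp]; exact Nat.coprime_comm.mp (hp.coprime_iff_not_dvd.mpr hpn))
  set θ : M → ℂ := fun a => (χ : G → ℂ) a with hθdef
  obtain ⟨η, hη⟩ := Clifford.Basic.exists_constituent_restrict E χ.2
  obtain ⟨η0, hη0, hxT⟩ : ∃ η0 : Cfsg.IrrCharacter E,
      Cfsg.classInner (fun a : E => (χ : G → ℂ) a) η0 ≠ 0 ∧
        x ∈ inertia E (η0 : E → ℂ) := by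
    set T := inertia E (η : E → ℂ)
    have hT : ¬ p ∣ T.index := by
      intro hd
      obtain ⟨e, he⟩ := exists_classInner_nat (G := E)
        (isCharacter_comp E.subtype (isCharacter_irr χ)) (isCharacter_irr η)
      obtain ⟨d, hd'⟩ := exists_degree (isCharacter_irr η)
      have h := Clifford.Basic.clifford_degree E χ.2 η hη
      rw [show Cfsg.classInner (fun a : E => (χ : G → ℂ) a) η = (e : ℂ) from he, hd',
        apply_one, ← Nat.cast_mul, ← Nat.cast_mul, Nat.cast_inj] at h
      apply hpn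
      rw [hn, h]
      exact dvd_mul_of_dvd_left (dvd_mul_of_dvd_right hd _) _
    let Q : Sylow p T := default
    obtain ⟨Q', hQ'⟩ := (Q.2.map T.subtype).exists_le_sylow
    have heq : (Q : Subgroup T).map T.subtype = Q' := by
      refine Subgroup.eq_of_le_of_card_ge hQ' ?_
      rw [Q'.card_eq_multiplicity, ← Nat.card_congr (Subgroup.equivMapOfInjective _ _
        T.subtype_injective).toEquiv, Q.card_eq_multiplicity]
      have hTc := T.card_mul_index
      rw [← hTc, Nat.factorization_mul Nat.card_pos.ne' Subgroup.index_ne_zero_of_finite,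
        Finsupp.add_apply, Nat.factorization_eq_zero_of_not_dvd hT, add_zero]
    obtain ⟨g, hg⟩ := MulAction.exists_smul_eq G P Q'
    refine ⟨⟨conjC E g (η : E → ℂ), Clifford.Basic.isIrrCharacter_conjC E g η.2⟩, ?_, ?_⟩
    · show Cfsg.classInner _ (conjC E g (η : E → ℂ)) ≠ 0
      rw [Clifford.Basic.classInner_restrict_conjC E (isClassFunction_irr χ)]
      exact hη
    · have hmem : g * x * g⁻¹ ∈ T := by
        have : g * x * g⁻¹ ∈ (Q' : Subgroup G) := by
          rw [← hg, Sylow.coe_subgroup_smul, Subgroup.mem_pointwise_smul_iff_inv_smul_mem]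
          simpa [mul_assoc] using hxP
        rw [← heq] at this
        exact Subgroup.map_subtype_le _ this
      rw [mem_inertia]
      show conjC E x (conjC E g (η : E → ℂ)) = conjC E g (η : E → ℂ)
      rw [← conjC_mul, show g * x = g * x * g⁻¹ * g by group, conjC_mul, (mem_inertia E).mp hmem]
  set T := inertia E (η0 : E → ℂ) with hTdef
  have hET : E ≤ T := Clifford.Basic.le_inertia E (isClassFunction_irr η0)
  obtain ⟨e, he⟩ := exists_classInner_nat (G := E)
    (isCharacter_comp E.subtype (isCharacter_irr χ)) (isCharacter_irr η0)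
  have he' : Cfsg.classInner (fun a : E => (χ : G → ℂ) a) η0 = (e : ℂ) := he
  obtain ⟨d, hd⟩ := exists_degree (isCharacter_irr η0)
  set t := T.index with ht
  have hdeg : n = e * t * d := by
    have h := Clifford.Basic.clifford_degree E χ.2 η0 hη0
    rw [he', hd, apply_one, ← Nat.cast_mul, ← Nat.cast_mul, Nat.cast_inj] at h
    exact h
  have hs : Nat.card (DualStab.stab π θ) = e * e * t := by
    have h := DualStab.card_stab π θ (QuotientGroup.mk'_surjective E') hθ E'
      (fun a => (QuotientGroup.eq_one_iff a).symm)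
    have hnorm : Cfsg.classInner (fun a : E' => θ a) (fun a : E' => θ a) =
        Cfsg.classInner (fun a : E => (χ : G → ℂ) a) (fun a : E => (χ : G → ℂ) a) := by
      simp only [Cfsg.classInner]
      rw [Nat.card_congr (Subgroup.subgroupOfEquivOfLe hEM).toEquiv]
      congr 1
      exact Fintype.sum_equiv (Subgroup.subgroupOfEquivOfLe hEM).toEquiv _ _ fun a => rfl
    have hcl := Clifford.Basic.clifford E χ.2 η0 hη0
    rw [he', ← hTdef] at hcl
    have hval : Cfsg.classInner (fun a : E => (χ : G → ℂ) a) (fun a : E => (χ : G → ℂ) a) =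
        ((e * e * t : ℕ) : ℂ) := by
      conv_lhs => arg 1; rw [hcl]
      rw [classInner_smul_left, classInner_sum_left]
      have hterm : ∀ g : G, Cfsg.classInner (conjC E g (η0 : E → ℂ))
          (fun a : E => (χ : G → ℂ) a) = (e : ℂ) := by
        intro g
        rw [← classInner_conj_symm, Clifford.Basic.classInner_restrict_conjC E
          (isClassFunction_irr χ), he', map_natCast]
      simp only [hterm, Finset.sum_const, Finset.card_univ, nsmul_eq_mul]
      have hT : (Nat.card T : ℂ) ≠ 0 := subgroup_card_ne_zero _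
      rw [Fintype.card_eq_nat_card, ← T.card_mul_index, ← ht]
      push_cast
      field_simp
    rw [hnorm, hval] at h
    exact_mod_cast h
  have hs1 : e * e * t ≡ 1 [MOD p] := by
    rw [← hs]
    -- the stabiliser is invariant and has no fixed point
    have hinvθ : ∀ z : G, ∀ a : M, θ (MulAut.conjNormal z a) = θ a := fun z a => by
      simp only [hθdef, MulAut.conjNormal_apply]
      exact isClassFunction_irr χ (a : G) z
    let tw : Subgroup.zpowers x → (M ⧸ E') →* (M ⧸ E') := fun z =>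
      QuotientGroup.map E' E' (MulAut.conjNormal (z : G)⁻¹).toMonoidHom
        (fun e he => Subgroup.mem_subgroupOf.mpr (by
          simpa using hEn.conj_mem _ (Subgroup.mem_subgroupOf.mp he) (z : G)⁻¹))
    let act : Subgroup.zpowers x → DualStab.stab π θ → DualStab.stab π θ := fun z l =>
      ⟨l.1.comp (tw z), fun a => by
        show ((l.1 (π (MulAut.conjNormal (z : G)⁻¹ a)) : ℂˣ) : ℂ) * θ a = θ a
        conv_lhs => rw [← hinvθ (z : G)⁻¹ a]
        rw [l.2, hinvθ]⟩
    letI : MulAction (Subgroup.zpowers x) (DualStab.stab π θ) :=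
      { smul := act
        one_smul := fun l => Subtype.ext (MonoidHom.ext fun v => by
          obtain ⟨a, rfl⟩ := QuotientGroup.mk'_surjective E' v
          show l.1 (π ((MulAut.conjNormal ((1 : Subgroup.zpowers x) : G)⁻¹) a)) = l.1 (π a)
          simp)
        mul_smul := fun y z l => Subtype.ext (MonoidHom.ext fun v => by
          obtain ⟨a, rfl⟩ := QuotientGroup.mk'_surjective E' v
          show l.1 (π ((MulAut.conjNormal ((y * z : Subgroup.zpowers x) : G)⁻¹) a)) =
            l.1 (π ((MulAut.conjNormal (z : G)⁻¹) ((MulAut.conjNormal (y : G)⁻¹) a)))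
          rw [Subgroup.coe_mul, mul_inv_rev, map_mul, MulAut.mul_apply]) }
    have h := hxpow.card_modEq_card_fixedPoints (DualStab.stab π θ)
    have hone : Nat.card (MulAction.fixedPoints (Subgroup.zpowers x) (DualStab.stab π θ)) = 1 := by
      rw [Nat.card_eq_one_iff_unique]
      refine ⟨⟨fun v w => ?_⟩, ⟨⟨1, fun z => Subtype.ext (MonoidHom.ext fun v => rfl)⟩⟩⟩
      have hall : ∀ l : MulAction.fixedPoints (Subgroup.zpowers x) (DualStab.stab π θ),
          (l.1 : (M ⧸ E') →* ℂˣ) = 1 := by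
        intro l
        -- `f` is onto
        have hfs : f.range = ⊤ := by
          apply Subgroup.eq_top_of_card_eq
          rw [← Subgroup.index_ker, show f.ker = E' from
            le_antisymm (fun a ha => (QuotientGroup.eq_one_iff a).mp (hfpf a ha)) hfker]
          rfl
        refine MonoidHom.ext fun v => ?_
        obtain ⟨a, rfl⟩ : v ∈ f.range := hfs ▸ Subgroup.mem_top v
        have h1 := congrArg (fun k : DualStab.stab π θ => k.1 (π (cj a)))
          (l.2 ⟨x, Subgroup.mem_zpowers x⟩)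
        change l.1.1 (π (MulAut.conjNormal x⁻¹ (MulAut.conjNormal x a))) = l.1.1 (π (cj a)) at h1
        rw [← MulAut.mul_apply, ← map_mul, inv_mul_cancel, map_one, MulAut.one_apply] at h1
        show l.1.1 (π (a⁻¹ * cj a)) = 1
        rw [map_mul, map_inv, map_mul, map_inv, ← h1, inv_mul_cancel]
      exact Subtype.ext (Subtype.ext ((hall v).trans (hall w).symm))
    rw [hone] at h
    exact h
  have ht1 : t ≡ 1 [MOD p] := by
    set S := ((T ⊓ M).subgroupOf M).map π with hSdef
    have hS := hsub S fun a ha => by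
      obtain ⟨b, hb, hbe⟩ := ha
      refine ⟨cj b, ?_, ?_⟩
      · rw [SetLike.mem_coe, Subgroup.mem_subgroupOf] at hb ⊢
        refine ⟨?_, (cj b).2⟩
        show ((cj b : M) : G) ∈ T
        rw [hcj]
        exact mul_mem (mul_mem hxT hb.1) (inv_mem hxT)
      · have h1 : π (b⁻¹ * a) = 1 := by rw [map_mul, map_inv, hbe, inv_mul_cancel]
        rw [hπ1] at h1
        have h2 : π (cj (b⁻¹ * a)) = 1 :=
          (hπ1 _).mpr (by rw [hcj]; exact hEn.conj_mem _ h1 x)
        rw [map_mul, map_inv, map_mul, map_inv, inv_mul_eq_one] at h2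
        exact h2
    have hall := hsub ⊤ fun a _ => Subgroup.mem_top _
    rw [Subgroup.card_top] at hall
    have hidx : Nat.card (M ⧸ E') = t * Nat.card S := by
      have h1 : ((T ⊓ M).subgroupOf M).index = t := by
        show (T ⊓ M).relIndex M = t
        rw [Subgroup.inf_relIndex_right]
        exact relIndex_of_sup (hgen (T ⊔ M) le_sup_right (Subgroup.mem_sup_left hxT))
      have h2 : S.index = ((T ⊓ M).subgroupOf M).index := by
        refine Subgroup.index_map_eq _ (QuotientGroup.mk'_surjective E') ?_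
        rw [QuotientGroup.ker_mk']
        exact fun a ha => ⟨hET (Subgroup.mem_subgroupOf.mp ha), a.2⟩
      rw [← h1, ← h2, Subgroup.index_mul_card]
    rw [hidx] at hall
    have h3 := hS.mul_left t
    rw [mul_one] at h3
    exact h3.symm.trans hall
  -- the powers of `l`
  haveI := Fact.mk hl
  obtain ⟨k, hk⟩ : ∃ k, Nat.card (DualStab.stab π θ) = l ^ k := by
    refine IsPGroup.iff_card.mp (fun v => ?_)
    obtain ⟨j, hj⟩ : ∃ j, Nat.card (M ⧸ E') = l ^ j := by
      refine IsPGroup.iff_card.mp (fun v => ?_)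
      obtain ⟨a, rfl⟩ := QuotientGroup.mk'_surjective E' v
      obtain ⟨j, hj⟩ := hElpow a a.2
      exact ⟨j, by rw [← map_pow]; exact (hπ1 _).mpr hj⟩
    refine ⟨j, Subtype.ext (MonoidHom.ext fun w => ?_)⟩
    show (v.1 ^ l ^ j) w = 1
    rw [MonoidHom.pow_apply, ← map_pow, ← hj, pow_card_eq_one', map_one]
  rw [hs] at hk
  have hcast : ∀ a : ℕ, a ≡ 1 [MOD p] → (a : ℤ) ≡ 1 [ZMOD p] := fun a h => by
    have := Int.natCast_modEq_iff.mpr h
    simpa using this
  by_cases ht' : 1 < t
  · refine ⟨t, ?_, ⟨e * d, by rw [hdeg]; ring⟩, Or.inr (Or.inr (hcast t ht1))⟩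
    obtain ⟨i, -, hi⟩ := (Nat.dvd_prime_pow hl).mp (hk ▸ dvd_mul_left t (e * e))
    rw [hi] at ht' ⊢
    exact hl.isPrimePow.pow (by rintro rfl; simp at ht')
  by_cases he1 : 1 < e
  · refine ⟨e, ?_, ⟨t * d, by rw [hdeg]; ring⟩, ?_⟩
    · obtain ⟨i, -, hi⟩ := (Nat.dvd_prime_pow hl).mp
        (hk ▸ dvd_mul_of_dvd_left (dvd_mul_left e e) t)
      rw [hi] at he1 ⊢
      exact hl.isPrimePow.pow (by rintro rfl; simp at he1)
    · have h1 : ((e : ZMod p)) * e = 1 := by
        have h := (ZMod.natCast_eq_natCast_iff _ _ _).mpr hs1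
        have h' := (ZMod.natCast_eq_natCast_iff _ _ _).mpr ht1
        push_cast at h h'
        rwa [h', mul_one] at h
      rcases mul_self_eq_one_iff.mp h1 with h | h
      · exact Or.inr (Or.inr ((ZMod.intCast_eq_intCast_iff _ _ _).mp (by push_cast; exact h)))
      · exact Or.inl ((ZMod.intCast_eq_intCast_iff _ _ _).mp (by push_cast; exact h))
  -- irreducible restriction to `E`
  have ht0 : 0 < t := Nat.pos_of_ne_zero Subgroup.index_ne_zero_of_finite
  have he0 : 0 < e := Nat.pos_of_ne_zero fun h => hη0 (by rw [he', h, Nat.cast_zero])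
  obtain rfl : e = 1 := by omega
  have ht1' : t = 1 := by omega
  have hirr : Cfsg.IsIrrCharacter E (fun a : E => (χ : G → ℂ) a) := by
    have h := Clifford.Basic.restrict_eq_smul E χ.2 η0 hη0 fun g => by
      have : g ∈ T := by rw [Subgroup.index_eq_one.mp ht1']; trivial
      exact this
    rw [he', Nat.cast_one, one_smul] at h
    rw [h]
    exact η0.2
  set G1 := (P : Subgroup G) ⊔ E with hG1
  have := Fintype.ofFinite G1
  have hirr1 : Cfsg.IsIrrCharacter G1 (fun a : G1 => (χ : G → ℂ) a) :=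
    Clifford.Monomial.isIrr_of_comp_irr (Subgroup.inclusion le_sup_right)
      (isCharacter_comp G1.subtype (isCharacter_irr χ)) hirr
  have hG1top : G1 ≠ ⊤ := by
    intro htop
    apply hEne
    refine le_antisymm hEM fun a ha => ?_
    have hb : a ∈ (↑((P : Subgroup G) ⊔ E) : Set G) := by rw [← hG1, htop]; trivial
    rw [Subgroup.mul_normal] at hb
    obtain ⟨z, hz, c, hc, hzc⟩ := hb
    have hzM : z ∈ M := by
      rw [eq_mul_inv_of_mul_eq hzc]
      exact mul_mem ha (inv_mem (hEM hc))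
    rw [← hzc]
    exact mul_mem (hRE ⟨hz, hzM⟩) hc
  by_cases hbad : ∃ S : Sylow p G1, ¬ (S : Subgroup G1).Normal
  · obtain ⟨S, hS⟩ := hbad
    have hlt : Nat.card G1 < m := by
      rw [← hcard]
      exact lt_of_le_of_ne (Nat.le_of_dvd Nat.card_pos G1.card_subgroup_dvd_card)
        fun h => hG1top ((Subgroup.card_eq_iff_eq_top G1).mp h)
    have h := ih _ hlt (⟨_, hirr1⟩ : Cfsg.IrrCharacter G1)
      (fun g hg => Subtype.ext (hf g hg)) S hS rfl
    have hdeg1 : Cfsg.charDegree (fun a : G1 => (χ : G → ℂ) a) = n := by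
      rw [hn, Cfsg.charDegree, Cfsg.charDegree, OneMemClass.coe_one]
    change Good p (Cfsg.charDegree (fun a : G1 => (χ : G → ℂ) a)) at h
    rwa [hdeg1] at h
  push Not at hbad
  -- `E` is central modulo `R`
  have hER : ∀ g : G, ∀ c ∈ E, c⁻¹ * (g * c * g⁻¹) ∈ R := by
    let C : Subgroup G :=
      { carrier := {g | ∀ c ∈ E, c⁻¹ * (g * c * g⁻¹) ∈ R}
        one_mem' := fun c _ => by simp
        mul_mem' := fun {g h} hg hh c hc => by
          have e : c⁻¹ * (g * h * c * (g * h)⁻¹) =
              c⁻¹ * (h * c * h⁻¹) * ((h * c * h⁻¹)⁻¹ * (g * (h * c * h⁻¹) * g⁻¹)) := by group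
          rw [e]
          exact mul_mem (hh c hc) (hg _ (hEn.conj_mem c hc h))
        inv_mem' := fun {g} hg c hc => by
          have e : c⁻¹ * (g⁻¹ * c * g⁻¹⁻¹) =
              ((g⁻¹ * c * g)⁻¹ * (g * (g⁻¹ * c * g) * g⁻¹))⁻¹ := by group
          rw [e]
          exact inv_mem (hg _ (by simpa using hEn.conj_mem c hc g⁻¹)) }
    have hCn : C.Normal := ⟨fun g hg a c hc => by
      have h := hRn.conj_mem _ (hg (a⁻¹ * c * a) (by simpa using hEn.conj_mem c hc a⁻¹)) a
      convert h using 1
      group⟩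
    have hPC : (P : Subgroup G) ≤ C := by
      intro z hz c hc
      have hzc : IsPElt p (c⁻¹ * (z * c * z⁻¹)) := by
        have hn1 := (normal_iff_closed (default : Sylow p G1)).mp (hbad default)
          ⟨c⁻¹ * z * c, ?_⟩ ⟨z⁻¹, Subgroup.mem_sup_left (inv_mem hz)⟩ ?_ ?_
        · obtain ⟨j, hj⟩ := hn1
          exact ⟨j, by rw [← OneMemClass.coe_one G1, ← hj]; simp [mul_assoc]⟩
        · exact mul_mem (mul_mem (Subgroup.mem_sup_right (inv_mem hc)) (Subgroup.mem_sup_left hz))
            (Subgroup.mem_sup_right hc)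
        · obtain ⟨j, hj⟩ := isPElt_conj (isPElt_of_mem P.2 hz) c⁻¹
          exact ⟨j, Subtype.ext (by simpa using hj)⟩
        · obtain ⟨j, hj⟩ := isPElt_of_mem P.2 (inv_mem hz)
          exact ⟨j, Subtype.ext hj⟩
      exact hpM _ (mul_mem (inv_mem (hEM hc)) (hMn.conj_mem c (hEM hc) z)) hzc
    exact fun g c hc => (hno C hCn hPC ▸ Subgroup.mem_top g : g ∈ C) c hc
  -- constituents on `R`
  have := Fintype.ofFinite R
  obtain ⟨lam, hlam⟩ := Clifford.Basic.exists_constituent_restrict R χ.2
  have hlam1 : (lam : R → ℂ) 1 = 1 := by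
    obtain ⟨c, hc, -⟩ := BlocksChars5.Restrict.ratio_dvd_nat R χ lam hlam
    obtain ⟨j, -, hjd, hjv⟩ := Characters.Degree.exists_degree_dvd lam
    obtain ⟨r, hr⟩ := IsPGroup.iff_card.mp hRp
    obtain ⟨i, -, hi⟩ := (Nat.dvd_prime_pow hp).mp (hr ▸ hjd)
    have hdd : Cfsg.charDegree (lam : R → ℂ) = j := by rw [Cfsg.charDegree, hjv]; simp
    rw [hdd, ← hn] at hc
    rcases Nat.eq_zero_or_pos i with rfl | hi0
    · rw [hjv, hi, pow_zero, Nat.cast_one]
    · exact absurd (hc ▸ dvd_mul_of_dvd_right (hi ▸ dvd_pow_self p hi0.ne') c) hpn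
  set S := inertia R (lam : R → ℂ) with hSdef
  have hRS : R ≤ S := Clifford.Basic.le_inertia R (isClassFunction_irr lam)
  have hGS : ∀ g : G, ∃ c ∈ E, conjC R g (lam : R → ℂ) = conjC R c (lam : R → ℂ) := by
    intro g
    set RE := R.subgroupOf E
    haveI : RE.Normal := hRn.subgroupOf E
    have := Fintype.ofFinite RE
    let ee : RE ≃* R := Subgroup.subgroupOfEquivOfLe hRE
    have hlift : ∀ μ : Cfsg.IrrCharacter R,
        Cfsg.classInner (fun a : R => (χ : G → ℂ) a) μ ≠ 0 →
        Cfsg.classInner (fun a : RE => (χ : G → ℂ) ((a : E) : G))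
          (fun a => (μ : R → ℂ) (ee a)) ≠ 0 := by
      intro μ hμ
      convert hμ using 1
      simp only [Cfsg.classInner, Nat.card_congr ee.toEquiv]
      congr 1
      exact Fintype.sum_equiv ee.toEquiv _ _ fun a => rfl
    let l1 : Cfsg.IrrCharacter RE :=
      ⟨fun a => (lam : R → ℂ) (ee a), isIrrCharacter_comp ee.toMonoidHom ee.surjective lam.2⟩
    let l2 : Cfsg.IrrCharacter RE :=
      ⟨fun a => conjC R g (lam : R → ℂ) (ee a), isIrrCharacter_comp ee.toMonoidHom ee.surjective
        (Clifford.Basic.isIrrCharacter_conjC R g lam.2)⟩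
    obtain ⟨c, hc⟩ := Clifford.Basic.exists_conj_of_constituents RE hirr (θ := l1) (ψ := l2)
      (hlift lam hlam) (hlift ⟨_, Clifford.Basic.isIrrCharacter_conjC R g lam.2⟩ (by
        show Cfsg.classInner _ (conjC R g (lam : R → ℂ)) ≠ 0
        rw [Clifford.Basic.classInner_restrict_conjC R (isClassFunction_irr χ)]
        exact hlam))
    refine ⟨c, c.2, funext fun a => ?_⟩
    exact (congrFun hc ⟨⟨a, hRE a.2⟩, a.2⟩).symm
  have hSn : S.Normal := ⟨fun s hs g => by
    obtain ⟨c, hc, hce⟩ := hGS g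
    have hs0 : g * c⁻¹ ∈ S := (Clifford.Basic.conjC_eq_conjC_iff R g c).mp hce
    have h1 : c * s * c⁻¹ ∈ S := by
      have h3 := mul_mem hs (hRS (hRn.conj_mem _ (hER s⁻¹ c hc) c))
      have e : s * (c * (c⁻¹ * (s⁻¹ * c * s⁻¹⁻¹)) * c⁻¹) = c * s * c⁻¹ := by group
      rwa [e] at h3
    have e : g * s * g⁻¹ = g * c⁻¹ * (c * s * c⁻¹) * (g * c⁻¹)⁻¹ := by group
    rw [e]
    exact mul_mem (mul_mem hs0 h1) (inv_mem hs0)⟩
  obtain ⟨e', he''⟩ := exists_classInner_nat (G := R)
    (isCharacter_comp R.subtype (isCharacter_irr χ)) (isCharacter_irr lam)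
  have hres' : Cfsg.classInner (fun a : R => (χ : G → ℂ) a) lam = (e' : ℂ) := he''
  have hSidx : ¬ p ∣ S.index := by
    have h := Clifford.Basic.clifford_degree R χ.2 lam hlam
    rw [hres', hlam1, mul_one, apply_one, ← Nat.cast_mul, Nat.cast_inj] at h
    intro hd
    apply hpn
    rw [hn, h]
    exact dvd_mul_of_dvd_right hd _
  have hStop : S = ⊤ :=
    hno S hSn fun z hz => mem_of_index hSidx (isPElt_of_mem P.2 hz)
  have hinvl : ∀ g : G, conjC R g (lam : R → ℂ) = (lam : R → ℂ) := fun g =>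
    (mem_inertia R).mp (show g ∈ S by rw [hStop]; trivial)
  have hrestr := Clifford.Basic.restrict_eq_smul R χ.2 lam hlam hinvl
  have hRcen : ∀ r ∈ R, ∀ g : G, g * r * g⁻¹ = r := by
    intro r hr g
    have hlm := Characters.Linear.apply_mul_of_degree_one (isCharacter_irr lam) hlam1
    set a : R := ⟨g * r * g⁻¹, hRn.conj_mem r hr g⟩ * ⟨r, hr⟩⁻¹ with ha
    have h1 : (lam : R → ℂ) ⟨g * r * g⁻¹, hRn.conj_mem r hr g⟩ = (lam : R → ℂ) ⟨r, hr⟩ :=
      congrFun (hinvl g) ⟨r, hr⟩
    have h2 : (lam : R → ℂ) a = (lam : R → ℂ) 1 := by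
      rw [ha, hlm, h1, ← hlm, mul_inv_cancel]
    have h3 : (χ : G → ℂ) (a : G) = (χ : G → ℂ) 1 := by
      have e1 := congrFun hrestr a
      have e2 := congrFun hrestr 1
      simp only [Pi.smul_apply, OneMemClass.coe_one, h2] at e1 e2
      rw [e1, e2]
    have h4 := hf _ h3
    rw [ha, Subgroup.coe_mul, Subgroup.coe_inv, mul_inv_eq_one] at h4
    exact h4
  have hEcen : ∀ c ∈ E, ∀ g : G, g * c * g⁻¹ = c := by
    intro c hc g
    haveI : (R.subgroupOf E).Normal := hRn.subgroupOf E
    have hk : c ^ R.relIndex E ∈ R := by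
      have h := (R.subgroupOf E).pow_index_mem ⟨c, hc⟩
      exact Subgroup.mem_subgroupOf.mp h
    have hmem : c⁻¹ * (g * c * g⁻¹) ∈ R := hER g c hc
    have hcomm : Commute c (c⁻¹ * (g * c * g⁻¹)) := by
      have h := hRcen _ hmem c
      exact mul_inv_eq_iff_eq_mul.mp h
    have hpowk : (c⁻¹ * (g * c * g⁻¹)) ^ R.relIndex E = 1 := by
      have h1 : c * (c⁻¹ * (g * c * g⁻¹)) = g * c * g⁻¹ := mul_inv_cancel_left _ _
      have h2 := hcomm.mul_pow (R.relIndex E)
      rw [h1, conj_pow, hRcen _ hk g] at h2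
      exact mul_eq_left.mp h2.symm
    have hkp : ¬ p ∣ R.relIndex E := fun hd => P.not_dvd_index (by
      rw [← hPM, ← Subgroup.relIndex_mul_relIndex R E M hRE hEM]
      exact dvd_mul_of_dvd_left hd _)
    obtain ⟨j, hj⟩ := isPElt_of_mem hRp hmem
    have h := orderOf_eq_one_iff.mp (Nat.eq_one_of_dvd_coprimes
      ((hp.coprime_iff_not_dvd.mpr hkp).pow_left j)
      (orderOf_dvd_of_pow_eq_one hj) (orderOf_dvd_of_pow_eq_one hpowk))
    exact (inv_mul_eq_one.mp h).symm
  have hone : (χ : G → ℂ) 1 = 1 := by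
    have h := Characters.Linear.degree_eq_one_of_comm (G := E) (fun a b => Subtype.ext
      (mul_inv_eq_iff_eq_mul.mp (hEcen (b : G) b.2 (a : G)))) ⟨_, hirr⟩
    exact h
  refine absurd ⟨fun z hz g => ?_⟩ hP
  have hgz : g * z * g⁻¹ = z := by
    rw [← mul_inv_eq_one]
    refine hf _ ?_
    have hm := Characters.Linear.apply_mul_of_degree_one (isCharacter_irr χ) hone
    simp only [hm, hone]
    have e1 : (χ : G → ℂ) g * (χ : G → ℂ) g⁻¹ = 1 := by rw [← hm, mul_inv_cancel, hone]
    have e2 : (χ : G → ℂ) z * (χ : G → ℂ) z⁻¹ = 1 := by rw [← hm, mul_inv_cancel, hone]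
    linear_combination (χ : G → ℂ) z * (χ : G → ℂ) z⁻¹ * e1 + e2
  rwa [hgz]

end Cfsg.Agent.Lib.BC77.SolvDegree
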