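import Cfsg.Agent.Lib.Characters.Indicator
import Cfsg.Agent.Lib.Characters.Degree
import Cfsg.Agent.Lib.PGroups.Frattini
import Mathlib.GroupTheory.PGroup

/-!
# Alperin-Feit-Thompson: involution counts of 2-groups modulo 4

The group of linear characters of order dividing 4 acts on the real irreducible characters of
degree 2; an isotropy group has order at most 4, so their number is even unless the derived
subgroup has index 4.
-/

namespace Cfsg.Agent.Lib.BC77.TwoInvCount

open scoped ComplexConjugate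
open Cfsg.Agent.Lib.Induced.Basic Cfsg.Agent.Lib.Characters.Basic
open Cfsg.Agent.Lib.Characters.Linear Cfsg.Agent.Lib.Characters.Indicator

universe u

variable {G : Type u} [Group G]

/-- The elements killed by `n` in a commutative group. -/
def pk (n : ℕ) (A : Type*) [CommGroup A] : Subgroup A where
  carrier := {a | a ^ n = 1}
  one_mem' := one_pow n
  mul_mem' := fun {a b} (ha : a ^ n = 1) (hb : b ^ n = 1) => show (a * b) ^ n = 1 by
    rw [mul_pow, ha, hb, one_mul]
  inv_mem' := fun {a} (ha : a ^ n = 1) => show a⁻¹ ^ n = 1 by rw [inv_pow, ha, inv_one]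

theorem mem_pk {n : ℕ} {A : Type*} [CommGroup A] {a : A} : a ∈ pk n A ↔ a ^ n = 1 := Iff.rfl

/-- Twisting by a linear character. -/
noncomputable def tw [Finite G] (lam : G →* ℂˣ) (χ : Cfsg.IrrCharacter G) :
    Cfsg.IrrCharacter G :=
  ⟨(linChar lam : G → ℂ) * (χ : G → ℂ), isIrrCharacter_linear_mul (isCharacter_irr _)
    (by simp [linChar_apply]) χ.2⟩

theorem tw_apply [Finite G] (lam : G →* ℂˣ) (χ : Cfsg.IrrCharacter G) (g : G) :
    (tw lam χ : G → ℂ) g = (lam g : ℂ) * (χ : G → ℂ) g := rfl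

/-- The sum of the values of a homomorphism into `ℂˣ`. -/
theorem sum_hom [Fintype G] (lam : G →* ℂˣ) [Decidable (lam = 1)] :
    ∑ g : G, (lam g : ℂ) = if lam = 1 then (Nat.card G : ℂ) else 0 := by
  split_ifs with h
  · subst h; simp [Nat.card_eq_fintype_card]
  · obtain ⟨x, hx⟩ : ∃ x, lam x ≠ 1 := by
      by_contra! hc
      exact h (MonoidHom.ext hc)
    have h1 : ∑ g : G, (lam g : ℂ) = (lam x : ℂ) * ∑ g : G, (lam g : ℂ) := by
      rw [Finset.mul_sum]
      refine (Fintype.sum_equiv (Equiv.mulLeft x) _ _ fun g => ?_).symm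
      simp
    by_contra hne
    exact hx (Units.ext (mul_right_cancel₀ hne (by rw [← h1, Units.val_one, one_mul])))

theorem finite_dual [Finite G] : Finite (G →* ℂˣ) := Finite.of_equiv _ (linEquiv G).symm

theorem conj_hom [Finite G] (lam : G →* ℂˣ) (g : G) :
    conj (lam g : ℂ) = ((lam g : ℂ))⁻¹ := by
  have h := apply_inv (isCharacter_irr (linChar lam)) g
  rw [linChar_apply, linChar_apply, map_inv, Units.val_inv_eq_inv_val] at h
  exact h.symm

/-- A group of linear characters fixing a character of degree 2 has order at most 4. -/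
theorem card_le_four [Finite G] (Lam : Subgroup (G →* ℂˣ)) (χ : Cfsg.IrrCharacter G)
    (h2 : (χ : G → ℂ) 1 = 2) (hfix : ∀ lam ∈ Lam, tw lam χ = χ) : Nat.card Lam ≤ 4 := by
  classical
  have := Fintype.ofFinite G
  have := finite_dual (G := G)
  have := Fintype.ofFinite Lam
  set K : Finset G := Finset.univ.filter fun g => ∀ lam : Lam, (lam : G →* ℂˣ) g = 1
  have hsum : ∀ g : G, ∑ lam : Lam, (((lam : G →* ℂˣ) g : ℂˣ) : ℂ) =
      if g ∈ K then (Nat.card Lam : ℂ) else 0 := by
    intro g
    split_ifs with h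
    · have h' : ∀ lam : Lam, (lam : G →* ℂˣ) g = 1 := by simpa [K] using h
      simp [h', Nat.card_eq_fintype_card]
    · simp only [K, Finset.mem_filter, Finset.mem_univ, true_and, not_forall] at h
      obtain ⟨l0, hl0⟩ := h
      by_contra hne
      refine hl0 (Units.ext (mul_right_cancel₀ hne ?_))
      rw [Units.val_one, one_mul, Finset.mul_sum]
      exact Fintype.sum_equiv (Equiv.mulLeft l0) _ _ fun lam => by simp
  have hcount : (Nat.card Lam * K.card : ℕ) = Nat.card G := by
    have h1 : ∑ g : G, ∑ lam : Lam, (((lam : G →* ℂˣ) g : ℂˣ) : ℂ) =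
        (Nat.card Lam : ℂ) * K.card := by
      simp only [hsum]
      rw [Finset.sum_ite_mem, Finset.univ_inter, Finset.sum_const, nsmul_eq_mul, mul_comm]
    rw [Finset.sum_comm] at h1
    simp only [sum_hom] at h1
    have h2 : (Nat.card Lam : ℂ) * K.card = (Nat.card G : ℂ) := by
      rw [← h1]
      exact (Finset.sum_eq_single (1 : Lam) (fun b _ hb => if_neg fun h => hb (Subtype.ext h))
        (fun h => absurd (Finset.mem_univ _) h)).trans (if_pos rfl)
    exact_mod_cast h2
  have hsupp : ∀ g, g ∉ K → (χ : G → ℂ) g = 0 := by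
    intro g hg
    simp only [K, Finset.mem_filter, Finset.mem_univ, true_and, not_forall] at hg
    obtain ⟨l0, hl0⟩ := hg
    have h := congrFun (congrArg Subtype.val (hfix l0 l0.2)) g
    rw [tw_apply] at h
    by_contra hne
    exact hl0 (Units.ext (mul_right_cancel₀ hne (by rw [h, Units.val_one, one_mul])))
  have hone : ∑ g : G, ‖(χ : G → ℂ) g‖ ^ 2 = (Nat.card G : ℝ) := by
    have h := classInner_self_irr χ
    rw [Cfsg.classInner, inv_mul_eq_one₀ natCard_ne_zero] at h
    apply Complex.ofReal_injective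
    push_cast
    rw [h]
    exact Finset.sum_congr rfl fun g _ => (Complex.mul_conj' _).symm
  have hle : (Nat.card G : ℝ) ≤ 4 * K.card := by
    rw [← hone, ← Finset.sum_subset (Finset.subset_univ K) fun g _ hg => by simp [hsupp g hg]]
    calc ∑ g ∈ K, ‖(χ : G → ℂ) g‖ ^ 2 ≤ ∑ g ∈ K, (4 : ℝ) := by
          refine Finset.sum_le_sum fun g _ => ?_
          have h := norm_apply_le (isCharacter_irr χ) g
          rw [h2, Complex.norm_ofNat] at h
          nlinarith [norm_nonneg ((χ : G → ℂ) g)]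
      _ = _ := by rw [Finset.sum_const, nsmul_eq_mul, mul_comm]
  have hle' : Nat.card G ≤ 4 * K.card := by exact_mod_cast hle
  rw [← hcount] at hle'
  refine Nat.le_of_mul_le_mul_right hle' (Finset.card_pos.mpr ⟨1, ?_⟩)
  simp [K]

/-- In a commutative 2-group that is not cyclic there are at least four square roots of 1. -/
theorem four_le_card_sq [Finite G] {A : Type*} [CommGroup A] [Finite A] (hA : IsPGroup 2 A)
    (hnc : ¬ IsCyclic A) : 4 ≤ Nat.card (pk 2 A) := by
  classical
  have := Fintype.ofFinite A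
  have hpow : ∃ n, Nat.card (pk 2 A) = 2 ^ n :=
    IsPGroup.iff_card.mp (hA.to_subgroup _)
  obtain ⟨n, hn⟩ := hpow
  rcases Nat.lt_or_ge n 2 with hlt | hge
  · refine absurd ?_ hnc
    have h2 : Nat.card (pk 2 A) ≤ 2 := by
      rw [hn]
      exact le_trans (Nat.pow_le_pow_right (by norm_num) (Nat.le_of_lt_succ hlt)) (le_refl _)
    refine isCyclic_of_card_pow_eq_one_le fun m hm => ?_
    induction m using Nat.strong_induction_on with
    | _ m ih =>
      rcases Nat.even_or_odd m with ⟨j, rfl⟩ | hodd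
      · have hmap : ∀ a ∈ (Finset.univ.filter fun a : A => a ^ (j + j) = 1),
            a ^ 2 ∈ Finset.univ.filter fun a : A => a ^ j = 1 := by
          intro a ha
          simp only [Finset.mem_filter, Finset.mem_univ, true_and] at ha ⊢
          rw [← pow_mul, two_mul, ha]
        have h := Finset.card_le_mul_card_image_of_maps_to hmap 2 fun b _ => ?_
        · exact h.trans (by have := ih j (by omega) (by omega); omega)
        · rcases Finset.eq_empty_or_nonempty
            (Finset.filter (fun a : A => a ^ 2 = b)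
              (Finset.univ.filter fun a : A => a ^ (j + j) = 1)) with he | ⟨a0, ha0⟩
          · simp [he]
          · refine le_trans ?_ h2
            rw [Nat.card_eq_fintype_card, ← Finset.card_univ]
            simp only [Finset.mem_filter, Finset.mem_univ, true_and] at ha0
            refine Finset.card_le_card_of_injOn
              (fun a => if h : (a * a0⁻¹) ^ 2 = 1
                then (⟨a * a0⁻¹, h⟩ : (pk 2 A)) else 1)
              (fun _ _ => Finset.mem_coe.mpr (Finset.mem_univ _)) ?_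
            intro a ha c hc he
            simp only [Finset.coe_filter, Set.mem_ofPred_eq, Finset.mem_filter,
              Finset.mem_univ, true_and] at ha hc
            have ha' : (a * a0⁻¹) ^ 2 = 1 := by rw [mul_pow, inv_pow, ha.2, ha0.2, mul_inv_cancel]
            have hc' : (c * a0⁻¹) ^ 2 = 1 := by rw [mul_pow, inv_pow, hc.2, ha0.2, mul_inv_cancel]
            simp only [ha', hc', dite_true, Subtype.mk.injEq] at he
            exact mul_right_cancel (congrArg Subtype.val he)
      · have h1 : (Finset.univ.filter fun a : A => a ^ m = 1) ⊆ {1} := by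
          intro a ha
          simp only [Finset.mem_filter, Finset.mem_univ, true_and] at ha
          obtain ⟨k, hk⟩ := isPGroup_iff_orderOf_dvd_pow.mp hA a
          rw [Finset.mem_singleton, ← orderOf_eq_one_iff]
          exact Nat.eq_one_of_dvd_coprimes ((Nat.coprime_two_left.mpr hodd).pow_left k) hk
            (orderOf_dvd_of_pow_eq_one ha)
        exact (Finset.card_le_card h1).trans hm
  · rw [hn]
    exact le_trans (by norm_num) (Nat.pow_le_pow_right (by norm_num) hge)

theorem eight_le_card_four {A : Type*} [CommGroup A] [Finite A] (hA : IsPGroup 2 A)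
    (h8 : 8 ≤ Nat.card A) (h4 : 4 ≤ Nat.card (pk 2 A)) :
    8 ≤ Nat.card (pk 4 A) := by
  classical
  set D2 := (pk 2 A)
  set D4 := (pk 4 A)
  have h2 : ∀ a, a ∈ D2 ↔ a ^ 2 = 1 := fun a => Iff.rfl
  have h44 : ∀ a, a ∈ D4 ↔ a ^ 4 = 1 := fun a => Iff.rfl
  have hle : D2 ≤ D4 := fun a ha => (h44 a).mpr (by
    rw [show (4 : ℕ) = 2 * 2 from rfl, pow_mul, (h2 a).mp ha, one_pow])
  by_cases heq : D4 ≤ D2
  · have hall : ∀ a, a ∈ D2 := by
      intro a
      obtain ⟨k, hk⟩ := hA a
      induction k generalizing a with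
      | zero =>
        rw [pow_zero, pow_one] at hk
        rw [hk]; exact one_mem _
      | succ k ih =>
        have hsq : (a ^ 2) ^ 2 ^ k = 1 := by rw [← pow_mul, ← pow_succ']; exact hk
        have h := (h2 _).mp (ih (a ^ 2) hsq)
        exact heq ((h44 a).mpr (by rw [show (4 : ℕ) = 2 * 2 from rfl, pow_mul]; exact h))
    have : D4 = ⊤ := eq_top_iff.mpr fun a _ => hle (hall a)
    rw [this, Subgroup.card_top]
    exact h8
  · have hdvd := Subgroup.card_dvd_of_le hle
    obtain ⟨c, hc⟩ := hdvd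
    have hne : c ≠ 1 := fun h => heq (by
      rw [Subgroup.eq_of_le_of_card_ge hle (by rw [hc, h, mul_one])])
    have hc0 : c ≠ 0 := fun h => Nat.card_pos.ne' (by rw [hc, h, mul_zero] : Nat.card D4 = 0)
    rw [hc]
    exact le_trans (by norm_num : (8 : ℕ) ≤ 4 * 2) (Nat.mul_le_mul h4 (by omega))

/-- The main count: four divides `t + 1` unless the group is cyclic or `|G : G'| = 4`. -/
theorem card_sq_eq_one_mod_four [Finite G] (hG : IsPGroup 2 G) (hnc : ¬ IsCyclic G)
    (h4 : (commutator G).index ≠ 4) : 4 ∣ Nat.card {s : G // s * s = 1} := by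
  classical
  have := Fintype.ofFinite G
  have := finite_dual (G := G)
  have := Fintype.ofFinite (Cfsg.IrrCharacter G)
  -- the dual group is a non-cyclic 2-group of order at least 8
  have hcard : Nat.card (G →* ℂˣ) = (commutator G).index := by
    rw [← card_linear, Nat.card_congr (linEquiv G)]
  obtain ⟨eAb⟩ := CommGroup.monoidHom_mulEquiv_of_hasEnoughRootsOfUnity (Abelianization G) ℂ
  let eL : (G →* ℂˣ) ≃* Abelianization G :=
    ({ Abelianization.lift (G := G) (A := ℂˣ) with
        map_mul' := fun f g => by ext; rfl } : (G →* ℂˣ) ≃* (Abelianization G →* ℂˣ)).trans eAb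
  have hL : IsPGroup 2 (G →* ℂˣ) := (hG.to_quotient (commutator G)).of_equiv eL.symm
  have hncL : ¬ IsCyclic (G →* ℂˣ) := fun hc => hnc (by
    have : IsCyclic (G ⧸ commutator G) :=
      isCyclic_of_surjective eL eL.surjective
    exact Cfsg.Agent.Lib.PGroups.isCyclic_of_cyclic_quotient_commutator hG)
  have hD2 := four_le_card_sq (G := G) hL hncL
  have hL8 : 8 ≤ Nat.card (G →* ℂˣ) := by
    have h := (hD2.trans (Nat.le_of_dvd Nat.card_pos (Subgroup.card_subgroup_dvd_card _)))
    obtain ⟨n, hn⟩ := IsPGroup.iff_card.mp hL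
    rw [hn] at h ⊢
    have : n ≠ 2 := fun h' => h4 (by rw [← hcard, hn, h']; rfl)
    rcases Nat.lt_or_ge n 2 with h' | h'
    · interval_cases n <;> simp at h
    · exact le_trans (by norm_num) (Nat.pow_le_pow_right (by norm_num) (show 3 ≤ n by omega))
  have hD4 := eight_le_card_four hL hL8 hD2
  have hD2dvd : 4 ∣ Nat.card (pk 2 (G →* ℂˣ)) := by
    obtain ⟨n, hn⟩ := IsPGroup.iff_card.mp
      (hL.to_subgroup (pk 2 (G →* ℂˣ)))
    rw [hn] at hD2 ⊢
    rcases Nat.lt_or_ge n 2 with h' | h'
    · interval_cases n <;> simp at hD2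
    · exact (show (4 : ℕ) = 2 ^ 2 from rfl) ▸ pow_dvd_pow 2 h'
  -- the action on characters
  letI act : MulAction (G →* ℂˣ) (Cfsg.IrrCharacter G) :=
    { smul := tw
      one_smul := fun χ => Subtype.ext (funext fun g => by
        show (tw 1 χ : G → ℂ) g = _
        rw [tw_apply]; simp)
      mul_smul := fun a b χ => Subtype.ext (funext fun g => by
        show (tw (a * b) χ : G → ℂ) g = (tw a (tw b χ) : G → ℂ) g
        rw [tw_apply, tw_apply, tw_apply, MonoidHom.mul_apply, Units.val_mul, mul_assoc]) }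
  have hdeg : ∀ (lam : G →* ℂˣ) (χ : Cfsg.IrrCharacter G),
      (tw lam χ : G → ℂ) 1 = (χ : G → ℂ) 1 := fun lam χ => by simp [tw_apply]
  have hsq : ∀ (lam : G →* ℂˣ), lam ^ 2 = 1 → ∀ g, conj (lam g : ℂ) = (lam g : ℂ) := by
    intro lam h g
    rw [conj_hom]
    refine inv_eq_of_mul_eq_one_right ?_
    rw [← Units.val_mul, ← MonoidHom.mul_apply, ← pow_two, h]
    simp
  set D2 := (pk 2 (G →* ℂˣ)) with hD2def
  set D4 := (pk 4 (G →* ℂˣ)) with hD4def
  let S : SubMulAction D2 (Cfsg.IrrCharacter G) :=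
    { carrier := {χ | (χ : G → ℂ) 1 = 2 ∧ ∀ g, ((χ : G → ℂ) g).im = 0}
      smul_mem' := fun lam χ hχ => by
        refine ⟨(hdeg lam χ).trans hχ.1, fun g => ?_⟩
        show ((tw (lam : G →* ℂˣ) χ : G → ℂ) g).im = 0
        rw [tw_apply, ← Complex.conj_eq_iff_im, map_mul, hsq _ lam.2,
          Complex.conj_eq_iff_im.mpr (hχ.2 g)] }
  let S' : SubMulAction D4 (Cfsg.IrrCharacter G) :=
    { carrier := {χ | ((χ : G → ℂ) 1 = 2 ∧ ∀ g, ((χ : G → ℂ) g).im = 0) ∧
        ∀ lam : G →* ℂˣ, lam ^ 2 = 1 → lam • χ = χ}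
      smul_mem' := fun lam χ hχ => by
        refine ⟨⟨(hdeg lam χ).trans hχ.1.1, fun g => ?_⟩, fun mu hmu => ?_⟩
        · show ((tw (lam : G →* ℂˣ) χ : G → ℂ) g).im = 0
          have h := congrFun (congrArg Subtype.val (hχ.2 ((lam : G →* ℂˣ) ^ 2)
            (by rw [← pow_mul]; exact lam.2))) g
          change (tw ((lam : G →* ℂˣ) ^ 2) χ : G → ℂ) g = _ at h
          rw [tw_apply, MonoidHom.pow_apply, Units.val_pow_eq_pow_val] at h
          rw [tw_apply, ← Complex.conj_eq_iff_im, map_mul, conj_hom,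
            Complex.conj_eq_iff_im.mpr (hχ.1.2 g)]
          conv_lhs => rw [← h]
          have h0 : ((lam : G →* ℂˣ) g : ℂ) ≠ 0 := Units.ne_zero _
          field_simp
        · show mu • ((lam : G →* ℂˣ) • χ) = (lam : G →* ℂˣ) • χ
          rw [smul_smul, mul_comm mu (lam : G →* ℂˣ),
            ← smul_smul, hχ.2 mu hmu] }
  have hS' : 2 ∣ Nat.card S' := by
    have h := (hL.to_subgroup D4).card_modEq_card_fixedPoints S'
    have he : IsEmpty (MulAction.fixedPoints D4 S') := ⟨fun ⟨χ, hχ⟩ => by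
      have h4 := card_le_four D4 χ.1 χ.2.1.1 fun lam hl => congrArg Subtype.val (hχ ⟨lam, hl⟩)
      omega⟩
    rw [Nat.card_of_isEmpty (α := MulAction.fixedPoints D4 S')] at h
    exact Nat.modEq_zero_iff_dvd.mp h
  have hS : 2 ∣ Nat.card S := by
    have h := (hL.to_subgroup D2).card_modEq_card_fixedPoints S
    have e : MulAction.fixedPoints D2 S ≃ S' :=
      { toFun := fun χ => ⟨χ.1.1, χ.1.2, fun lam hl =>
          congrArg Subtype.val (χ.2 ⟨lam, hl⟩)⟩
        invFun := fun χ => ⟨⟨χ.1, χ.2.1⟩, fun lam => Subtype.ext (χ.2.2 lam.1 lam.2)⟩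
        left_inv := fun _ => rfl
        right_inv := fun _ => rfl }
    rw [Nat.card_congr e] at h
    exact Nat.modEq_zero_iff_dvd.mp (h.trans (Nat.modEq_zero_iff_dvd.mpr hS'))
  -- the count
  choose d hd0 hdvd hd using fun χ : Cfsg.IrrCharacter G => Characters.Degree.exists_degree_dvd χ
  set ν : Cfsg.IrrCharacter G → ℂ :=
    fun χ => (Nat.card G : ℂ)⁻¹ * ∑ s : G, (χ : G → ℂ) (s * s) with hν
  have hνlin : ∀ lam : G →* ℂˣ, ν (linChar lam) = if lam * lam = 1 then 1 else 0 := by
    intro lam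
    have h := sum_hom (lam * lam)
    simp only [MonoidHom.mul_apply] at h
    simp only [hν, linChar_apply, map_mul, h]
    split_ifs
    · exact inv_mul_cancel₀ natCard_ne_zero
    · exact mul_zero _
  have hterm : ∀ χ : Cfsg.IrrCharacter G, ∃ z : ℤ, ν χ * (χ : G → ℂ) 1 = z ∧
      (z : ZMod 4) = (if d χ = 1 ∧ ν χ = 1 then 1 else 0) + 2 * (if χ ∈ S then 1 else 0) := by
    intro χ
    obtain ⟨k, hk⟩ : ∃ k, d χ = 2 ^ k := by
      obtain ⟨n, hn⟩ := IsPGroup.iff_card.mp hG
      obtain ⟨k, -, hk⟩ := (Nat.dvd_prime_pow Nat.prime_two).mp (hn ▸ hdvd χ)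
      exact ⟨k, hk⟩
    have hS_iff : χ ∈ S ↔ d χ = 2 ∧ ∀ g, ((χ : G → ℂ) g).im = 0 := by
      show (χ : G → ℂ) 1 = 2 ∧ _ ↔ _
      rw [hd]
      norm_cast
    rcases Nat.lt_or_ge k 2 with hk2 | hk2
    · interval_cases k
      · -- linear
        have hd1 : d χ = 1 := hk
        obtain ⟨lam, hlam⟩ : ∃ lam, linChar lam = χ :=
          ⟨_, congrArg Subtype.val ((linEquiv G).apply_symm_apply ⟨χ, by rw [hd, hd1, Nat.cast_one]⟩)⟩
        have hnS : χ ∉ S := fun h => by have := (hS_iff.mp h).1; omega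
        have hv : ν χ = if lam * lam = 1 then 1 else 0 := hlam ▸ hνlin lam
        rw [hd, hd1, if_neg hnS]
        by_cases hl : lam * lam = 1
        · rw [if_pos hl] at hv
          exact ⟨1, by simp [hv], by simp [hv]⟩
        · rw [if_neg hl] at hv
          exact ⟨0, by simp [hv], by simp [hv]⟩
      · have hd2 : d χ = 2 := hk
        have hn1 : ¬ (d χ = 1 ∧ ν χ = 1) := fun h => by omega
        rw [hd, if_neg hn1, hd2]
        by_cases hreal : ∀ g, ((χ : G → ℂ) g).im = 0
        · rw [if_pos (hS_iff.mpr ⟨hd2, hreal⟩)]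
          rcases (indicator_spec χ).1 hreal with h | h
          · exact ⟨2, by simp only [hν]; rw [h]; norm_num, by norm_num⟩
          · exact ⟨-2, by simp only [hν]; rw [h]; norm_num, by decide⟩
        · rw [if_neg fun h => hreal (hS_iff.mp h).2]
          exact ⟨0, by simp only [hν]; rw [(indicator_spec χ).2 hreal]; norm_num, by norm_num⟩
    · have h4d : 4 ∣ d χ := hk ▸ (show (4 : ℕ) = 2 ^ 2 from rfl) ▸ pow_dvd_pow 2 hk2
      have hn1 : ¬ (d χ = 1 ∧ ν χ = 1) := fun h => by omega
      have hnS : χ ∉ S := fun h => by have := (hS_iff.mp h).1; omega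
      have hz : ((d χ : ℤ) : ZMod 4) = 0 := by
        rw [Int.cast_natCast, ZMod.natCast_eq_zero_iff]
        exact h4d
      rw [hd, if_neg hn1, if_neg hnS]
      by_cases hreal : ∀ g, ((χ : G → ℂ) g).im = 0
      · rcases (indicator_spec χ).1 hreal with h | h
        · exact ⟨d χ, by simp only [hν]; rw [h]; simp, by rw [hz]; simp⟩
        · exact ⟨-(d χ : ℤ), by simp only [hν]; rw [h]; simp, by rw [Int.cast_neg, hz]; simp⟩
      · exact ⟨0, by simp only [hν]; rw [(indicator_spec χ).2 hreal]; simp, by simp⟩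
  choose z hz1 hz2 using hterm
  have hL1 : (Finset.univ.filter fun χ => d χ = 1 ∧ ν χ = 1).card = Nat.card D2 := by
    rw [← Fintype.card_subtype, ← Nat.card_eq_fintype_card]
    refine (Nat.card_congr (Equiv.ofBijective (fun lam : D2 =>
      (⟨linChar lam.1, ?_, ?_⟩ : {χ // d χ = 1 ∧ ν χ = 1})) ⟨?_, ?_⟩)).symm
    · have h := hd (linChar lam.1)
      rw [linChar_apply, map_one, Units.val_one] at h
      exact_mod_cast h.symm
    · rw [hνlin, if_pos ((pow_two lam.1).symm.trans lam.2)]
    · exact fun a b h => Subtype.ext (linChar_injective (congrArg Subtype.val h))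
    · rintro ⟨χ, h1, h2⟩
      obtain ⟨lam, rfl⟩ : ∃ lam, linChar lam = χ :=
        ⟨_, congrArg Subtype.val ((linEquiv G).apply_symm_apply ⟨χ, by rw [hd, h1, Nat.cast_one]⟩)⟩
      have hl : lam * lam = 1 := by
        by_contra hl
        rw [hνlin, if_neg hl] at h2
        exact zero_ne_one h2
      exact ⟨⟨lam, (pow_two lam).trans hl⟩, rfl⟩
  have htot : (Nat.card {s : G // s * s = 1} : ℂ) = ((∑ χ, z χ : ℤ) : ℂ) := by
    rw [card_sq_eq_one, finsum_eq_sum_of_fintype, Int.cast_sum]
    exact Finset.sum_congr rfl fun χ _ => hz1 χ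
  have htot' : (Nat.card {s : G // s * s = 1} : ℤ) = ∑ χ, z χ := by exact_mod_cast htot
  rw [← ZMod.natCast_eq_zero_iff]
  have h := congrArg (fun x : ℤ => (x : ZMod 4)) htot'
  simp only [Int.cast_natCast, Int.cast_sum] at h
  rw [h]
  simp only [hz2]
  rw [Finset.sum_add_distrib, ← Finset.mul_sum, Finset.sum_boole, Finset.sum_boole, hL1,
    show (Finset.univ.filter fun χ => χ ∈ S).card = Nat.card S by
      rw [← Fintype.card_subtype, ← Nat.card_eq_fintype_card]]
  obtain ⟨a, ha⟩ := hS
  obtain ⟨b, hb⟩ := hD2dvd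
  rw [ha, hb]
  push_cast
  rw [show (4 : ZMod 4) = 0 from rfl, ← mul_assoc, show (2 : ZMod 4) * 2 = 0 from rfl]
  simp

end Cfsg.Agent.Lib.BC77.TwoInvCount
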