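import Cfsg.Agent.Lib.Characters.Linear
import Cfsg.Agent.Lib.Characters.Complete
import Mathlib.Algebra.Order.Chebyshev

/-!
# Integer combinations of linear characters of small modulus off the identity
-/

set_option autoImplicit false

namespace Cfsg.Agent.Lib.BC77.TwoValue

open scoped ComplexConjugate

/-- The defect of an integer vector from being constant. -/
def dev {ι : Type*} [Fintype ι] (N : ι → ℤ) : ℤ :=
  (Fintype.card ι : ℤ) * ∑ i, N i ^ 2 - (∑ i, N i) ^ 2

theorem dev_add_const {ι : Type*} [Fintype ι] (N : ι → ℤ) (k : ℤ) :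
    dev (fun i => N i - k) = dev N := by
  simp only [dev, sub_sq, Finset.sum_add_distrib, Finset.sum_sub_distrib, Finset.sum_const,
    Finset.card_univ, ← Finset.sum_mul, ← Finset.mul_sum, nsmul_eq_mul]
  ring

/-- A vector is constant, or its deviation is at least `card - 1`, with equality only for a
constant vector changed by one at a single place. -/
theorem dichotomy {ι : Type*} [Fintype ι] [Nonempty ι] (N : ι → ℤ) :
    (∃ k, ∀ i, N i = k) ∨ ((Fintype.card ι : ℤ) - 1 ≤ dev N ∧
      (dev N = (Fintype.card ι : ℤ) - 1 → ∃ (k δ : ℤ) (i₀ : ι), (δ = 1 ∨ δ = -1) ∧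
        ∀ [DecidableEq ι] (i : ι), N i = k + if i = i₀ then δ else 0)) := by
  classical
  obtain ⟨i₁, -, hmin⟩ := Finset.exists_min_image Finset.univ N Finset.univ_nonempty
  set k := N i₁ with hk
  set U := Finset.univ.filter fun i => N i = k with hU
  set V := Finset.univ.filter fun i => ¬ N i = k with hV
  by_cases hV0 : V = ∅
  · left
    refine ⟨k, fun i => ?_⟩
    by_contra h
    have : i ∈ V := by simp [hV, h]
    simp [hV0] at this
  right
  set d : ι → ℤ := fun i => N i - k with hd
  have hdV : ∀ i ∈ V, 1 ≤ d i := fun i hi => by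
    have h1 := hmin i (Finset.mem_univ i)
    have h2 : ¬ N i = k := (Finset.mem_filter.1 hi).2
    show 1 ≤ N i - k
    omega
  have hdU : ∀ i ∈ U, d i = 0 := fun i hi => by
    show N i - k = 0
    rw [(Finset.mem_filter.1 hi).2, sub_self]
  set r : ℤ := (U.card : ℤ) with hr
  set n : ℤ := (V.card : ℤ) with hn
  have hm : (Fintype.card ι : ℤ) = r + n := by
    rw [hr, hn, hU, hV, ← Nat.cast_add, Finset.card_filter_add_card_filter_not,
      Finset.card_univ]
  have hr1 : 1 ≤ r := by
    rw [hr]
    exact_mod_cast Finset.card_pos.2 ⟨i₁, by simp [hU, hk]⟩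
  have hn1 : 1 ≤ n := by
    rw [hn]
    exact_mod_cast Finset.card_pos.2 (Finset.nonempty_of_ne_empty hV0)
  have hS : ∀ f : ι → ℤ, (∀ i ∈ U, f i = 0) → ∑ i, f i = ∑ i ∈ V, f i := fun f hf => by
    rw [← Finset.sum_filter_add_sum_filter_not Finset.univ (fun i => N i = k),
      Finset.sum_eq_zero hf, zero_add]
  have hdev : dev N = (r + n) * ∑ i ∈ V, d i ^ 2 - (∑ i ∈ V, d i) ^ 2 := by
    rw [← dev_add_const N k, dev, hm, hS _ hdU,
      hS (fun i => d i ^ 2) (fun i hi => by rw [hdU i hi]; ring)]
  have hCS : (∑ i ∈ V, d i) ^ 2 ≤ n * ∑ i ∈ V, d i ^ 2 := by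
    rw [hn]
    exact_mod_cast sq_sum_le_card_mul_sum_sq (s := V) (f := d)
  have hsq : n ≤ ∑ i ∈ V, d i ^ 2 := by
    calc n = ∑ i ∈ V, (1 : ℤ) := by simp [hn]
      _ ≤ _ := Finset.sum_le_sum fun i hi => by nlinarith [hdV i hi]
  have hrn : r + n - 1 ≤ r * n := by nlinarith
  have hge : r * ∑ i ∈ V, d i ^ 2 ≤ dev N := by rw [hdev]; nlinarith
  have hrn' : r * n ≤ r * ∑ i ∈ V, d i ^ 2 := by
    exact mul_le_mul_of_nonneg_left hsq (by omega)
  refine ⟨by omega, fun heq => ?_⟩
  have h1 : r * n = r + n - 1 := by omega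
  have h2 : ∑ i ∈ V, d i ^ 2 = n := by
    have : r * ∑ i ∈ V, d i ^ 2 = r * n := by omega
    exact mul_left_cancel₀ (by omega) this
  have hone : ∀ i ∈ V, d i = 1 := by
    intro i hi
    by_contra h
    have hlt : ∑ j ∈ V, (1 : ℤ) < ∑ j ∈ V, d j ^ 2 := by
      refine Finset.sum_lt_sum (fun j hj => by nlinarith [hdV j hj]) ⟨i, hi, ?_⟩
      have := hdV i hi
      have h2' : 2 ≤ d i := by omega
      nlinarith
    simp [h2, hn] at hlt
  rcases mul_eq_zero.1 (show (r - 1) * (n - 1) = 0 by linear_combination h1) with h | h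
  · obtain ⟨i₀, hi₀⟩ := Finset.card_eq_one.1 (show U.card = 1 by omega)
    refine ⟨k + 1, -1, i₀, Or.inr rfl, ?_⟩
    intro _ i
    split_ifs with he
    · subst he
      have : i ∈ U := by simp [hi₀]
      have := (Finset.mem_filter.1 this).2
      omega
    · have hiV : i ∈ V := by
        refine Finset.mem_filter.2 ⟨Finset.mem_univ _, fun hik => he ?_⟩
        have : i ∈ U := Finset.mem_filter.2 ⟨Finset.mem_univ _, hik⟩
        simpa [hi₀] using this
      have h3 : N i - k = 1 := hone i hiV
      omega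
  · obtain ⟨i₀, hi₀⟩ := Finset.card_eq_one.1 (show V.card = 1 by omega)
    refine ⟨k, 1, i₀, Or.inl rfl, ?_⟩
    intro _ i
    split_ifs with he
    · subst he
      have h3 : N i - k = 1 := hone i (by simp [hi₀])
      omega
    · have : i ∈ U := by
        by_contra hiU
        refine he ?_
        have : i ∈ V := Finset.mem_filter.2 ⟨Finset.mem_univ _,
          fun hik => hiU (Finset.mem_filter.2 ⟨Finset.mem_univ _, hik⟩)⟩
        simpa [hi₀] using this
      have := (Finset.mem_filter.1 this).2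
      omega

theorem dev_nonneg {ι : Type*} [Fintype ι] (N : ι → ℤ) : 0 ≤ dev N := by
  rw [dev, sub_nonneg]
  exact_mod_cast sq_sum_le_card_mul_sum_sq (s := Finset.univ) (f := N)

universe u

variable {S : Type u} [CommGroup S] [Fintype S] [Fintype (Cfsg.IrrCharacter S)]

open Cfsg.Agent.Lib.Characters

/-- The function afforded by an integer combination of the linear characters. -/
noncomputable def val (N : Cfsg.IrrCharacter S → ℤ) (x : S) : ℂ :=
  ∑ l, (N l : ℂ) * (l : S → ℂ) x

theorem card_irr : Fintype.card (Cfsg.IrrCharacter S) = Fintype.card S := by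
  rw [← Nat.card_eq_fintype_card, ← Nat.card_eq_fintype_card,
    Complete.card_irr_eq_card_conjClasses]
  exact Nat.card_congr (ConjClasses.mkEquiv (α := S)).symm

theorem val_one (N : Cfsg.IrrCharacter S → ℤ) : val N 1 = ((∑ l, N l : ℤ) : ℂ) := by
  rw [val, Int.cast_sum]
  exact Finset.sum_congr rfl fun l _ => by rw [Linear.degree_eq_one_of_comm mul_comm l, mul_one]

/-- The squares off the identity sum to the deviation. -/
theorem sum_erase [DecidableEq S] (N : Cfsg.IrrCharacter S → ℤ) :
    ∑ x ∈ Finset.univ.erase (1 : S), val N x * conj (val N x) = ((dev N : ℤ) : ℂ) := by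
  classical
  have h := Finset.add_sum_erase Finset.univ (fun x => val N x * conj (val N x))
    (Finset.mem_univ (1 : S))
  have htot : ∑ x : S, val N x * conj (val N x) = (Fintype.card S : ℂ) * ∑ l, (N l : ℂ) ^ 2 := by
    have hS : (Nat.card S : ℂ) ≠ 0 := Nat.cast_ne_zero.2 Nat.card_pos.ne'
    have hor : ∀ l l' : Cfsg.IrrCharacter S, ∑ x : S, (l : S → ℂ) x * conj ((l' : S → ℂ) x) =
        if l = l' then (Nat.card S : ℂ) else 0 := by
      intro l l'
      have h1 := Basic.classInner_irr l l'
      rw [Cfsg.classInner, inv_mul_eq_iff_eq_mul₀ hS] at h1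
      rw [h1, mul_ite, mul_one, mul_zero]
    simp only [val, map_sum, map_mul, map_intCast, Finset.sum_mul_sum]
    rw [Finset.sum_comm, Finset.mul_sum]
    refine Finset.sum_congr rfl fun l _ => ?_
    rw [Finset.sum_comm, Finset.sum_eq_single l]
    · rw [Finset.sum_congr rfl (g := fun x => ((N l : ℂ) ^ 2) * ((l : S → ℂ) x * conj ((l : S → ℂ) x)))
        (fun x _ => by ring), ← Finset.mul_sum, hor, if_pos rfl, Nat.card_eq_fintype_card, mul_comm]
    · intro l' _ hl'
      rw [Finset.sum_congr rfl (g := fun x => ((N l : ℂ) * (N l' : ℂ)) *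
        ((l : S → ℂ) x * conj ((l' : S → ℂ) x))) (fun x _ => by ring), ← Finset.mul_sum, hor,
        if_neg (Ne.symm hl'), mul_zero]
    · exact fun hx => absurd (Finset.mem_univ l) hx
  rw [htot, val_one, map_intCast] at h
  rw [dev, card_irr]
  push_cast at h ⊢
  linear_combination h

omit [Fintype (Cfsg.IrrCharacter S)] in
theorem sum_irr_eq_zero [Fintype (Cfsg.IrrCharacter S)] {x : S} (hx : x ≠ 1) :
    ∑ l : Cfsg.IrrCharacter S, (l : S → ℂ) x = 0 := by
  classical
  have h := Complete.sum_irr_mul_conj x (1 : S)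
  rw [if_neg (fun hc => hx (isConj_iff_eq.1 hc))] at h
  rw [← h]
  exact Finset.sum_congr rfl fun l _ => by
    rw [Linear.degree_eq_one_of_comm mul_comm l, map_one, mul_one]

/-- A constant combination vanishes off the identity. -/
theorem val_const {N : Cfsg.IrrCharacter S → ℤ} {k : ℤ} (hN : ∀ l, N l = k) {x : S} (hx : x ≠ 1) :
    val N x = 0 := by
  simp only [val, hN, ← Finset.mul_sum, sum_irr_eq_zero hx, mul_zero]

/-- A combination changed at one place is a signed linear character off the identity. -/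
theorem val_single [DecidableEq (Cfsg.IrrCharacter S)] {N : Cfsg.IrrCharacter S → ℤ} {k δ : ℤ}
    {l₀ : Cfsg.IrrCharacter S} (hN : ∀ l, N l = k + if l = l₀ then δ else 0) {x : S} (hx : x ≠ 1) :
    val N x = (δ : ℂ) * (l₀ : S → ℂ) x := by
  classical
  simp only [val, hN, Int.cast_add, add_mul, Finset.sum_add_distrib, ← Finset.mul_sum,
    sum_irr_eq_zero hx, mul_zero, zero_add, apply_ite (fun z : ℤ => (z : ℂ)), Int.cast_zero,
    ite_mul, zero_mul, Finset.sum_ite_eq', Finset.mem_univ, if_true]

end Cfsg.Agent.Lib.BC77.TwoValue
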